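/-
Exact arithmetic with 8×8 matrices over the field with eight elements.
-/
import Mathlib

set_option autoImplicit false

namespace Cfsg.Agent.TrialityTwo

/-- The product table, three bits to an entry. -/
def mulTab : ℕ := 2821848294356612419217921029917578219971947684264937521152

/-- Product of two coded elements; a code is three bits of coordinates. -/
def cm (a b : ℕ) : ℕ := Nat.land (Nat.shiftRight mulTab (3 * (8 * (a % 8) + b % 8))) 7

/-- Sum of two coded elements. -/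
def ca (a b : ℕ) : ℕ := Nat.xor (a % 8) (b % 8)

/-- A matrix is a list of rows. -/
abbrev Mat := List (List ℕ)

def ent (A : Mat) (i j : ℕ) : ℕ := (A.getD i []).getD j 0

def mk (f : ℕ → ℕ → ℕ) : Mat := (List.range 8).map fun i => (List.range 8).map fun j => f i j

theorem ent_mk (f : ℕ → ℕ → ℕ) (i j : Fin 8) : ent (mk f) i j = f i j := by
  fin_cases i <;> fin_cases j <;> rfl

def dot (A B : Mat) (i j : ℕ) : ℕ :=
  ca (ca (ca (cm (ent A i 0) (ent B 0 j)) (cm (ent A i 1) (ent B 1 j)))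
      (ca (cm (ent A i 2) (ent B 2 j)) (cm (ent A i 3) (ent B 3 j))))
    (ca (ca (cm (ent A i 4) (ent B 4 j)) (cm (ent A i 5) (ent B 5 j)))
      (ca (cm (ent A i 6) (ent B 6 j)) (cm (ent A i 7) (ent B 7 j))))

def mulC (A B : Mat) : Mat := mk (dot A B)

def addC (A B : Mat) : Mat := mk fun i j => ca (ent A i j) (ent B i j)

def oneC : Mat := mk fun i j => if i = j then 1 else 0

def zeroC : Mat := mk fun _ _ => 0

def sumC : List Mat → Mat
  | [] => zeroC
  | A :: As => addC A (sumC As)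

def diagC (d : List ℕ) : Mat := mk fun i j => if i = j then d.getD i 0 else 0

/-- The witness that a matrix is not of rank at most one. -/
def minorC (A : Mat) (w : ℕ × ℕ × ℕ × ℕ) : Bool :=
  cm (ent A w.1 w.2.1) (ent A w.2.2.1 w.2.2.2) != cm (ent A w.1 w.2.2.2) (ent A w.2.2.1 w.2.1)

variable {K : Type*} [Field K] [CharP K 2]

/-- The value of a code. -/
def el (α : K) (c : ℕ) : K :=
  match c % 8 with
  | 0 => 0
  | 1 => 1
  | 2 => α
  | 3 => α + 1
  | 4 => α ^ 2
  | 5 => α ^ 2 + 1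
  | 6 => α ^ 2 + α
  | _ => α ^ 2 + α + 1

variable {α : K}

omit [CharP K 2] in
theorem el_mod (c : ℕ) : el α c = el α (c % 8) := by simp only [el, Nat.mod_mod]

theorem el_ca (a b : ℕ) : el α (ca a b) = el α a + el α b := by
  have h2 : (2 : K) = 0 := CharTwo.two_eq_zero
  rw [el_mod a, el_mod b, ca]
  have hx : ∀ x < 8, ∀ y < 8, Nat.xor x y =
      ([0,1,2,3,4,5,6,7,1,0,3,2,5,4,7,6,2,3,0,1,6,7,4,5,3,2,1,0,7,6,5,4,4,5,6,7,0,1,2,3,5,4,7,6,1,0,3,2,6,7,4,5,2,3,0,1,7,6,5,4,3,2,1,0] : List ℕ).getD (8 * x + y) 0 := by decide +kernel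
  rw [hx _ (Nat.mod_lt a (by omega)) _ (Nat.mod_lt b (by omega))]
  have ha := Nat.mod_lt a (show 8 > 0 by omega)
  have hb := Nat.mod_lt b (show 8 > 0 by omega)
  interval_cases a % 8 <;> interval_cases b % 8 <;> simp [el] <;> first | ring1 | grind

theorem el_cm (hα : α ^ 3 = α + 1) (a b : ℕ) : el α (cm a b) = el α a * el α b := by
  have h2 : (2 : K) = 0 := CharTwo.two_eq_zero
  rw [el_mod a, el_mod b, cm]
  have ha := Nat.mod_lt a (show 8 > 0 by omega)
  have hb := Nat.mod_lt b (show 8 > 0 by omega)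
  interval_cases a % 8 <;> interval_cases b % 8 <;> simp [el, mulTab] <;> first | ring1 | grind

/-- The matrix of a code. -/
def ev (α : K) (A : Mat) : Matrix (Fin 8) (Fin 8) K := fun i j => el α (ent A i j)

theorem ev_mk (f : ℕ → ℕ → ℕ) : ev α (mk f) = fun i j : Fin 8 => el α (f i j) := by
  funext i j
  rw [ev, ent_mk]

theorem ev_mulC (hα : α ^ 3 = α + 1) (A B : Mat) : ev α (mulC A B) = ev α A * ev α B := by
  ext i j
  rw [mulC, ev_mk, Matrix.mul_apply, Fin.sum_univ_eight]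
  simp only [dot, el_ca, el_cm hα, ev, Fin.val_zero, Fin.val_one]
  simp only [add_assoc]
  rfl

theorem ev_addC (A B : Mat) : ev α (addC A B) = ev α A + ev α B := by
  rw [addC, ev_mk]
  ext i j
  rw [Matrix.add_apply, el_ca]
  rfl

theorem ev_oneC : ev α oneC = 1 := by
  rw [oneC, ev_mk]
  ext i j
  by_cases h : i = j <;> simp [h, Matrix.one_apply, el, Fin.val_inj]

theorem ev_zeroC : ev α zeroC = 0 := by
  rw [zeroC, ev_mk]
  ext i j
  simp [el]

theorem ev_diagC (d : List ℕ) : ev α (diagC d) = Matrix.diagonal fun i : Fin 8 => el α (d.getD i 0) := by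
  rw [diagC, ev_mk]
  ext i j
  by_cases h : i = j <;> simp [h, el, Fin.val_inj, Matrix.diagonal_apply]

theorem ev_sumC (L : List Mat) : ev α (sumC L) = (L.map (ev α)).sum := by
  induction L with
  | nil => simpa [sumC] using ev_zeroC
  | cons A L ih => simp [sumC, ev_addC, ih]

/-- Codes of elements separate values. -/
theorem el_inj (hα : α ^ 3 = α + 1) {a b : ℕ} (ha : a < 8) (hb : b < 8) (h : el α a = el α b) : a = b := by
  have h0 : el α (ca a b) = 0 := by rw [el_ca, h, CharTwo.add_self_eq_zero]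
  have key : ∀ c < 8, c ≠ 0 → el α c ≠ 0 := by
    intro c hc hc0 hz
    have hinv : ∀ c < 8, c ≠ 0 → ∃ d < 8, cm c d = 1 := by decide +kernel
    obtain ⟨d, -, hd⟩ := hinv c hc hc0
    have := el_cm hα c d
    rw [hd, hz, zero_mul] at this
    simp [el] at this
  have hz : ∀ a < 8, ∀ b < 8, ca a b < 8 ∧ (ca a b = 0 → a = b) := by decide +kernel
  obtain ⟨h1, h2⟩ := hz a ha b hb
  exact h2 (by_contra fun hne => key _ h1 hne h0)

theorem cm_lt (a b : ℕ) : cm a b < 8 := by
  have h : ∀ a < 8, ∀ b < 8, Nat.land (Nat.shiftRight mulTab (3 * (8 * a + b))) 7 < 8 := by decide +kernel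
  exact h _ (Nat.mod_lt _ (by omega)) _ (Nat.mod_lt _ (by omega))

/-- A matrix is of rank at most one. -/
def R1 (M : Matrix (Fin 8) (Fin 8) K) : Prop := ∃ x y, M = Matrix.vecMulVec x y

omit [CharP K 2] in
theorem R1.minor {M : Matrix (Fin 8) (Fin 8) K} (h : R1 M) (i j k l : Fin 8) :
    M i j * M k l = M i l * M k j := by
  obtain ⟨x, y, rfl⟩ := h
  simp only [Matrix.vecMulVec_apply]
  ring

omit [CharP K 2] in
theorem R1.mul_mul {M : Matrix (Fin 8) (Fin 8) K} (h : R1 M) (A B : Matrix (Fin 8) (Fin 8) K) :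
    R1 (A * M * B) := by
  obtain ⟨x, y, rfl⟩ := h
  exact ⟨A.mulVec x, Matrix.vecMul y B, by rw [Matrix.mul_vecMulVec, Matrix.vecMulVec_mul]⟩

theorem not_R1 (hα : α ^ 3 = α + 1) {A : Mat} {w : ℕ × ℕ × ℕ × ℕ}
    (hw : w.1 < 8 ∧ w.2.1 < 8 ∧ w.2.2.1 < 8 ∧ w.2.2.2 < 8) (h : minorC A w = true) : ¬ R1 (ev α A) := by
  intro hr
  have := hr.minor ⟨_, hw.1⟩ ⟨_, hw.2.1⟩ ⟨_, hw.2.2.1⟩ ⟨_, hw.2.2.2⟩
  simp only [ev, ← el_cm hα] at this
  have := el_inj hα (cm_lt _ _) (cm_lt _ _) this
  simp [minorC, this] at h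

/-- A root of `x³ + x + 1` in a field with eight elements. -/
theorem exists_gen (F : Type*) [Field F] [Fintype F] [CharP F 2] (hF : Fintype.card F = 8) :
    ∃ α : F, α ^ 3 = α + 1 := by
  classical
  obtain ⟨x, hx⟩ : ∃ x : F, x ∉ ({0, 1} : Finset F) := by
    by_contra h
    push Not at h
    have : (Finset.univ : Finset F).card ≤ ({0, 1} : Finset F).card := Finset.card_le_card fun y _ => h y
    rw [Finset.card_univ, hF] at this
    exact absurd (this.trans Finset.card_le_two) (by omega)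
  simp only [Finset.mem_insert, Finset.mem_singleton, not_or] at hx
  have h7 : x ^ 7 = 1 := by
    have := FiniteField.pow_card_sub_one_eq_one x hx.1
    rwa [hF] at this
  have h2 : (2 : F) = 0 := CharTwo.two_eq_zero
  have hp : (x - 1) * ((x ^ 3 + x + 1) * (x ^ 3 + x ^ 2 + 1)) = 0 := by
    linear_combination h7 + (-x ^ 4 + x ^ 3) * 0 + (x ^ 4 - x ^ 3) * h2
  rcases mul_eq_zero.1 hp with e | e
  · exact absurd (sub_eq_zero.1 e) hx.2
  rcases mul_eq_zero.1 e with e | e
  · exact ⟨x, by linear_combination e - (x + 1) * h2⟩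
  · refine ⟨x⁻¹, ?_⟩
    have h0 := hx.1
    field_simp
    linear_combination (-1 : F) * e + (1 : F) * h2

end Cfsg.Agent.TrialityTwo
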