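/-
Linear algebra in characteristic two around sums of powers.
-/
import Cfsg.Agent.Lib.TrialityTwo.Code

set_option autoImplicit false
set_option linter.unusedSectionVars false

namespace Cfsg.Agent.TrialityTwo

section Ring

variable {R : Type*} [Ring R] [CharP R 2]

theorem geom_split (g : R) (m q : ℕ) :
    ∑ i ∈ Finset.range (m * q), g ^ i = (∑ b ∈ Finset.range m, (g ^ q) ^ b) * ∑ a ∈ Finset.range q, g ^ a := by
  induction m with
  | zero => simp
  | succ m ih =>
    rw [Nat.succ_mul, Finset.sum_range_add, ih, Finset.sum_range_succ, add_mul, Finset.mul_sum _ _ ((g ^ q) ^ m)]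
    congr 1
    refine Finset.sum_congr rfl fun a _ => ?_
    rw [← pow_mul, Nat.mul_comm q, ← pow_add]

theorem geom_two_pow (g : R) (k : ℕ) :
    ∑ a ∈ Finset.range (2 ^ k), g ^ a = (1 + g) ^ (2 ^ k - 1) := by
  induction k with
  | zero => simp
  | succ k ih =>
    rw [pow_succ', geom_split, ih, Finset.sum_range_succ, Finset.sum_range_one, pow_zero, pow_one]
    haveI : Fact (Nat.Prime 2) := ⟨Nat.prime_two⟩
    have := add_pow_char_pow_of_commute (R := R) 2 k (x := 1) (y := g) (Commute.one_left g)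
    rw [one_pow] at this
    rw [← this, ← pow_add]
    congr 1
    have := Nat.one_le_two_pow (n := k)
    omega

theorem mul_geom_self {s : R} {m : ℕ} (hs : s ^ m = 1) :
    (∑ b ∈ Finset.range m, s ^ b) * s = ∑ b ∈ Finset.range m, s ^ b := by
  have := geom_sum_mul s m
  rwa [hs, sub_self, mul_sub, mul_one, sub_eq_zero] at this

theorem geom_mul_pow {s : R} {m : ℕ} (hs : s ^ m = 1) (j : ℕ) :
    (∑ b ∈ Finset.range m, s ^ b) * s ^ j = ∑ b ∈ Finset.range m, s ^ b := by
  induction j with
  | zero => simp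
  | succ j ih => rw [pow_succ, ← mul_assoc, ih, mul_geom_self hs]

theorem geom_idem {s : R} {m : ℕ} (hm : Odd m) (hs : s ^ m = 1) :
    (∑ b ∈ Finset.range m, s ^ b) * (∑ b ∈ Finset.range m, s ^ b) = ∑ b ∈ Finset.range m, s ^ b := by
  rw [Finset.mul_sum]
  simp only [geom_mul_pow hs, Finset.sum_const, Finset.card_range]
  obtain ⟨c, rfl⟩ := hm
  rw [add_nsmul, Nat.mul_comm, mul_nsmul, two_nsmul, one_nsmul]
  simp [CharTwo.add_self_eq_zero]

/-- The sum of the powers of an element of order `m · 2ᵏ`. -/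
theorem geom_decomp (g : R) (m k e c : ℕ) (hg : g ^ (m * 2 ^ k) = 1) (he : e = 1 + c * 2 ^ k) :
    ∑ i ∈ Finset.range (m * 2 ^ k), g ^ i =
      (∑ b ∈ Finset.range m, (g ^ 2 ^ k) ^ b) * (1 + g ^ e) ^ (2 ^ k - 1) := by
  have hs : (g ^ 2 ^ k) ^ m = 1 := by rw [← pow_mul, Nat.mul_comm, hg]
  set P := ∑ b ∈ Finset.range m, (g ^ 2 ^ k) ^ b with hP
  rw [geom_split, geom_two_pow, ← hP]
  have hPg : P * (1 + g ^ e) = P * (1 + g) := by
    rw [mul_add, mul_add, he, add_comm 1, pow_succ, ← mul_assoc, Nat.mul_comm c, pow_mul, geom_mul_pow hs]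
  have hc : Commute P g := Commute.sum_left _ _ _ fun b _ => ((Commute.refl g).pow_left _).pow_left _
  induction (2 ^ k - 1) with
  | zero => simp
  | succ j ih =>
    have h1 : Commute P ((1 + g ^ e)) := (Commute.one_right P).add_right (hc.pow_right _)
    have h2 : Commute P (1 + g) := (Commute.one_right P).add_right hc
    calc P * (1 + g) ^ (j + 1) = P * (1 + g) * (1 + g) ^ j := by rw [pow_succ', mul_assoc]
      _ = (1 + g) * (P * (1 + g) ^ j) := by rw [h2.eq, mul_assoc]
      _ = (1 + g) * (P * (1 + g ^ e) ^ j) := by rw [ih]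
      _ = P * (1 + g) * (1 + g ^ e) ^ j := by rw [h2.eq, mul_assoc]
      _ = P * (1 + g ^ e) ^ (j + 1) := by rw [← hPg, pow_succ', mul_assoc]

end Ring

variable {K : Type*} [Field K]

open Matrix

/-- The height of a basis vector. -/
def ht8 : Fin 8 → ℤ := ![3, 2, 1, 0, -3, -2, -1, 0]

/-- Entries drop the height by at least `d`. -/
def Below (d : ℤ) (M : Matrix (Fin 8) (Fin 8) K) : Prop := ∀ i j, M i j ≠ 0 → ht8 j + d ≤ ht8 i

theorem Below.mul {a b : ℤ} {M N : Matrix (Fin 8) (Fin 8) K} (hM : Below a M) (hN : Below b N) :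
    Below (a + b) (M * N) := by
  intro i j h
  rw [Matrix.mul_apply] at h
  obtain ⟨x, -, hx⟩ := Finset.exists_ne_zero_of_sum_ne_zero h
  have h1 := hM i x (left_ne_zero_of_mul hx)
  have h2 := hN x j (right_ne_zero_of_mul hx)
  linarith

theorem Below.add {a : ℤ} {M N : Matrix (Fin 8) (Fin 8) K} (hM : Below a M) (hN : Below a N) :
    Below a (M + N) := by
  intro i j h
  by_cases hm : M i j = 0
  · exact hN i j fun hn => h (by simp [hm, hn])
  · exact hM i j hm

theorem Below.pow {M : Matrix (Fin 8) (Fin 8) K} (hM : Below 1 M) (n : ℕ) : Below n (M ^ n) := by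
  induction n with
  | zero =>
    intro i j h
    by_cases e : i = j
    · subst e; simp
    · simp [e] at h
  | succ n ih => rw [pow_succ]; push_cast; exact ih.mul hM

theorem Below.eq_zero {d : ℤ} (hd : 7 ≤ d) {M : Matrix (Fin 8) (Fin 8) K} (hM : Below d M) : M = 0 := by
  ext i j
  by_contra h
  have := hM i j h
  have h3 : ∀ i : Fin 8, -3 ≤ ht8 i ∧ ht8 i ≤ 3 := by decide +kernel
  linarith [(h3 i).2, (h3 j).1]

/-- The range of the linear map. -/
noncomputable def rg (M : Matrix (Fin 8) (Fin 8) K) : Submodule K (Fin 8 → K) := LinearMap.range M.mulVecLin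

theorem rg_mul_le (A B : Matrix (Fin 8) (Fin 8) K) : rg (A * B) ≤ rg A := by
  rw [rg, Matrix.mulVecLin_mul]; exact LinearMap.range_comp_le_range _ _

theorem rg_mul (A B : Matrix (Fin 8) (Fin 8) K) : rg (A * B) = (rg B).map A.mulVecLin := by
  rw [rg, rg, Matrix.mulVecLin_mul, LinearMap.range_comp]

theorem eq_zero_of_rg {M : Matrix (Fin 8) (Fin 8) K} (h : rg M = ⊥) : M = 0 := by
  rw [rg, LinearMap.range_eq_bot] at h
  exact Matrix.ext_of_mulVec_single fun i => by rw [Matrix.zero_mulVec]; exact LinearMap.congr_fun h _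

theorem finrank_diag_le {X Y : Matrix (Fin 8) (Fin 8) K} {r : ℕ}
    (hX : ∀ i j : Fin 8, r ≤ j.val → X i j = 0) : Module.finrank K (rg (X * Y)) ≤ r := by
  classical
  refine (Submodule.finrank_mono (rg_mul_le X Y)).trans ?_
  have e : X = X * Matrix.diagonal (fun j : Fin 8 => if j.val < r then 1 else 0) := by
    ext i j
    rw [Matrix.mul_diagonal]
    split_ifs with h
    · rw [mul_one]
    · rw [mul_zero, hX i j (by omega)]
  rw [show Module.finrank K (rg X) = X.rank from rfl, e]
  refine (Matrix.rank_mul_le_right _ _).trans ?_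
  rw [Matrix.rank_diagonal, Fintype.card_subtype]
  calc (Finset.univ.filter fun j : Fin 8 => (if j.val < r then (1 : K) else 0) ≠ 0).card
      ≤ ((Finset.univ.filter fun j : Fin 8 => j.val < r).image Fin.val).card := by
        rw [Finset.card_image_of_injective _ Fin.val_injective]
        refine Finset.card_le_card fun j hj => ?_
        simp only [Finset.mem_filter, Finset.mem_univ, true_and] at hj ⊢
        by_contra h
        exact hj (if_neg h)
    _ ≤ (Finset.range r).card := Finset.card_le_card fun x hx => by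
        simp only [Finset.mem_image, Finset.mem_filter] at hx
        obtain ⟨j, ⟨-, h⟩, rfl⟩ := hx
        exact Finset.mem_range.2 h
    _ = r := Finset.card_range r

/-- A nilpotent map loses dimension at each step on an invariant image. -/
theorem finrank_pow_le {N P : Matrix (Fin 8) (Fin 8) K} {r : ℕ} (hN : N ^ 8 = 0) (hc : Commute N P)
    (hr : Module.finrank K (rg P) ≤ r) (i : ℕ) : Module.finrank K (rg (N ^ i * P)) ≤ r - i := by
  induction i with
  | zero => rwa [pow_zero, one_mul, Nat.sub_zero]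
  | succ i ih =>
    have hle : rg (N ^ (i + 1) * P) ≤ rg (N ^ i * P) := by
      rw [pow_succ, mul_assoc, hc.eq, ← mul_assoc]; exact rg_mul_le _ _
    by_cases heq : rg (N ^ (i + 1) * P) = rg (N ^ i * P)
    · have hall : ∀ j, rg (N ^ (i + j) * P) = rg (N ^ i * P) := by
        intro j
        induction j with
        | zero => rfl
        | succ j ihj =>
          rw [← heq, ← add_assoc, pow_succ', mul_assoc, rg_mul, ihj, ← rg_mul, ← mul_assoc, ← pow_succ']
      have h0 : rg (N ^ (i + 1) * P) = ⊥ := by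
        rw [heq, ← hall 8, pow_add, hN, mul_zero, zero_mul, rg, Matrix.mulVecLin_zero, LinearMap.range_zero]
      rw [h0, finrank_bot]
      omega
    · have := Submodule.finrank_lt_finrank_of_lt (lt_of_le_of_ne hle heq)
      omega

theorem pow_mul_eq_zero {N P : Matrix (Fin 8) (Fin 8) K} {r : ℕ} (hN : N ^ 8 = 0) (hc : Commute N P)
    (hr : Module.finrank K (rg P) ≤ r) : N ^ r * P = 0 := by
  refine eq_zero_of_rg (Submodule.finrank_eq_zero.1 ?_)
  have := finrank_pow_le hN hc hr r
  omega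

theorem R1_of_finrank {M : Matrix (Fin 8) (Fin 8) K} (h : Module.finrank K (rg M) ≤ 1) : R1 M := by
  obtain ⟨⟨x, hx⟩, hall⟩ := finrank_le_one_iff.1 h
  choose c hc using fun j : Fin 8 => hall ⟨M.mulVecLin (Pi.single j 1), LinearMap.mem_range_self _ _⟩
  refine ⟨x, c, ?_⟩
  ext i j
  have := congrFun (congrArg Subtype.val (hc j)) i
  simp [Matrix.mulVecLin_apply] at this
  rw [Matrix.vecMulVec_apply, ← this, mul_comm]

/-- The part of the cube outside the fixed space of an element of order three vanishes. -/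
theorem cube_moved_zero [CharP K 2] (hK : ∀ c : K, c ^ 3 = 1 → c = 1) {s N Q : Matrix (Fin 8) (Fin 8) K}
    (hQ : Q = 1 + (1 + s + s ^ 2)) (hPP : (1 + s + s ^ 2) * (1 + s + s ^ 2) = 1 + s + s ^ 2)
    (hs : s ^ 3 = 1) (hcN : Commute s N) (hN : N ^ 8 = 0) (hr : Module.finrank K (rg Q) ≤ 4) :
    N ^ 3 * Q = 0 := by
  have hsQ : Commute s Q := by
    rw [hQ]
    exact (Commute.one_right s).add_right
      (((Commute.one_right s).add_right (Commute.refl s)).add_right ((Commute.refl s).pow_right 2))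
  have hNQ : Commute N Q := by
    rw [hQ]
    exact (Commute.one_right N).add_right
      (((Commute.one_right N).add_right hcN.symm).add_right (hcN.symm.pow_right 2))
  have hs3 : Commute s (N ^ 3 * Q) := (hcN.pow_right 3).mul_right hsQ
  have hd := finrank_pow_le hN hNQ hr 3
  obtain ⟨⟨x, hx⟩, hall⟩ := finrank_le_one_iff.1 hd
  refine eq_zero_of_rg (eq_bot_iff.2 fun w hw => ?_)
  obtain ⟨a, ha⟩ := hall ⟨w, hw⟩
  have hwx : a • x = w := congrArg Subtype.val ha
  obtain ⟨v, hv⟩ := hx
  simp only [Matrix.mulVecLin_apply] at hv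
  by_cases hx0 : x = 0
  · simp [← hwx, hx0]
  exfalso
  have hsx : s *ᵥ x ∈ rg (N ^ 3 * Q) := ⟨s *ᵥ v, by
    rw [Matrix.mulVecLin_apply, ← hv, Matrix.mulVec_mulVec, Matrix.mulVec_mulVec, hs3.eq]⟩
  obtain ⟨c, hc⟩ := hall ⟨_, hsx⟩
  have hcx : s *ᵥ x = c • x := (congrArg Subtype.val hc).symm
  have hc3 : c ^ 3 = 1 := by
    have : (s ^ 3) *ᵥ x = c ^ 3 • x := by
      rw [pow_succ, pow_two, ← Matrix.mulVec_mulVec, hcx, Matrix.mulVec_smul, ← Matrix.mulVec_mulVec, hcx,
        Matrix.mulVec_smul, hcx, smul_smul, smul_smul]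
      congr 1
      ring
    rw [hs, Matrix.one_mulVec] at this
    by_contra hne
    apply hx0
    have h2 : (c ^ 3 - 1) • x = 0 := by rw [sub_smul, one_smul, ← this, sub_self]
    exact (smul_eq_zero.1 h2).resolve_left (sub_ne_zero.2 hne)
  have hsx1 : s *ᵥ x = x := by rw [hcx, hK c hc3, one_smul]
  have hPQ : (1 + s + s ^ 2) * Q = 0 := by rw [hQ, mul_add, mul_one, hPP, CharTwo.add_self_eq_zero]
  have hPx : (1 + s + s ^ 2) *ᵥ x = 0 := by
    have hPN : Commute (1 + s + s ^ 2) (N ^ 3) :=
      ((Commute.one_left N).add_left hcN |>.add_left (hcN.pow_left 2)).pow_right 3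
    rw [← hv, Matrix.mulVec_mulVec, ← mul_assoc, hPN.eq, mul_assoc, hPQ, mul_zero, Matrix.zero_mulVec]
  rw [Matrix.add_mulVec, Matrix.add_mulVec, Matrix.one_mulVec, pow_two, ← Matrix.mulVec_mulVec, hsx1, hsx1,
    show x + x = 0 from funext fun i => CharTwo.add_self_eq_zero (x i), zero_add] at hPx
  exact hx0 hPx

end Cfsg.Agent.TrialityTwo
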