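/-
Explicit elements of ³D₄(2) in eight dimensions, with certificates.
-/
import Cfsg.Agent.Lib.TrialityTwo.Code

set_option autoImplicit false

namespace Cfsg.Agent.TrialityTwo

def gensC : List Mat := [
  [[1,0,0,0,0,0,0,0],[0,1,1,0,0,0,0,0],[0,0,1,0,0,0,0,0],[0,0,0,1,0,0,0,0],[0,0,0,0,1,0,0,0],[0,0,0,0,0,1,0,0],[0,0,0,0,0,1,1,0],[0,0,0,0,0,0,0,1]],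
  [[1,0,0,0,0,0,0,0],[0,1,0,0,0,0,0,0],[0,1,1,0,0,0,0,0],[0,0,0,1,0,0,0,0],[0,0,0,0,1,0,0,0],[0,0,0,0,0,1,1,0],[0,0,0,0,0,0,1,0],[0,0,0,0,0,0,0,1]],
  [[1,1,0,0,0,0,0,0],[0,1,0,0,0,0,0,0],[0,0,1,1,0,0,1,1],[0,0,0,1,0,0,1,0],[0,0,0,0,1,0,0,0],[0,0,0,0,1,1,0,0],[0,0,0,0,0,0,1,0],[0,0,0,0,0,0,1,1]],
  [[1,2,0,0,0,0,0,0],[0,1,0,0,0,0,0,0],[0,0,1,4,0,0,5,6],[0,0,0,1,0,0,6,0],[0,0,0,0,1,0,0,0],[0,0,0,0,2,1,0,0],[0,0,0,0,0,0,1,0],[0,0,0,0,0,0,4,1]],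
  [[1,3,0,0,0,0,0,0],[0,1,0,0,0,0,0,0],[0,0,1,5,0,0,6,7],[0,0,0,1,0,0,7,0],[0,0,0,0,1,0,0,0],[0,0,0,0,3,1,0,0],[0,0,0,0,0,0,1,0],[0,0,0,0,0,0,5,1]],
  [[1,4,0,0,0,0,0,0],[0,1,0,0,0,0,0,0],[0,0,1,6,0,0,7,2],[0,0,0,1,0,0,2,0],[0,0,0,0,1,0,0,0],[0,0,0,0,4,1,0,0],[0,0,0,0,0,0,1,0],[0,0,0,0,0,0,6,1]],
  [[1,5,0,0,0,0,0,0],[0,1,0,0,0,0,0,0],[0,0,1,7,0,0,2,3],[0,0,0,1,0,0,3,0],[0,0,0,0,1,0,0,0],[0,0,0,0,5,1,0,0],[0,0,0,0,0,0,1,0],[0,0,0,0,0,0,7,1]],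
  [[1,6,0,0,0,0,0,0],[0,1,0,0,0,0,0,0],[0,0,1,2,0,0,3,4],[0,0,0,1,0,0,4,0],[0,0,0,0,1,0,0,0],[0,0,0,0,6,1,0,0],[0,0,0,0,0,0,1,0],[0,0,0,0,0,0,2,1]],
  [[1,7,0,0,0,0,0,0],[0,1,0,0,0,0,0,0],[0,0,1,3,0,0,4,5],[0,0,0,1,0,0,5,0],[0,0,0,0,1,0,0,0],[0,0,0,0,7,1,0,0],[0,0,0,0,0,0,1,0],[0,0,0,0,0,0,3,1]],
  [[1,0,0,0,0,0,0,0],[1,1,0,0,0,0,0,0],[0,0,1,0,0,0,0,0],[0,0,1,1,0,0,0,0],[0,0,0,0,1,1,0,0],[0,0,0,0,0,1,0,0],[0,0,1,1,0,0,1,1],[0,0,1,0,0,0,0,1]],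
  [[1,0,0,0,0,0,0,0],[2,1,0,0,0,0,0,0],[0,0,1,0,0,0,0,0],[0,0,4,1,0,0,0,0],[0,0,0,0,1,2,0,0],[0,0,0,0,0,1,0,0],[0,0,5,6,0,0,1,4],[0,0,6,0,0,0,0,1]],
  [[1,0,0,0,0,0,0,0],[3,1,0,0,0,0,0,0],[0,0,1,0,0,0,0,0],[0,0,5,1,0,0,0,0],[0,0,0,0,1,3,0,0],[0,0,0,0,0,1,0,0],[0,0,6,7,0,0,1,5],[0,0,7,0,0,0,0,1]],
  [[1,0,0,0,0,0,0,0],[4,1,0,0,0,0,0,0],[0,0,1,0,0,0,0,0],[0,0,6,1,0,0,0,0],[0,0,0,0,1,4,0,0],[0,0,0,0,0,1,0,0],[0,0,7,2,0,0,1,6],[0,0,2,0,0,0,0,1]],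
  [[1,0,0,0,0,0,0,0],[5,1,0,0,0,0,0,0],[0,0,1,0,0,0,0,0],[0,0,7,1,0,0,0,0],[0,0,0,0,1,5,0,0],[0,0,0,0,0,1,0,0],[0,0,2,3,0,0,1,7],[0,0,3,0,0,0,0,1]],
  [[1,0,0,0,0,0,0,0],[6,1,0,0,0,0,0,0],[0,0,1,0,0,0,0,0],[0,0,2,1,0,0,0,0],[0,0,0,0,1,6,0,0],[0,0,0,0,0,1,0,0],[0,0,3,4,0,0,1,2],[0,0,4,0,0,0,0,1]],
  [[1,0,0,0,0,0,0,0],[7,1,0,0,0,0,0,0],[0,0,1,0,0,0,0,0],[0,0,3,1,0,0,0,0],[0,0,0,0,1,7,0,0],[0,0,0,0,0,1,0,0],[0,0,4,5,0,0,1,3],[0,0,5,0,0,0,0,1]]]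

def gensThree : List (List (ℕ × Mat)) := [
  [(10, [[1,0,0,0,0,0,0,0],[2,1,0,0,0,0,0,0],[0,0,1,0,0,0,0,0],[0,0,4,1,0,0,0,0],[0,0,0,0,1,2,0,0],[0,0,0,0,0,1,0,0],[0,0,5,6,0,0,1,4],[0,0,6,0,0,0,0,1]]),
   (5, [[1,4,0,0,0,0,0,0],[2,2,0,0,0,0,0,0],[0,0,1,6,0,0,7,2],[0,0,4,4,0,0,3,3],[0,0,0,0,2,2,0,0],[0,0,0,0,4,1,0,0],[0,0,5,5,0,0,5,5],[0,0,6,2,0,0,2,6]]),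
   (2, [[1,5,0,0,0,0,0,0],[2,0,0,0,0,0,0,0],[0,0,1,7,0,0,2,3],[0,0,4,0,0,0,0,7],[0,0,0,0,0,2,0,0],[0,0,0,0,5,1,0,0],[0,0,5,0,0,0,0,0],[0,0,6,4,0,0,0,0]])],
  [(0, [[1,0,0,0,0,0,0,0],[0,1,1,0,0,0,0,0],[0,0,1,0,0,0,0,0],[0,0,0,1,0,0,0,0],[0,0,0,0,1,0,0,0],[0,0,0,0,0,1,0,0],[0,0,0,0,0,1,1,0],[0,0,0,0,0,0,0,1]]),
   (8, [[1,7,0,0,0,0,0,0],[0,1,1,3,0,0,4,5],[0,0,1,3,0,0,4,5],[0,0,0,1,0,0,5,0],[0,0,0,0,1,0,0,0],[0,0,0,0,7,1,0,0],[0,0,0,0,7,1,1,0],[0,0,0,0,0,0,3,1]]),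
   (12, [[0,7,0,0,0,0,0,0],[4,1,0,0,0,0,4,0],[0,0,0,0,0,0,4,0],[0,0,0,0,0,0,5,3],[0,0,0,0,1,4,0,0],[0,0,0,0,7,0,0,0],[0,0,7,2,7,0,1,6],[0,0,0,6,0,0,3,0]]),
   (6, [[0,7,0,0,0,0,0,0],[4,3,0,0,0,0,4,0],[0,0,0,0,0,0,4,0],[0,0,0,0,0,0,7,3],[0,0,0,0,3,4,0,0],[0,0,0,0,7,0,0,0],[0,0,7,1,7,0,6,4],[0,0,0,6,0,0,2,0]]),
   (6, [[0,7,0,0,0,0,0,0],[4,1,0,0,0,0,4,0],[0,0,0,0,0,0,4,0],[0,0,0,0,0,0,5,3],[0,0,0,0,1,4,0,0],[0,0,0,0,7,0,0,0],[0,0,7,2,7,0,1,6],[0,0,0,6,0,0,3,0]]),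
   (9, [[7,7,0,0,0,0,0,0],[5,1,4,4,0,0,4,4],[0,0,4,4,0,0,4,4],[0,0,6,5,0,0,5,6],[0,0,0,0,1,5,0,0],[0,0,0,0,7,7,0,0],[0,0,2,3,7,7,1,7],[0,0,5,5,0,0,3,3]]),
   (10, [[2,7,0,0,0,0,0,0],[7,1,5,1,0,0,4,2],[0,0,5,1,0,0,4,2],[0,0,1,6,0,0,5,4],[0,0,0,0,1,7,0,0],[0,0,0,0,7,2,0,0],[0,0,4,5,7,2,1,3],[0,0,2,4,0,0,3,4]]),
   (8, [[2,2,0,0,0,0,0,0],[7,2,5,5,0,0,5,5],[0,0,5,5,0,0,5,5],[0,0,1,5,0,0,5,1],[0,0,0,0,2,7,0,0],[0,0,0,0,2,2,0,0],[0,0,4,2,2,2,5,1],[0,0,2,2,0,0,5,5]]),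
   (10, [[6,2,0,0,0,0,0,0],[3,2,3,6,0,0,5,7],[0,0,3,6,0,0,5,7],[0,0,2,6,0,0,5,3],[0,0,0,0,2,3,0,0],[0,0,0,0,2,6,0,0],[0,0,6,1,2,6,5,3],[0,0,5,1,0,0,5,7]]),
   (4, [[6,3,0,0,0,0,0,0],[3,7,3,2,0,0,6,5],[0,0,3,2,0,0,6,5],[0,0,2,7,0,0,2,6],[0,0,0,0,7,3,0,0],[0,0,0,0,3,6,0,0],[0,0,6,2,3,6,4,7],[0,0,5,6,0,0,7,1]]),
   (2, [[6,5,0,0,0,0,0,0],[3,4,3,1,0,0,2,6],[0,0,3,1,0,0,2,6],[0,0,2,5,0,0,1,4],[0,0,0,0,4,3,0,0],[0,0,0,0,5,6,0,0],[0,0,6,4,5,6,7,1],[0,0,5,3,0,0,5,4]]),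
   (11, [[2,5,0,0,0,0,0,0],[4,4,5,4,0,0,2,7],[0,0,5,4,0,0,2,7],[0,0,2,2,0,0,1,1],[0,0,0,0,4,4,0,0],[0,0,0,0,5,2,0,0],[0,0,7,7,5,2,7,7],[0,0,3,5,0,0,5,3]]),
   (12, [[0,5,0,0,0,0,0,0],[2,4,0,0,0,0,2,0],[0,0,0,0,0,0,2,0],[0,0,0,0,0,0,1,7],[0,0,0,0,4,2,0,0],[0,0,0,0,5,0,0,0],[0,0,5,2,5,0,7,3],[0,0,0,4,0,0,5,0]]),
   (10, [[1,5,0,0,0,0,0,0],[1,4,1,7,0,0,2,3],[0,0,1,7,0,0,2,3],[0,0,1,6,0,0,1,3],[0,0,0,0,4,1,0,0],[0,0,0,0,5,1,0,0],[0,0,1,6,5,1,7,2],[0,0,1,7,0,0,5,2]]),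
   (4, [[1,6,0,0,0,0,0,0],[1,7,1,2,0,0,3,4],[0,0,1,2,0,0,3,4],[0,0,1,3,0,0,7,4],[0,0,0,0,7,1,0,0],[0,0,0,0,6,1,0,0],[0,0,1,3,6,1,4,5],[0,0,1,2,0,0,1,5]]),
   (0, [[1,6,6,0,0,0,0,0],[1,7,6,2,0,3,3,4],[0,0,1,2,0,3,3,4],[0,0,1,3,0,7,7,4],[0,0,0,0,7,1,0,0],[0,0,0,0,6,1,0,0],[0,0,1,3,6,5,4,5],[0,0,1,2,0,1,1,5]]),
   (10, [[6,6,6,0,0,0,0,0],[4,7,4,3,0,3,3,3],[0,0,3,3,0,3,3,3],[0,0,5,7,0,7,7,5],[0,0,0,0,7,4,0,0],[0,0,0,0,6,6,0,0],[0,0,7,6,6,2,4,3],[0,0,4,4,0,1,1,1]]),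
   (8, [[6,2,6,1,0,0,5,3],[4,6,4,4,2,3,4,1],[0,0,3,6,2,3,5,7],[0,0,5,3,3,7,7,2],[0,0,0,0,6,4,0,0],[0,0,0,0,2,6,0,0],[0,0,7,4,3,2,3,5],[0,0,4,3,7,1,6,3]]),
   (15, [[3,2,3,6,0,0,5,7],[0,6,0,6,2,6,4,6],[0,0,6,1,2,6,5,3],[0,0,0,5,3,5,7,0],[0,0,0,0,6,0,0,0],[0,0,0,0,2,3,0,0],[0,0,0,0,3,0,3,0],[0,0,0,0,7,2,6,2]]),
   (11, [[5,2,0,0,0,0,5,0],[1,6,2,7,2,0,4,4],[0,0,2,7,2,0,5,4],[0,0,3,6,3,0,7,6],[0,0,0,0,6,1,0,0],[0,0,0,0,2,5,0,0],[0,0,1,2,3,5,3,4],[0,0,7,4,7,0,6,1]]),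
   (7, [[5,1,0,0,0,0,5,0],[1,0,2,3,2,0,0,7],[0,0,2,3,2,0,1,7],[0,0,3,0,3,0,0,1],[0,0,0,0,0,1,0,0],[0,0,0,0,1,5,0,0],[0,0,1,0,0,5,0,0],[0,0,7,1,7,0,0,0]]),
   (0, [[5,1,1,0,0,5,5,0],[1,0,2,3,2,0,0,7],[0,0,2,3,2,1,1,7],[0,0,3,0,3,0,0,1],[0,0,0,0,0,1,0,0],[0,0,0,0,1,5,0,0],[0,0,1,0,0,5,0,0],[0,0,7,1,7,0,0,0]]),
   (5, [[5,3,1,6,2,5,2,2],[1,4,2,4,2,0,7,3],[0,0,2,4,6,1,6,3],[0,0,3,1,3,0,4,7],[0,0,0,0,4,1,0,0],[0,0,0,0,3,5,0,0],[0,0,1,6,2,5,7,2],[0,0,7,5,7,0,1,5]]),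
   (12, [[2,3,2,2,2,6,2,5],[7,4,2,1,2,3,7,7],[0,0,5,3,6,4,6,1],[0,0,1,2,3,7,4,2],[0,0,0,0,4,7,0,0],[0,0,0,0,3,2,0,0],[0,0,4,3,2,6,7,6],[0,0,2,7,7,1,1,3]])],
  [(15, [[1,0,0,0,0,0,0,0],[7,1,0,0,0,0,0,0],[0,0,1,0,0,0,0,0],[0,0,3,1,0,0,0,0],[0,0,0,0,1,7,0,0],[0,0,0,0,0,1,0,0],[0,0,4,5,0,0,1,3],[0,0,5,0,0,0,0,1]]),
   (5, [[1,4,0,0,0,0,0,0],[7,0,0,0,0,0,0,0],[0,0,1,6,0,0,7,2],[0,0,3,0,0,0,0,6],[0,0,0,0,0,7,0,0],[0,0,0,0,4,1,0,0],[0,0,4,0,0,0,0,0],[0,0,5,3,0,0,0,0]]),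
   (1, [[1,4,0,0,0,0,0,0],[7,0,0,0,0,0,0,0],[0,1,1,6,0,0,7,2],[0,3,3,0,0,0,0,6],[0,0,0,0,0,7,7,0],[0,0,0,0,4,1,1,0],[0,4,4,0,0,0,0,0],[0,5,5,3,0,0,0,0]]),
   (2, [[1,5,0,0,0,0,0,0],[7,7,0,0,0,0,0,0],[0,1,1,7,0,0,2,3],[0,3,3,3,0,0,5,5],[0,0,0,0,7,7,7,0],[0,0,0,0,5,1,1,0],[0,4,4,4,0,0,4,4],[0,5,5,6,0,0,6,5]]),
   (2, [[1,4,0,0,0,0,0,0],[7,0,0,0,0,0,0,0],[0,1,1,6,0,0,7,2],[0,3,3,0,0,0,0,6],[0,0,0,0,0,7,7,0],[0,0,0,0,4,1,1,0],[0,4,4,0,0,0,0,0],[0,5,5,3,0,0,0,0]]),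
   (3, [[1,6,0,0,0,0,0,0],[7,5,0,0,0,0,0,0],[0,1,1,2,0,0,3,4],[0,3,3,7,0,0,1,7],[0,0,0,0,5,7,7,0],[0,0,0,0,6,1,1,0],[0,4,4,6,0,0,2,5],[0,5,5,1,0,0,6,3]]),
   (9, [[7,6,0,0,0,0,0,0],[2,5,0,0,0,0,0,0],[1,1,4,1,0,0,3,7],[3,3,2,6,0,0,1,6],[0,0,7,7,5,2,7,7],[0,0,1,1,6,7,1,1],[4,4,5,4,0,0,2,7],[5,5,1,7,0,0,6,5]]),
   (1, [[7,6,0,0,0,0,0,0],[2,5,0,0,0,0,0,0],[1,5,4,1,0,0,3,7],[3,1,2,6,0,0,1,6],[0,7,7,7,5,2,5,7],[0,1,1,1,6,7,6,1],[4,1,5,4,0,0,2,7],[5,4,1,7,0,0,6,5]]),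
   (5, [[7,7,0,0,0,0,0,0],[2,6,0,0,0,0,0,0],[1,1,4,4,0,0,4,4],[3,6,2,1,0,0,1,2],[0,7,7,3,6,2,7,2],[0,1,1,7,7,7,5,3],[4,7,5,7,0,0,3,6],[5,6,1,1,0,0,7,7]]),
   (13, [[1,7,0,0,0,0,0,0],[1,6,0,0,0,0,0,0],[4,1,1,3,0,0,4,5],[0,6,1,2,0,0,1,5],[6,7,6,1,6,1,7,1],[5,1,6,3,7,1,5,5],[2,7,1,2,0,0,3,4],[6,6,1,3,0,0,7,4]]),
   (4, [[1,4,0,0,0,0,0,0],[1,5,0,0,0,0,0,0],[4,6,1,6,0,0,7,2],[0,6,1,7,0,0,5,2],[6,6,6,2,5,1,7,5],[5,5,6,0,4,1,2,1],[2,1,1,7,0,0,2,3],[6,7,1,6,0,0,1,3]]),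
   (0, [[1,4,4,0,0,0,0,0],[1,5,5,0,0,0,0,0],[4,6,7,6,0,7,7,2],[0,6,7,7,0,5,5,2],[6,6,0,2,5,6,7,5],[5,5,3,0,4,3,2,1],[2,1,0,7,0,2,2,3],[6,7,6,6,0,1,1,3]]),
   (0, [[1,4,0,0,0,0,0,0],[1,5,0,0,0,0,0,0],[4,6,1,6,0,0,7,2],[0,6,1,7,0,0,5,2],[6,6,6,2,5,1,7,5],[5,5,6,0,4,1,2,1],[2,1,1,7,0,0,2,3],[6,7,1,6,0,0,1,3]]),
   (10, [[2,4,0,0,0,0,0,0],[0,5,0,0,0,0,0,0],[3,6,5,2,0,0,7,3],[7,6,0,4,0,0,5,0],[1,6,0,6,5,0,7,4],[4,5,1,7,4,2,2,2],[0,1,0,0,0,0,2,0],[3,7,0,0,0,0,1,7]]),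
   (5, [[2,7,0,0,0,0,0,0],[0,5,0,0,0,0,0,0],[3,1,5,1,0,0,4,2],[7,7,0,4,0,0,6,0],[1,2,0,6,5,0,5,4],[4,3,1,1,7,2,7,0],[0,1,0,0,0,0,2,0],[3,0,0,0,0,0,5,7]]),
   (15, [[1,7,0,0,0,0,0,0],[6,5,0,0,0,0,0,0],[4,1,1,3,0,0,4,5],[4,7,2,7,0,0,6,1],[4,2,1,1,5,6,5,0],[6,3,3,7,7,1,7,2],[7,1,3,1,0,0,2,6],[3,0,4,7,0,0,5,3]]),
   (9, [[6,7,0,0,0,0,0,0],[3,5,0,0,0,0,0,0],[5,1,3,7,0,0,4,1],[3,7,2,1,0,0,6,7],[6,2,5,4,5,3,5,5],[5,3,1,0,7,6,7,5],[6,1,6,3,0,0,2,4],[3,0,5,2,0,0,5,6]]),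
   (12, [[7,7,0,0,0,0,0,0],[1,5,0,0,0,0,0,0],[1,1,4,4,0,0,4,4],[2,7,5,6,0,0,6,5],[5,2,7,5,5,1,5,6],[2,3,3,5,7,7,7,1],[2,1,1,7,0,0,2,3],[3,0,3,3,0,0,5,5]]),
   (7, [[7,3,0,0,0,0,0,0],[1,3,0,0,0,0,0,0],[1,7,4,7,0,0,6,2],[2,0,5,7,0,0,6,7],[5,1,7,0,3,1,2,7],[2,4,3,3,3,7,2,6],[2,6,1,5,0,0,6,7],[3,1,3,5,0,0,6,2]]),
   (1, [[7,3,0,0,0,0,0,0],[1,3,0,0,0,0,0,0],[1,3,4,7,0,0,6,2],[2,5,5,7,0,0,6,7],[5,6,7,0,3,1,3,7],[2,7,3,3,3,7,5,6],[2,7,1,5,0,0,6,7],[3,2,3,5,0,0,6,2]]),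
   (4, [[7,1,0,0,0,0,0,0],[1,0,0,0,0,0,0,0],[1,0,4,5,0,0,1,3],[2,3,5,0,0,0,0,1],[5,2,7,6,0,1,1,4],[2,1,3,7,1,7,5,4],[2,1,1,0,0,0,0,0],[3,7,3,1,0,0,0,0]]),
   (6, [[7,7,0,0,0,0,0,0],[1,5,0,0,0,0,0,0],[1,5,4,4,0,0,4,4],[2,2,5,6,0,0,6,5],[5,5,7,5,5,1,4,6],[2,0,3,5,7,7,0,1],[2,0,1,7,0,0,2,3],[3,3,3,3,0,0,5,5]]),
   (15, [[4,7,0,0,0,0,0,0],[7,5,0,0,0,0,0,0],[7,5,7,6,0,0,4,3],[7,2,6,5,0,0,6,4],[3,5,6,7,5,7,4,1],[2,0,2,5,7,4,0,1],[2,0,4,6,0,0,2,5],[1,3,3,4,0,0,5,1]]),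
   (6, [[4,5,0,0,0,0,0,0],[7,3,0,0,0,0,0,0],[7,3,7,5,0,0,2,1],[7,4,6,1,0,0,4,5],[3,1,6,3,3,7,6,0],[2,1,2,0,5,4,7,7],[2,1,4,7,0,0,6,2],[1,6,3,6,0,0,3,4]]),
   (5, [[4,3,0,0,0,0,0,0],[7,2,0,0,0,0,0,0],[7,2,7,1,0,0,6,4],[7,5,6,3,0,0,1,2],[3,6,6,1,2,7,4,7],[2,2,2,7,3,4,6,3],[2,2,4,2,0,0,5,1],[1,2,3,7,0,0,3,2]])],
  [(4, [[1,3,0,0,0,0,0,0],[0,1,0,0,0,0,0,0],[0,0,1,5,0,0,6,7],[0,0,0,1,0,0,7,0],[0,0,0,0,1,0,0,0],[0,0,0,0,3,1,0,0],[0,0,0,0,0,0,1,0],[0,0,0,0,0,0,5,1]]),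
   (12, [[6,3,0,0,0,0,0,0],[4,1,0,0,0,0,0,0],[0,0,3,2,0,0,6,5],[0,0,5,4,0,0,7,4],[0,0,0,0,1,4,0,0],[0,0,0,0,3,6,0,0],[0,0,7,2,0,0,1,6],[0,0,4,1,0,0,5,2]]),
   (0, [[6,3,3,0,0,0,0,0],[4,1,1,0,0,0,0,0],[0,0,3,2,0,6,6,5],[0,0,5,4,0,7,7,4],[0,0,0,0,1,4,0,0],[0,0,0,0,3,6,0,0],[0,0,7,2,0,1,1,6],[0,0,4,1,0,5,5,2]]),
   (11, [[3,3,3,0,0,0,0,0],[7,1,1,0,0,0,0,0],[0,0,6,6,0,6,6,6],[0,0,2,7,0,7,7,2],[0,0,0,0,1,7,0,0],[0,0,0,0,3,3,0,0],[0,0,4,5,0,1,1,3],[0,0,7,7,0,5,5,5]]),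
   (6, [[3,7,3,2,0,0,6,5],[7,7,1,7,0,0,2,3],[0,0,6,2,3,6,4,7],[0,0,2,2,6,7,4,4],[0,0,0,0,7,7,0,0],[0,0,0,0,7,3,0,0],[0,0,4,4,5,1,4,4],[0,0,7,4,7,5,4,7]]),
   (0, [[3,7,4,2,0,6,6,5],[7,7,6,7,0,2,2,3],[0,0,6,2,3,2,4,7],[0,0,2,2,6,3,4,4],[0,0,0,0,7,7,0,0],[0,0,0,0,7,3,0,0],[0,0,4,4,5,5,4,4],[0,0,7,4,7,1,4,7]]),
   (13, [[5,7,2,3,0,6,6,1],[1,7,4,1,0,2,2,6],[0,0,2,5,3,6,4,6],[0,0,3,5,6,0,4,5],[0,0,0,0,7,1,0,0],[0,0,0,0,7,5,0,0],[0,0,1,3,5,2,4,5],[0,0,7,3,7,7,4,6]]),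
   (1, [[5,5,2,3,0,6,0,1],[1,3,4,1,0,2,0,6],[0,2,2,5,3,6,2,6],[0,3,3,5,6,0,4,5],[0,0,0,0,7,1,1,0],[0,0,0,0,7,5,5,0],[0,1,1,3,5,2,6,5],[0,7,7,3,7,7,3,6]]),
   (6, [[5,2,2,6,3,6,6,7],[1,6,4,0,1,2,4,1],[0,2,2,0,0,6,6,0],[0,3,3,7,6,0,0,0],[0,0,0,0,2,1,1,0],[0,0,0,0,0,5,5,0],[0,1,1,4,4,2,7,6],[0,7,7,0,1,7,7,4]]),
   (10, [[1,2,0,4,3,0,6,2],[6,6,0,5,1,0,4,7],[4,2,1,2,0,6,6,5],[6,3,2,7,6,7,0,0],[0,0,5,6,2,5,1,4],[0,0,7,3,0,5,5,2],[2,1,3,0,4,1,7,7],[5,7,4,4,1,5,7,5]]),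
   (10, [[5,2,2,6,3,6,6,7],[1,6,4,0,1,2,4,1],[0,2,2,0,0,6,6,0],[0,3,3,7,6,0,0,0],[0,0,0,0,2,1,1,0],[0,0,0,0,0,5,5,0],[0,1,1,4,4,2,7,6],[0,7,7,0,1,7,7,4]]),
   (7, [[5,1,2,2,1,6,0,4],[1,0,4,3,6,2,1,7],[0,2,2,4,2,6,0,3],[0,3,3,1,6,0,4,7],[0,0,0,0,4,1,1,0],[0,0,0,0,3,5,5,0],[0,1,1,6,3,2,5,2],[0,7,7,5,5,7,6,5]]),
   (13, [[0,1,0,2,1,3,0,4],[1,0,6,0,6,1,1,0],[1,2,6,4,2,7,0,3],[4,3,5,6,6,3,4,6],[0,0,2,3,4,3,1,7],[0,0,1,4,3,1,5,6],[5,1,2,2,3,6,5,4],[6,7,2,4,5,0,6,1]]),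
   (1, [[0,1,0,2,1,3,3,4],[1,6,6,0,6,1,0,0],[1,4,6,4,2,7,7,3],[4,6,5,6,6,3,7,6],[0,2,2,3,4,3,2,7],[0,1,1,4,3,1,4,6],[5,3,2,2,3,6,3,4],[6,5,2,4,5,0,6,1]]),
   (15, [[7,1,3,6,1,4,3,1],[5,6,6,0,6,5,0,0],[0,4,4,2,2,2,7,1],[0,6,6,0,6,7,7,4],[5,2,2,2,4,2,2,1],[7,1,3,6,3,3,4,1],[7,3,1,6,3,4,3,1],[0,5,5,7,5,6,6,0]]),
   (0, [[7,1,2,6,1,7,3,1],[5,6,0,0,6,5,0,0],[0,4,0,2,2,5,7,1],[0,6,0,0,6,0,7,4],[5,2,0,2,4,0,2,1],[7,1,2,6,3,7,4,1],[7,3,2,6,3,7,3,1],[0,5,0,7,5,0,6,0]]),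
   (12, [[3,1,0,0,1,3,3,0],[0,6,0,0,6,0,0,0],[6,4,6,7,2,6,7,5],[5,6,0,5,6,5,7,0],[6,2,0,6,4,6,2,6],[3,1,3,5,3,0,4,4],[0,3,0,0,3,0,3,0],[2,5,0,0,5,2,6,2]]),
   (1, [[3,1,0,0,1,3,0,0],[0,6,0,0,6,0,0,0],[6,2,6,7,2,6,1,5],[5,6,0,5,6,5,2,0],[6,2,0,6,4,6,4,6],[3,2,3,5,3,0,4,4],[0,3,0,0,3,0,3,0],[2,5,0,0,5,2,4,2]]),
   (15, [[4,1,0,0,1,4,0,0],[4,6,0,0,6,4,0,0],[3,2,7,2,2,3,1,6],[1,6,7,4,6,1,2,6],[3,2,4,4,4,7,4,1],[6,2,3,7,3,2,4,3],[2,3,7,4,3,2,3,5],[4,5,7,2,5,4,4,5]])]]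

def elsThree : List Mat := [
  [[1,0,0,0,0,0,0,0],[0,1,0,0,0,0,0,0],[0,0,1,0,0,0,0,0],[0,0,0,1,0,0,0,0],[0,0,0,0,1,0,0,0],[0,0,0,0,0,1,0,0],[0,0,0,0,0,0,1,0],[0,0,0,0,0,0,0,1]],
  [[1,5,0,0,0,0,0,0],[2,0,0,0,0,0,0,0],[0,0,1,7,0,0,2,3],[0,0,4,0,0,0,0,7],[0,0,0,0,0,2,0,0],[0,0,0,0,5,1,0,0],[0,0,5,0,0,0,0,0],[0,0,6,4,0,0,0,0]],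
  [[2,3,2,2,2,6,2,5],[7,4,2,1,2,3,7,7],[0,0,5,3,6,4,6,1],[0,0,1,2,3,7,4,2],[0,0,0,0,4,7,0,0],[0,0,0,0,3,2,0,0],[0,0,4,3,2,6,7,6],[0,0,2,7,7,1,1,3]],
  [[4,3,0,0,0,0,0,0],[7,2,0,0,0,0,0,0],[7,2,7,1,0,0,6,4],[7,5,6,3,0,0,1,2],[3,6,6,1,2,7,4,7],[2,2,2,7,3,4,6,3],[2,2,4,2,0,0,5,1],[1,2,3,7,0,0,3,2]],
  [[4,1,0,0,1,4,0,0],[4,6,0,0,6,4,0,0],[3,2,7,2,2,3,1,6],[1,6,7,4,6,1,2,6],[3,2,4,4,4,7,4,1],[6,2,3,7,3,2,4,3],[2,3,7,4,3,2,3,5],[4,5,7,2,5,4,4,5]],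
  [[0,5,0,0,0,0,0,0],[2,1,0,0,0,0,0,0],[0,0,0,0,0,0,2,0],[0,0,0,0,0,0,3,7],[0,0,0,0,1,2,0,0],[0,0,0,0,5,0,0,0],[0,0,5,6,0,0,1,4],[0,0,0,4,0,0,7,0]],
  [[4,1,3,7,3,2,4,3],[4,6,4,4,4,7,4,1],[0,0,7,2,2,3,1,6],[0,0,7,4,6,1,2,6],[0,0,0,0,6,4,0,0],[0,0,0,0,1,4,0,0],[0,0,7,4,3,2,3,5],[0,0,7,2,5,4,4,5]],
  [[2,2,0,0,0,0,0,0],[3,6,0,0,0,0,0,0],[3,6,5,5,0,0,5,5],[6,6,3,7,0,0,7,3],[4,4,4,5,6,3,7,6],[6,1,1,2,2,2,4,5],[6,1,6,5,0,0,3,2],[5,5,1,1,0,0,6,6]],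
  [[6,2,0,0,2,6,0,0],[3,2,0,0,2,3,0,0],[7,4,3,6,4,7,5,7],[6,5,2,6,5,6,5,3],[7,4,6,5,6,4,3,6],[2,3,1,5,1,4,6,6],[4,1,6,1,1,4,5,3],[5,2,5,1,2,5,5,7]],
  [[6,1,3,5,3,4,2,6],[4,4,2,4,2,7,3,1],[0,0,3,4,4,4,1,2],[0,0,5,5,3,1,6,6],[0,0,0,0,4,4,0,0],[0,0,0,0,1,6,0,0],[0,0,7,7,3,4,7,7],[0,0,4,2,7,4,2,4]],
  [[1,0,5,0,5,0,1,0],[0,1,1,7,1,2,0,3],[0,1,0,7,0,2,0,3],[3,0,4,1,4,3,3,0],[2,0,0,7,1,0,2,3],[1,5,5,6,0,1,0,4],[1,5,0,6,5,0,0,4],[7,0,6,0,6,7,7,1]],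
  [[2,2,1,2,3,4,4,5],[3,6,4,5,2,7,7,6],[0,0,5,5,6,3,5,5],[0,0,3,7,6,6,7,3],[3,6,4,5,4,4,7,6],[2,2,1,2,1,6,4,5],[0,0,6,5,1,6,3,2],[0,0,1,1,5,5,6,6]],
  [[4,1,0,0,0,0,0,0],[4,6,0,0,0,0,0,0],[3,2,7,2,0,0,1,6],[1,6,7,4,0,0,2,6],[7,4,4,4,6,4,4,1],[2,3,3,7,1,4,4,3],[2,3,7,4,0,0,3,5],[4,5,7,2,0,0,4,5]],
  [[1,5,0,0,5,1,0,0],[2,0,0,0,0,2,0,0],[0,0,1,7,0,0,2,3],[0,0,4,0,0,0,0,7],[2,0,0,0,0,0,0,0],[1,5,0,0,0,0,0,0],[0,0,5,0,0,0,0,0],[0,0,6,4,0,0,0,0]],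
  [[4,3,1,2,2,2,4,5],[7,2,4,5,6,3,7,6],[3,6,5,5,0,0,5,5],[6,6,3,7,0,0,7,3],[3,6,0,0,0,0,0,0],[2,2,0,0,0,0,0,0],[6,1,6,5,0,0,3,2],[5,5,1,1,0,0,6,6]],
  [[1,0,5,0,5,1,1,0],[0,1,1,7,0,2,0,3],[0,1,0,7,1,2,0,3],[3,0,4,1,4,0,3,0],[2,1,1,0,1,0,2,0],[0,5,0,6,0,1,1,4],[1,5,0,6,0,1,0,4],[7,0,6,0,6,0,7,1]],
  [[4,3,3,5,1,6,2,6],[7,2,2,4,4,4,3,1],[4,4,3,4,0,0,1,2],[1,3,5,5,0,0,6,6],[3,6,2,4,4,4,3,1],[2,2,3,5,1,6,2,6],[4,3,7,7,0,0,7,7],[4,7,4,2,0,0,2,4]],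
  [[6,2,1,5,1,4,6,6],[3,2,6,5,6,4,3,6],[0,0,3,6,4,7,5,7],[0,0,2,6,5,6,5,3],[0,0,0,0,2,3,0,0],[0,0,0,0,2,6,0,0],[0,0,6,1,1,4,5,3],[0,0,5,1,2,5,5,7]],
  [[6,1,0,0,0,0,0,0],[4,4,0,0,0,0,0,0],[4,4,3,4,0,0,1,2],[1,3,5,5,0,0,6,6],[7,2,2,4,4,4,3,1],[4,3,3,5,1,6,2,6],[4,3,7,7,0,0,7,7],[4,7,4,2,0,0,2,4]],
  [[2,3,0,0,3,2,0,0],[7,4,0,0,4,7,0,0],[4,6,5,3,6,4,6,1],[7,3,1,2,3,7,4,2],[4,6,2,1,2,3,7,7],[4,1,2,2,2,6,2,5],[6,2,4,3,2,6,7,6],[1,7,2,7,7,1,1,3]],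
  [[4,3,2,7,2,2,6,3],[7,2,6,1,6,3,4,7],[0,0,7,1,2,7,6,4],[0,0,6,3,5,7,1,2],[0,0,0,0,2,7,0,0],[0,0,0,0,3,4,0,0],[0,0,4,2,2,2,5,1],[0,0,3,7,2,1,3,2]],
  [[1,5,0,6,0,1,1,4],[2,0,1,0,1,0,2,0],[2,0,0,7,1,2,0,3],[3,4,4,1,4,0,3,0],[2,1,1,7,0,2,0,3],[0,5,5,0,5,1,1,0],[0,5,0,6,0,1,0,4],[7,6,6,0,6,0,7,1]],
  [[6,1,3,5,2,2,2,6],[4,4,2,4,6,3,3,1],[0,0,3,4,4,4,1,2],[0,0,5,5,3,1,6,6],[4,4,2,4,2,7,3,1],[6,1,3,5,3,4,2,6],[0,0,7,7,3,4,7,7],[0,0,4,2,7,4,2,4]],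
  [[6,2,0,0,0,0,0,0],[3,2,0,0,0,0,0,0],[7,4,3,6,0,0,5,7],[6,5,2,6,0,0,5,3],[4,6,6,5,2,3,3,6],[4,1,1,5,2,6,6,6],[4,1,6,1,0,0,5,3],[5,2,5,1,0,0,5,7]],
  [[0,5,0,0,5,0,0,0],[2,1,0,0,1,2,0,0],[0,0,0,0,0,0,2,0],[0,0,0,0,0,0,3,7],[2,1,0,0,0,0,0,0],[0,5,0,0,0,0,0,0],[0,0,5,6,0,0,1,4],[0,0,0,4,0,0,7,0]],
  [[2,2,3,5,1,6,2,6],[3,6,2,4,4,4,3,1],[4,4,3,4,0,0,1,2],[1,3,5,5,0,0,6,6],[4,4,0,0,0,0,0,0],[6,1,0,0,0,0,0,0],[4,3,7,7,0,0,7,7],[4,7,4,2,0,0,2,4]],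
  [[1,5,0,6,5,0,1,4],[2,0,1,0,1,2,2,0],[2,0,0,7,1,0,0,3],[3,4,4,1,0,3,3,0],[0,1,0,7,0,2,2,3],[1,0,5,6,5,1,0,4],[0,5,0,6,5,1,0,4],[7,6,6,0,0,7,7,1]],
  [[2,2,2,7,3,4,6,3],[3,6,6,1,2,7,4,7],[7,2,7,1,0,0,6,4],[7,5,6,3,0,0,1,2],[4,4,6,1,2,7,4,7],[6,1,2,7,3,4,6,3],[2,2,4,2,0,0,5,1],[1,2,3,7,0,0,3,2]],
  [[2,3,1,5,1,4,6,6],[7,4,6,5,6,4,3,6],[7,4,3,6,4,7,5,7],[6,5,2,6,5,6,5,3],[4,6,6,5,4,7,3,6],[4,1,1,5,3,2,6,6],[4,1,6,1,1,4,5,3],[5,2,5,1,2,5,5,7]],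
  [[0,5,5,6,0,1,0,4],[2,1,0,7,1,0,2,3],[2,1,0,7,0,2,0,3],[0,4,4,1,4,3,3,0],[2,0,1,7,1,2,0,3],[1,5,5,0,5,0,1,0],[1,0,0,6,5,0,0,4],[0,6,6,0,6,7,7,1]],
  [[4,3,1,2,1,6,4,5],[7,2,4,5,4,4,7,6],[3,6,5,5,6,3,5,5],[6,6,3,7,6,6,7,3],[4,4,4,5,2,7,7,6],[6,1,1,2,3,4,4,5],[6,1,6,5,1,6,3,2],[5,5,1,1,5,5,6,6]],
  [[6,2,3,7,1,4,4,3],[3,2,4,4,6,4,4,1],[3,2,7,2,0,0,1,6],[1,6,7,4,0,0,2,6],[4,6,0,0,0,0,0,0],[4,1,0,0,0,0,0,0],[2,3,7,4,0,0,3,5],[4,5,7,2,0,0,4,5]],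
  [[0,5,5,0,0,1,1,0],[2,1,1,7,1,0,0,3],[2,0,0,7,1,0,0,3],[3,4,4,1,0,3,3,0],[2,0,1,0,1,2,2,0],[1,5,0,6,5,0,1,4],[0,5,0,6,5,1,0,4],[7,6,6,0,0,7,7,1]],
  [[2,2,0,0,2,2,0,0],[3,6,0,0,6,3,0,0],[3,6,5,5,6,3,5,5],[6,6,3,7,6,6,7,3],[7,2,4,5,4,4,7,6],[4,3,1,2,1,6,4,5],[6,1,6,5,1,6,3,2],[5,5,1,1,5,5,6,6]],
  [[4,1,3,7,2,6,4,3],[4,6,4,4,2,3,4,1],[0,0,7,2,2,3,1,6],[0,0,7,4,6,1,2,6],[4,6,4,4,4,7,4,1],[4,1,3,7,3,2,4,3],[0,0,7,4,3,2,3,5],[0,0,7,2,5,4,4,5]],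
  [[4,1,1,5,3,2,6,6],[4,6,6,5,4,7,3,6],[7,4,3,6,4,7,5,7],[6,5,2,6,5,6,5,3],[3,2,0,0,2,3,0,0],[6,2,0,0,2,6,0,0],[4,1,6,1,1,4,5,3],[5,2,5,1,2,5,5,7]],
  [[1,0,5,6,5,0,0,4],[0,1,0,7,1,2,2,3],[2,0,0,7,1,2,0,3],[3,4,4,1,4,0,3,0],[2,0,1,0,1,0,2,0],[1,5,0,6,0,1,1,4],[0,5,0,6,0,1,0,4],[7,6,6,0,6,0,7,1]],
  [[2,3,1,5,2,6,6,6],[7,4,6,5,2,3,3,6],[7,4,3,6,0,0,5,7],[6,5,2,6,0,0,5,3],[3,2,0,0,0,0,0,0],[6,2,0,0,0,0,0,0],[4,1,6,1,0,0,5,3],[5,2,5,1,0,0,5,7]],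
  [[0,0,0,0,5,0,0,0],[0,0,0,0,1,2,0,0],[0,0,0,0,0,0,2,0],[0,0,0,0,0,0,3,7],[2,1,0,0,1,2,0,0],[0,5,0,0,5,0,0,0],[0,0,5,6,0,0,1,4],[0,0,0,4,0,0,7,0]],
  [[0,0,0,0,2,6,0,0],[0,0,0,0,2,3,0,0],[0,0,3,6,4,7,5,7],[0,0,2,6,5,6,5,3],[3,2,6,5,4,7,3,6],[6,2,1,5,3,2,6,6],[0,0,6,1,1,4,5,3],[0,0,5,1,2,5,5,7]],
  [[1,0,0,6,5,0,1,4],[0,1,1,0,1,2,2,0],[2,1,0,7,1,0,0,3],[0,4,4,1,0,3,3,0],[2,0,1,7,1,0,0,3],[1,5,5,0,0,1,1,0],[1,0,0,6,5,1,0,4],[0,6,6,0,0,7,7,1]],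
  [[6,2,2,2,3,2,2,5],[3,2,2,1,4,7,7,7],[4,6,5,3,0,0,6,1],[7,3,1,2,0,0,4,2],[4,6,2,1,4,7,7,7],[4,1,2,2,3,2,2,5],[6,2,4,3,0,0,7,6],[1,7,2,7,0,0,1,3]],
  [[2,2,1,2,1,6,4,5],[3,6,4,5,4,4,7,6],[0,0,5,5,6,3,5,5],[0,0,3,7,6,6,7,3],[0,0,0,0,6,3,0,0],[0,0,0,0,2,2,0,0],[0,0,6,5,1,6,3,2],[0,0,1,1,5,5,6,6]],
  [[0,5,5,6,5,1,0,4],[2,1,0,7,0,2,2,3],[2,1,0,7,1,0,0,3],[0,4,4,1,0,3,3,0],[0,1,1,0,1,2,2,0],[1,0,0,6,5,0,1,4],[1,0,0,6,5,1,0,4],[0,6,6,0,0,7,7,1]],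
  [[4,3,2,7,1,6,6,3],[7,2,6,1,4,4,4,7],[0,0,7,1,2,7,6,4],[0,0,6,3,5,7,1,2],[7,2,6,1,6,3,4,7],[4,3,2,7,2,2,6,3],[0,0,4,2,2,2,5,1],[0,0,3,7,2,1,3,2]],
  [[2,3,0,0,0,0,0,0],[7,4,0,0,0,0,0,0],[4,6,5,3,0,0,6,1],[7,3,1,2,0,0,4,2],[3,2,2,1,4,7,7,7],[6,2,2,2,3,2,2,5],[6,2,4,3,0,0,7,6],[1,7,2,7,0,0,1,3]],
  [[1,0,0,0,0,1,0,0],[0,1,0,0,1,0,0,0],[0,0,1,0,0,0,0,0],[0,0,0,1,0,0,0,0],[0,1,0,0,0,0,0,0],[1,0,0,0,0,0,0,0],[0,0,0,0,0,0,1,0],[0,0,0,0,0,0,0,1]],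
  [[6,1,2,7,3,4,6,3],[4,4,6,1,2,7,4,7],[7,2,7,1,0,0,6,4],[7,5,6,3,0,0,1,2],[7,2,0,0,0,0,0,0],[4,3,0,0,0,0,0,0],[2,2,4,2,0,0,5,1],[1,2,3,7,0,0,3,2]],
  [[6,1,1,2,2,2,4,5],[4,4,4,5,6,3,7,6],[3,6,5,5,0,0,5,5],[6,6,3,7,0,0,7,3],[7,2,4,5,6,3,7,6],[4,3,1,2,2,2,4,5],[6,1,6,5,0,0,3,2],[5,5,1,1,0,0,6,6]],
  [[4,1,2,2,2,6,2,5],[4,6,2,1,2,3,7,7],[4,6,5,3,6,4,6,1],[7,3,1,2,3,7,4,2],[3,2,2,1,6,4,7,7],[6,2,2,2,1,4,2,5],[6,2,4,3,2,6,7,6],[1,7,2,7,7,1,1,3]],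
  [[2,2,3,5,3,4,2,6],[3,6,2,4,2,7,3,1],[4,4,3,4,4,4,1,2],[1,3,5,5,3,1,6,6],[7,2,2,4,6,3,3,1],[4,3,3,5,2,2,2,6],[4,3,7,7,3,4,7,7],[4,7,4,2,7,4,2,4]],
  [[1,0,0,6,5,1,1,4],[0,1,1,0,0,2,2,0],[2,1,0,7,0,2,0,3],[0,4,4,1,4,3,3,0],[2,1,0,7,1,0,2,3],[0,5,5,6,0,1,0,4],[1,0,0,6,5,0,0,4],[0,6,6,0,6,7,7,1]],
  [[6,1,0,0,1,6,0,0],[4,4,0,0,4,4,0,0],[4,4,3,4,4,4,1,2],[1,3,5,5,3,1,6,6],[3,6,2,4,2,7,3,1],[2,2,3,5,3,4,2,6],[4,3,7,7,3,4,7,7],[4,7,4,2,7,4,2,4]],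
  [[6,2,1,5,3,2,6,6],[3,2,6,5,4,7,3,6],[0,0,3,6,4,7,5,7],[0,0,2,6,5,6,5,3],[3,2,6,5,6,4,3,6],[6,2,1,5,1,4,6,6],[0,0,6,1,1,4,5,3],[0,0,5,1,2,5,5,7]],
  [[6,2,2,2,1,4,2,5],[3,2,2,1,6,4,7,7],[4,6,5,3,6,4,6,1],[7,3,1,2,3,7,4,2],[7,4,0,0,4,7,0,0],[2,3,0,0,3,2,0,0],[6,2,4,3,2,6,7,6],[1,7,2,7,7,1,1,3]],
  [[1,5,5,0,0,1,1,0],[2,0,1,7,1,0,0,3],[2,1,0,7,1,0,0,3],[0,4,4,1,0,3,3,0],[2,1,0,7,0,2,2,3],[0,5,5,6,5,1,0,4],[1,0,0,6,5,1,0,4],[0,6,6,0,0,7,7,1]],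
  [[4,1,2,2,3,2,2,5],[4,6,2,1,4,7,7,7],[4,6,5,3,0,0,6,1],[7,3,1,2,0,0,4,2],[7,4,0,0,0,0,0,0],[2,3,0,0,0,0,0,0],[6,2,4,3,0,0,7,6],[1,7,2,7,0,0,1,3]],
  [[0,0,0,0,0,1,0,0],[0,0,0,0,1,0,0,0],[0,0,1,0,0,0,0,0],[0,0,0,1,0,0,0,0],[0,1,0,0,1,0,0,0],[1,0,0,0,0,1,0,0],[0,0,0,0,0,0,1,0],[0,0,0,0,0,0,0,1]],
  [[0,0,0,0,3,2,0,0],[0,0,0,0,4,7,0,0],[0,0,5,3,6,4,6,1],[0,0,1,2,3,7,4,2],[7,4,2,1,6,4,7,7],[2,3,2,2,1,4,2,5],[0,0,4,3,2,6,7,6],[0,0,2,7,7,1,1,3]],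
  [[1,5,5,6,0,1,0,4],[2,0,0,7,1,0,2,3],[0,1,0,7,0,2,0,3],[3,0,4,1,4,3,3,0],[2,1,1,0,0,2,2,0],[0,5,0,6,5,1,1,4],[1,5,0,6,5,0,0,4],[7,0,6,0,6,7,7,1]],
  [[2,3,3,7,1,4,4,3],[7,4,4,4,6,4,4,1],[3,2,7,2,0,0,1,6],[1,6,7,4,0,0,2,6],[3,2,4,4,6,4,4,1],[6,2,3,7,1,4,4,3],[2,3,7,4,0,0,3,5],[4,5,7,2,0,0,4,5]],
  [[1,0,5,6,5,1,0,4],[0,1,0,7,0,2,2,3],[2,0,0,7,1,0,0,3],[3,4,4,1,0,3,3,0],[2,1,1,7,1,0,0,3],[0,5,5,0,0,1,1,0],[0,5,0,6,5,1,0,4],[7,6,6,0,0,7,7,1]],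
  [[0,0,0,0,1,4,0,0],[0,0,0,0,6,4,0,0],[0,0,7,2,2,3,1,6],[0,0,7,4,6,1,2,6],[4,6,4,4,2,3,4,1],[4,1,3,7,2,6,4,3],[0,0,7,4,3,2,3,5],[0,0,7,2,5,4,4,5]],
  [[0,5,0,6,5,1,1,4],[2,1,1,0,0,2,2,0],[0,1,0,7,0,2,0,3],[3,0,4,1,4,3,3,0],[0,1,1,7,1,2,0,3],[1,0,5,0,5,0,1,0],[1,5,0,6,5,0,0,4],[7,0,6,0,6,7,7,1]],
  [[6,1,1,2,3,4,4,5],[4,4,4,5,2,7,7,6],[3,6,5,5,6,3,5,5],[6,6,3,7,6,6,7,3],[3,6,0,0,6,3,0,0],[2,2,0,0,2,2,0,0],[6,1,6,5,1,6,3,2],[5,5,1,1,5,5,6,6]],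
  [[0,0,0,0,3,4,0,0],[0,0,0,0,2,7,0,0],[0,0,7,1,2,7,6,4],[0,0,6,3,5,7,1,2],[7,2,6,1,4,4,4,7],[4,3,2,7,1,6,6,3],[0,0,4,2,2,2,5,1],[0,0,3,7,2,1,3,2]],
  [[0,0,0,0,1,6,0,0],[0,0,0,0,4,4,0,0],[0,0,3,4,4,4,1,2],[0,0,5,5,3,1,6,6],[4,4,2,4,6,3,3,1],[6,1,3,5,2,2,2,6],[0,0,7,7,3,4,7,7],[0,0,4,2,7,4,2,4]],
  [[4,1,1,5,2,6,6,6],[4,6,6,5,2,3,3,6],[7,4,3,6,0,0,5,7],[6,5,2,6,0,0,5,3],[7,4,6,5,2,3,3,6],[2,3,1,5,2,6,6,6],[4,1,6,1,0,0,5,3],[5,2,5,1,0,0,5,7]],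
  [[4,3,3,5,2,2,2,6],[7,2,2,4,6,3,3,1],[4,4,3,4,4,4,1,2],[1,3,5,5,3,1,6,6],[4,4,0,0,4,4,0,0],[6,1,0,0,1,6,0,0],[4,3,7,7,3,4,7,7],[4,7,4,2,7,4,2,4]],
  [[0,0,0,0,2,2,0,0],[0,0,0,0,6,3,0,0],[0,0,5,5,6,3,5,5],[0,0,3,7,6,6,7,3],[3,6,4,5,2,7,7,6],[2,2,1,2,3,4,4,5],[0,0,6,5,1,6,3,2],[0,0,1,1,5,5,6,6]],
  [[2,3,3,7,2,6,4,3],[7,4,4,4,2,3,4,1],[3,2,7,2,2,3,1,6],[1,6,7,4,6,1,2,6],[4,6,0,0,6,4,0,0],[4,1,0,0,1,4,0,0],[2,3,7,4,3,2,3,5],[4,5,7,2,5,4,4,5]],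
  [[2,2,2,7,1,6,6,3],[3,6,6,1,4,4,4,7],[7,2,7,1,2,7,6,4],[7,5,6,3,5,7,1,2],[7,2,0,0,2,7,0,0],[4,3,0,0,3,4,0,0],[2,2,4,2,2,2,5,1],[1,2,3,7,2,1,3,2]],
  [[6,1,2,7,2,2,6,3],[4,4,6,1,6,3,4,7],[7,2,7,1,2,7,6,4],[7,5,6,3,5,7,1,2],[3,6,6,1,4,4,4,7],[2,2,2,7,1,6,6,3],[2,2,4,2,2,2,5,1],[1,2,3,7,2,1,3,2]],
  [[6,2,3,7,3,2,4,3],[3,2,4,4,4,7,4,1],[3,2,7,2,2,3,1,6],[1,6,7,4,6,1,2,6],[7,4,4,4,2,3,4,1],[2,3,3,7,2,6,4,3],[2,3,7,4,3,2,3,5],[4,5,7,2,5,4,4,5]],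
  [[1,5,5,6,5,0,0,4],[2,0,0,7,1,2,2,3],[0,1,0,7,1,2,0,3],[3,0,4,1,4,0,3,0],[0,1,1,7,0,2,0,3],[1,0,5,0,5,1,1,0],[1,5,0,6,0,1,0,4],[7,0,6,0,6,0,7,1]],
  [[4,3,0,0,3,4,0,0],[7,2,0,0,2,7,0,0],[7,2,7,1,2,7,6,4],[7,5,6,3,5,7,1,2],[4,4,6,1,6,3,4,7],[6,1,2,7,2,2,6,3],[2,2,4,2,2,2,5,1],[1,2,3,7,2,1,3,2]],
  [[2,3,2,2,1,4,2,5],[7,4,2,1,6,4,7,7],[0,0,5,3,6,4,6,1],[0,0,1,2,3,7,4,2],[7,4,2,1,2,3,7,7],[2,3,2,2,2,6,2,5],[0,0,4,3,2,6,7,6],[0,0,2,7,7,1,1,3]],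
  [[0,0,0,0,5,1,0,0],[0,0,0,0,0,2,0,0],[0,0,1,7,0,0,2,3],[0,0,4,0,0,0,0,7],[2,0,0,0,0,2,0,0],[1,5,0,0,5,1,0,0],[0,0,5,0,0,0,0,0],[0,0,6,4,0,0,0,0]],
  [[0,5,5,0,5,1,1,0],[2,1,1,7,0,2,0,3],[2,0,0,7,1,2,0,3],[3,4,4,1,4,0,3,0],[0,1,0,7,1,2,2,3],[1,0,5,6,5,0,0,4],[0,5,0,6,0,1,0,4],[7,6,6,0,6,0,7,1]],
  [[1,5,5,0,5,0,1,0],[2,0,1,7,1,2,0,3],[2,1,0,7,0,2,0,3],[0,4,4,1,4,3,3,0],[0,1,1,0,0,2,2,0],[1,0,0,6,5,1,1,4],[1,0,0,6,5,0,0,4],[0,6,6,0,6,7,7,1]],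
  [[0,5,0,6,0,1,1,4],[2,1,1,0,1,0,2,0],[0,1,0,7,1,2,0,3],[3,0,4,1,4,0,3,0],[2,0,0,7,1,2,2,3],[1,5,5,6,5,0,0,4],[1,5,0,6,0,1,0,4],[7,0,6,0,6,0,7,1]]]

def parThree : List (ℕ × ℕ) := [(0, 0), (0, 1), (0, 2), (0, 3), (1, 0), (1, 1), (1, 2), (1, 3), (2, 1), (2, 2), (2, 3), (3, 2), (3, 3), (4, 1), (4, 2), (4, 3), (5, 1), (5, 2), (5, 3), (6, 1), (6, 2), (6, 3), (7, 2), (7, 3), (8, 1), (8, 2), (8, 3), (9, 2), (9, 3), (10, 2), (10, 3), (11, 3), (12, 3), (13, 1), (13, 3), (14, 1), (14, 2), (14, 3), (15, 3), (16, 1), (16, 2), (17, 1), (17, 2), (17, 3), (18, 2), (18, 3), (19, 1), (19, 3), (20, 2), (21, 2), (22, 3), (23, 3), (24, 1), (24, 3), (25, 1), (25,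 2), (25, 3), (26, 3), (27, 1), (27, 2), (28, 2), (29, 3), (30, 3), (31, 3), (32, 2), (34, 3), (36, 3), (37, 3), (39, 1), (40, 1), (40, 2), (41, 3), (42, 2), (44, 3), (45, 3), (46, 1), (47, 3), (48, 1), (49, 2), (65, 3)]

def nxtThree : List (List ℕ) := [
  [1,2,3,4],
  [5,6,7,8],
  [6,9,10,11],
  [7,10,12,13],
  [8,14,15,16],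
  [0,17,18,19],
  [17,20,21,22],
  [18,21,23,24],
  [19,25,26,27],
  [20,5,28,29],
  [21,28,30,31],
  [22,13,4,32],
  [23,30,1,33],
  [24,34,14,35],
  [25,36,37,38],
  [26,37,22,39],
  [27,40,41,0],
  [2,42,43,44],
  [3,43,45,46],
  [4,47,29,48],
  [42,0,49,15],
  [43,49,50,37],
  [44,24,8,51],
  [45,50,5,52],
  [46,53,25,54],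
  [47,55,56,57],
  [29,56,44,58],
  [48,59,60,1],
  [49,18,61,47],
  [15,31,11,62],
  [50,61,6,63],
  [37,33,13,64],
  [51,41,65,2],
  [52,26,34,59],
  [53,44,36,66],
  [54,16,32,3],
  [55,19,52,67],
  [56,52,24,68],
  [57,39,16,49],
  [58,69,40,20],
  [59,70,71,45],
  [60,71,57,72],
  [9,1,73,26],
  [10,73,72,56],
  [11,46,19,74],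
  [12,72,0,75],
  [13,76,47,70],
  [14,63,31,77],
  [16,78,67,5],
  [73,3,79,14],
  [72,79,17,36],
  [74,60,69,6],
  [75,29,53,78],
  [76,11,55,65],
  [70,27,51,7],
  [63,4,75,41],
  [31,75,46,71],
  [77,58,27,73],
  [62,66,59,42],
  [78,35,64,12],
  [67,64,77,30],
  [79,45,20,76],
  [39,65,78,9],
  [36,8,33,60],
  [68,32,62,10],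
  [69,57,54,80],
  [65,38,35,79],
  [41,68,38,50],
  [71,51,39,21],
  [66,77,70,61],
  [35,48,74,18],
  [64,74,58,43],
  [30,80,2,55],
  [28,7,80,25],
  [32,67,66,17],
  [33,15,76,40],
  [34,22,63,69],
  [38,62,48,28],
  [40,54,68,23],
  [80,12,42,34],
  [61,23,9,53]]

def certThree : List (List ℕ × ℕ × Mat × Mat × Mat × Mat × (ℕ × ℕ × ℕ × ℕ)) := [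
  ([1,5,0], 2, [[0,0,0,0,0,0,0,0],[0,0,0,0,0,0,0,0],[0,7,0,0,0,0,0,0],[4,1,0,0,0,0,0,0],[0,0,0,0,0,0,0,0],[0,0,0,0,0,0,0,0],[0,6,0,0,0,0,0,0],[6,0,0,0,0,0,0,0]], [[0,0,1,0,0,0,2,3],[0,0,0,1,0,0,0,7],[0,0,0,0,0,0,0,0],[0,0,0,0,0,0,0,0],[0,0,0,0,0,0,0,0],[0,0,0,0,0,0,0,0],[0,0,0,0,0,0,0,0],[0,0,0,0,0,0,0,0]], [[0,0,0,0,0,0,0,0],[0,0,0,0,0,0,0,0],[0,0,0,0,0,0,0,0],[0,0,0,0,0,0,0,0],[0,0,0,0,0,0,0,0],[0,0,0,0,0,0,0,0],[0,0,0,0,0,0,0,0],[0,0,0,0,0,0,0,0]], [[0,0,0,0,0,0,0,0],[0,0,0,0,0,0,0,0],[0,0,0,0,0,0,0,0],[0,0,0,0,0,0,0,0],[0,0,0,0,0,0,0,0],[0,0,0,0,0,0,0,0],[0,0,0,0,0,0,0,0],[0,0,0,0,0,0,0,0]], (0, 1, 1, 0)),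
  ([2,9,5,17,42,1,6,20,0], 0, [[0,0,0,0,0,0,0,0],[0,0,0,0,0,0,0,0],[0,0,0,0,0,0,0,0],[0,0,0,0,0,0,0,0],[0,0,0,0,0,0,0,0],[0,0,0,0,0,0,0,0],[0,0,0,0,0,0,0,0],[0,0,0,0,0,0,0,0]], [[0,0,0,0,0,0,0,0],[0,0,0,0,0,0,0,0],[0,0,0,0,0,0,0,0],[0,0,0,0,0,0,0,0],[0,0,0,0,0,0,0,0],[0,0,0,0,0,0,0,0],[0,0,0,0,0,0,0,0],[0,0,0,0,0,0,0,0]], [[0,0,0,0,0,0,0,0],[0,0,0,0,0,0,0,0],[0,0,0,0,0,0,0,0],[0,0,0,0,0,0,0,0],[0,0,0,0,0,0,0,0],[0,0,0,0,0,0,0,0],[0,0,0,0,0,0,0,0],[0,0,0,0,0,0,0,0]], [[0,0,0,0,0,0,0,0],[0,0,0,0,0,0,0,0],[0,0,0,0,0,0,0,0],[0,0,0,0,0,0,0,0],[0,0,0,0,0,0,0,0],[0,0,0,0,0,0,0,0],[0,0,0,0,0,0,0,0],[0,0,0,0,0,0,0,0]], (0, 0, 1, 1)),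
  ([3,12,1,7,23,5,18,45,0], 0, [[0,0,0,0,0,0,0,0],[0,0,0,0,0,0,0,0],[0,0,0,0,0,0,0,0],[0,0,0,0,0,0,0,0],[0,0,0,0,0,0,0,0],[0,0,0,0,0,0,0,0],[0,0,0,0,0,0,0,0],[0,0,0,0,0,0,0,0]], [[0,0,0,0,0,0,0,0],[0,0,0,0,0,0,0,0],[0,0,0,0,0,0,0,0],[0,0,0,0,0,0,0,0],[0,0,0,0,0,0,0,0],[0,0,0,0,0,0,0,0],[0,0,0,0,0,0,0,0],[0,0,0,0,0,0,0,0]], [[0,0,0,0,0,0,0,0],[0,0,0,0,0,0,0,0],[0,0,0,0,0,0,0,0],[0,0,0,0,0,0,0,0],[0,0,0,0,0,0,0,0],[0,0,0,0,0,0,0,0],[0,0,0,0,0,0,0,0],[0,0,0,0,0,0,0,0]], [[0,0,0,0,0,0,0,0],[0,0,0,0,0,0,0,0],[0,0,0,0,0,0,0,0],[0,0,0,0,0,0,0,0],[0,0,0,0,0,0,0,0],[0,0,0,0,0,0,0,0],[0,0,0,0,0,0,0,0],[0,0,0,0,0,0,0,0]], (0, 0, 1, 1)),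
  ([4,16,0], 2, [[1,2,0,0,0,0,0,0],[3,5,0,0,0,0,0,0],[7,6,0,0,0,0,0,0],[0,5,0,0,0,0,0,0],[0,4,0,0,0,0,0,0],[4,0,0,0,0,0,0,0],[6,0,0,0,0,0,0,0],[0,2,0,0,0,0,0,0]], [[1,0,0,5,5,6,4,6],[0,1,4,0,7,2,3,0],[0,0,0,0,0,0,0,0],[0,0,0,0,0,0,0,0],[0,0,0,0,0,0,0,0],[0,0,0,0,0,0,0,0],[0,0,0,0,0,0,0,0],[0,0,0,0,0,0,0,0]], [[0,0,0,0,0,0,0,0],[0,0,0,0,0,0,0,0],[0,0,0,0,0,0,0,0],[0,0,0,0,0,0,0,0],[0,0,0,0,0,0,0,0],[0,0,0,0,0,0,0,0],[0,0,0,0,0,0,0,0],[0,0,0,0,0,0,0,0]], [[0,0,0,0,0,0,0,0],[0,0,0,0,0,0,0,0],[0,0,0,0,0,0,0,0],[0,0,0,0,0,0,0,0],[0,0,0,0,0,0,0,0],[0,0,0,0,0,0,0,0],[0,0,0,0,0,0,0,0],[0,0,0,0,0,0,0,0]], (0, 0, 1, 1)),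
  ([5,1,0], 2, [[0,0,0,0,0,0,0,0],[0,0,0,0,0,0,0,0],[0,7,0,0,0,0,0,0],[4,1,0,0,0,0,0,0],[0,0,0,0,0,0,0,0],[0,0,0,0,0,0,0,0],[0,6,0,0,0,0,0,0],[6,0,0,0,0,0,0,0]], [[0,0,1,0,0,0,2,3],[0,0,0,1,0,0,0,7],[0,0,0,0,0,0,0,0],[0,0,0,0,0,0,0,0],[0,0,0,0,0,0,0,0],[0,0,0,0,0,0,0,0],[0,0,0,0,0,0,0,0],[0,0,0,0,0,0,0,0]], [[0,0,0,0,0,0,0,0],[0,0,0,0,0,0,0,0],[0,0,0,0,0,0,0,0],[0,0,0,0,0,0,0,0],[0,0,0,0,0,0,0,0],[0,0,0,0,0,0,0,0],[0,0,0,0,0,0,0,0],[0,0,0,0,0,0,0,0]], [[0,0,0,0,0,0,0,0],[0,0,0,0,0,0,0,0],[0,0,0,0,0,0,0,0],[0,0,0,0,0,0,0,0],[0,0,0,0,0,0,0,0],[0,0,0,0,0,0,0,0],[0,0,0,0,0,0,0,0],[0,0,0,0,0,0,0,0]], (0, 0, 1, 1)),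
  ([6,42,5,2,20,1,17,9,0], 0, [[0,0,0,0,0,0,0,0],[0,0,0,0,0,0,0,0],[0,0,0,0,0,0,0,0],[0,0,0,0,0,0,0,0],[0,0,0,0,0,0,0,0],[0,0,0,0,0,0,0,0],[0,0,0,0,0,0,0,0],[0,0,0,0,0,0,0,0]], [[0,0,0,0,0,0,0,0],[0,0,0,0,0,0,0,0],[0,0,0,0,0,0,0,0],[0,0,0,0,0,0,0,0],[0,0,0,0,0,0,0,0],[0,0,0,0,0,0,0,0],[0,0,0,0,0,0,0,0],[0,0,0,0,0,0,0,0]], [[0,0,0,0,0,0,0,0],[0,0,0,0,0,0,0,0],[0,0,0,0,0,0,0,0],[0,0,0,0,0,0,0,0],[0,0,0,0,0,0,0,0],[0,0,0,0,0,0,0,0],[0,0,0,0,0,0,0,0],[0,0,0,0,0,0,0,0]], [[0,0,0,0,0,0,0,0],[0,0,0,0,0,0,0,0],[0,0,0,0,0,0,0,0],[0,0,0,0,0,0,0,0],[0,0,0,0,0,0,0,0],[0,0,0,0,0,0,0,0],[0,0,0,0,0,0,0,0],[0,0,0,0,0,0,0,0]], (0, 0, 1, 1)),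
  ([7,45,1,18,12,5,3,23,0], 0, [[0,0,0,0,0,0,0,0],[0,0,0,0,0,0,0,0],[0,0,0,0,0,0,0,0],[0,0,0,0,0,0,0,0],[0,0,0,0,0,0,0,0],[0,0,0,0,0,0,0,0],[0,0,0,0,0,0,0,0],[0,0,0,0,0,0,0,0]], [[0,0,0,0,0,0,0,0],[0,0,0,0,0,0,0,0],[0,0,0,0,0,0,0,0],[0,0,0,0,0,0,0,0],[0,0,0,0,0,0,0,0],[0,0,0,0,0,0,0,0],[0,0,0,0,0,0,0,0],[0,0,0,0,0,0,0,0]], [[0,0,0,0,0,0,0,0],[0,0,0,0,0,0,0,0],[0,0,0,0,0,0,0,0],[0,0,0,0,0,0,0,0],[0,0,0,0,0,0,0,0],[0,0,0,0,0,0,0,0],[0,0,0,0,0,0,0,0],[0,0,0,0,0,0,0,0]], [[0,0,0,0,0,0,0,0],[0,0,0,0,0,0,0,0],[0,0,0,0,0,0,0,0],[0,0,0,0,0,0,0,0],[0,0,0,0,0,0,0,0],[0,0,0,0,0,0,0,0],[0,0,0,0,0,0,0,0],[0,0,0,0,0,0,0,0]], (0, 0, 1, 1)),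
  ([8,48,0], 2, [[1,3,0,0,0,0,0,0],[7,7,0,0,0,0,0,0],[4,2,0,0,0,0,0,0],[0,3,0,0,0,0,0,0],[0,6,0,0,0,0,0,0],[6,0,0,0,0,0,0,0],[2,0,0,0,0,0,0,0],[0,7,0,0,0,0,0,0]], [[1,0,0,2,5,2,6,5],[0,1,6,0,3,2,7,0],[0,0,0,0,0,0,0,0],[0,0,0,0,0,0,0,0],[0,0,0,0,0,0,0,0],[0,0,0,0,0,0,0,0],[0,0,0,0,0,0,0,0],[0,0,0,0,0,0,0,0]], [[0,0,0,0,0,0,0,0],[0,0,0,0,0,0,0,0],[0,0,0,0,0,0,0,0],[0,0,0,0,0,0,0,0],[0,0,0,0,0,0,0,0],[0,0,0,0,0,0,0,0],[0,0,0,0,0,0,0,0],[0,0,0,0,0,0,0,0]], [[0,0,0,0,0,0,0,0],[0,0,0,0,0,0,0,0],[0,0,0,0,0,0,0,0],[0,0,0,0,0,0,0,0],[0,0,0,0,0,0,0,0],[0,0,0,0,0,0,0,0],[0,0,0,0,0,0,0,0],[0,0,0,0,0,0,0,0]], (0, 0, 1, 1)),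
  ([9,17,1,20,2,5,42,6,0], 0, [[0,0,0,0,0,0,0,0],[0,0,0,0,0,0,0,0],[0,0,0,0,0,0,0,0],[0,0,0,0,0,0,0,0],[0,0,0,0,0,0,0,0],[0,0,0,0,0,0,0,0],[0,0,0,0,0,0,0,0],[0,0,0,0,0,0,0,0]], [[0,0,0,0,0,0,0,0],[0,0,0,0,0,0,0,0],[0,0,0,0,0,0,0,0],[0,0,0,0,0,0,0,0],[0,0,0,0,0,0,0,0],[0,0,0,0,0,0,0,0],[0,0,0,0,0,0,0,0],[0,0,0,0,0,0,0,0]], [[0,0,0,0,0,0,0,0],[0,0,0,0,0,0,0,0],[0,0,0,0,0,0,0,0],[0,0,0,0,0,0,0,0],[0,0,0,0,0,0,0,0],[0,0,0,0,0,0,0,0],[0,0,0,0,0,0,0,0],[0,0,0,0,0,0,0,0]], [[0,0,0,0,0,0,0,0],[0,0,0,0,0,0,0,0],[0,0,0,0,0,0,0,0],[0,0,0,0,0,0,0,0],[0,0,0,0,0,0,0,0],[0,0,0,0,0,0,0,0],[0,0,0,0,0,0,0,0],[0,0,0,0,0,0,0,0]], (0, 0, 1, 1)),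
  ([10,61,0], 4, [[1,0,0,6,0,0,0,0],[0,1,1,0,0,0,0,0],[2,1,1,0,0,0,0,0],[0,4,0,1,0,0,0,0],[0,1,1,0,0,0,0,0],[1,0,0,6,0,0,0,0],[1,0,0,0,0,0,0,0],[0,6,0,0,0,0,0,0]], [[1,0,0,0,0,1,1,0],[0,1,0,0,1,0,0,3],[0,0,1,0,0,0,2,3],[0,0,0,1,0,0,0,7],[0,0,0,0,0,0,0,0],[0,0,0,0,0,0,0,0],[0,0,0,0,0,0,0,0],[0,0,0,0,0,0,0,0]], [[0,0,0,6,0,0,0,0],[0,0,1,0,0,0,0,0],[2,1,0,0,0,0,0,0],[0,4,0,0,0,0,0,0],[0,1,1,0,0,0,0,0],[1,0,0,6,0,0,0,0],[1,0,0,0,0,0,0,0],[0,6,0,0,0,0,0,0]], [[1,0,0,0,0,1,0,0],[0,1,0,0,1,0,0,0],[0,0,1,0,1,0,2,0],[0,0,0,1,0,3,3,7],[0,0,0,0,0,0,0,0],[0,0,0,0,0,0,0,0],[0,0,0,0,0,0,0,0],[0,0,0,0,0,0,0,0]], (0, 2, 1, 3)),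
  ([11,35,0], 2, [[7,3,0,0,0,0,0,0],[7,1,0,0,0,0,0,0],[7,4,0,0,0,0,0,0],[6,5,0,0,0,0,0,0],[0,4,0,0,0,0,0,0],[4,0,0,0,0,0,0,0],[4,1,0,0,0,0,0,0],[5,2,0,0,0,0,0,0]], [[1,0,7,5,2,7,1,6],[0,1,1,6,3,3,3,4],[0,0,0,0,0,0,0,0],[0,0,0,0,0,0,0,0],[0,0,0,0,0,0,0,0],[0,0,0,0,0,0,0,0],[0,0,0,0,0,0,0,0],[0,0,0,0,0,0,0,0]], [[0,0,0,0,0,0,0,0],[0,0,0,0,0,0,0,0],[0,0,0,0,0,0,0,0],[0,0,0,0,0,0,0,0],[0,0,0,0,0,0,0,0],[0,0,0,0,0,0,0,0],[0,0,0,0,0,0,0,0],[0,0,0,0,0,0,0,0]], [[0,0,0,0,0,0,0,0],[0,0,0,0,0,0,0,0],[0,0,0,0,0,0,0,0],[0,0,0,0,0,0,0,0],[0,0,0,0,0,0,0,0],[0,0,0,0,0,0,0,0],[0,0,0,0,0,0,0,0],[0,0,0,0,0,0,0,0]], (0, 0, 1, 1)),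
  ([12,7,5,45,3,1,23,18,0], 0, [[0,0,0,0,0,0,0,0],[0,0,0,0,0,0,0,0],[0,0,0,0,0,0,0,0],[0,0,0,0,0,0,0,0],[0,0,0,0,0,0,0,0],[0,0,0,0,0,0,0,0],[0,0,0,0,0,0,0,0],[0,0,0,0,0,0,0,0]], [[0,0,0,0,0,0,0,0],[0,0,0,0,0,0,0,0],[0,0,0,0,0,0,0,0],[0,0,0,0,0,0,0,0],[0,0,0,0,0,0,0,0],[0,0,0,0,0,0,0,0],[0,0,0,0,0,0,0,0],[0,0,0,0,0,0,0,0]], [[0,0,0,0,0,0,0,0],[0,0,0,0,0,0,0,0],[0,0,0,0,0,0,0,0],[0,0,0,0,0,0,0,0],[0,0,0,0,0,0,0,0],[0,0,0,0,0,0,0,0],[0,0,0,0,0,0,0,0],[0,0,0,0,0,0,0,0]], [[0,0,0,0,0,0,0,0],[0,0,0,0,0,0,0,0],[0,0,0,0,0,0,0,0],[0,0,0,0,0,0,0,0],[0,0,0,0,0,0,0,0],[0,0,0,0,0,0,0,0],[0,0,0,0,0,0,0,0],[0,0,0,0,0,0,0,0]], (0, 0, 1, 1)),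
  ([13,38,0], 4, [[0,5,0,0,0,0,0,0],[2,1,0,0,0,0,0,0],[0,0,0,7,0,0,0,0],[0,0,4,1,0,0,0,0],[0,1,0,0,0,0,0,0],[1,0,0,0,0,0,0,0],[0,0,0,6,0,0,0,0],[0,0,6,0,0,0,0,0]], [[1,0,0,0,5,1,0,0],[0,1,0,0,0,2,0,0],[0,0,1,0,0,0,2,3],[0,0,0,1,0,0,0,7],[0,0,0,0,0,0,0,0],[0,0,0,0,0,0,0,0],[0,0,0,0,0,0,0,0],[0,0,0,0,0,0,0,0]], [[1,5,0,0,0,0,0,0],[2,0,0,0,0,0,0,0],[0,0,1,7,0,0,0,0],[0,0,4,0,0,0,0,0],[0,1,0,0,0,0,0,0],[1,0,0,0,0,0,0,0],[0,0,0,6,0,0,0,0],[0,0,6,0,0,0,0,0]], [[1,0,0,0,5,0,0,0],[0,1,0,0,1,2,0,0],[0,0,1,0,0,0,2,0],[0,0,0,1,0,0,3,7],[0,0,0,0,0,0,0,0],[0,0,0,0,0,0,0,0],[0,0,0,0,0,0,0,0],[0,0,0,0,0,0,0,0]], (0, 1, 1, 0)),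
  ([14,39,0], 2, [[5,3,0,0,0,0,0,0],[7,3,0,0,0,0,0,0],[3,6,0,0,0,0,0,0],[6,6,0,0,0,0,0,0],[0,4,0,0,0,0,0,0],[4,0,0,0,0,0,0,0],[6,1,0,0,0,0,0,0],[5,5,0,0,0,0,0,0]], [[1,0,7,6,2,2,4,4],[0,1,4,6,6,3,2,4],[0,0,0,0,0,0,0,0],[0,0,0,0,0,0,0,0],[0,0,0,0,0,0,0,0],[0,0,0,0,0,0,0,0],[0,0,0,0,0,0,0,0],[0,0,0,0,0,0,0,0]], [[0,0,0,0,0,0,0,0],[0,0,0,0,0,0,0,0],[0,0,0,0,0,0,0,0],[0,0,0,0,0,0,0,0],[0,0,0,0,0,0,0,0],[0,0,0,0,0,0,0,0],[0,0,0,0,0,0,0,0],[0,0,0,0,0,0,0,0]], [[0,0,0,0,0,0,0,0],[0,0,0,0,0,0,0,0],[0,0,0,0,0,0,0,0],[0,0,0,0,0,0,0,0],[0,0,0,0,0,0,0,0],[0,0,0,0,0,0,0,0],[0,0,0,0,0,0,0,0],[0,0,0,0,0,0,0,0]], (0, 0, 1, 1)),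
  ([15,40,0], 4, [[1,0,5,6,0,0,0,0],[0,1,0,7,0,0,0,0],[2,0,1,0,0,0,0,0],[3,4,0,1,0,0,0,0],[0,1,0,7,0,0,0,0],[1,0,5,6,0,0,0,0],[0,5,0,0,0,0,0,0],[7,6,0,0,0,0,0,0]], [[1,0,0,0,0,1,1,4],[0,1,0,0,1,0,2,0],[0,0,1,0,0,0,2,3],[0,0,0,1,0,0,0,7],[0,0,0,0,0,0,0,0],[0,0,0,0,0,0,0,0],[0,0,0,0,0,0,0,0],[0,0,0,0,0,0,0,0]], [[0,0,5,6,0,0,0,0],[0,0,0,7,0,0,0,0],[2,0,0,0,0,0,0,0],[3,4,0,0,0,0,0,0],[0,1,0,7,0,0,0,0],[1,0,5,6,0,0,0,0],[0,5,0,0,0,0,0,0],[7,6,0,0,0,0,0,0]], [[1,0,0,0,0,1,0,0],[0,1,0,0,1,0,0,0],[0,0,1,0,1,2,2,0],[0,0,0,1,4,0,3,7],[0,0,0,0,0,0,0,0],[0,0,0,0,0,0,0,0],[0,0,0,0,0,0,0,0],[0,0,0,0,0,0,0,0]], (0, 2, 1, 3)),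
  ([16,4,0], 2, [[1,2,0,0,0,0,0,0],[3,5,0,0,0,0,0,0],[7,6,0,0,0,0,0,0],[0,5,0,0,0,0,0,0],[0,4,0,0,0,0,0,0],[4,0,0,0,0,0,0,0],[6,0,0,0,0,0,0,0],[0,2,0,0,0,0,0,0]], [[1,0,0,5,5,6,4,6],[0,1,4,0,7,2,3,0],[0,0,0,0,0,0,0,0],[0,0,0,0,0,0,0,0],[0,0,0,0,0,0,0,0],[0,0,0,0,0,0,0,0],[0,0,0,0,0,0,0,0],[0,0,0,0,0,0,0,0]], [[0,0,0,0,0,0,0,0],[0,0,0,0,0,0,0,0],[0,0,0,0,0,0,0,0],[0,0,0,0,0,0,0,0],[0,0,0,0,0,0,0,0],[0,0,0,0,0,0,0,0],[0,0,0,0,0,0,0,0],[0,0,0,0,0,0,0,0]], [[0,0,0,0,0,0,0,0],[0,0,0,0,0,0,0,0],[0,0,0,0,0,0,0,0],[0,0,0,0,0,0,0,0],[0,0,0,0,0,0,0,0],[0,0,0,0,0,0,0,0],[0,0,0,0,0,0,0,0],[0,0,0,0,0,0,0,0]], (0, 0, 1, 1)),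
  ([17,20,5,6,9,1,2,42,0], 0, [[0,0,0,0,0,0,0,0],[0,0,0,0,0,0,0,0],[0,0,0,0,0,0,0,0],[0,0,0,0,0,0,0,0],[0,0,0,0,0,0,0,0],[0,0,0,0,0,0,0,0],[0,0,0,0,0,0,0,0],[0,0,0,0,0,0,0,0]], [[0,0,0,0,0,0,0,0],[0,0,0,0,0,0,0,0],[0,0,0,0,0,0,0,0],[0,0,0,0,0,0,0,0],[0,0,0,0,0,0,0,0],[0,0,0,0,0,0,0,0],[0,0,0,0,0,0,0,0],[0,0,0,0,0,0,0,0]], [[0,0,0,0,0,0,0,0],[0,0,0,0,0,0,0,0],[0,0,0,0,0,0,0,0],[0,0,0,0,0,0,0,0],[0,0,0,0,0,0,0,0],[0,0,0,0,0,0,0,0],[0,0,0,0,0,0,0,0],[0,0,0,0,0,0,0,0]], [[0,0,0,0,0,0,0,0],[0,0,0,0,0,0,0,0],[0,0,0,0,0,0,0,0],[0,0,0,0,0,0,0,0],[0,0,0,0,0,0,0,0],[0,0,0,0,0,0,0,0],[0,0,0,0,0,0,0,0],[0,0,0,0,0,0,0,0]], (0, 0, 1, 1)),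
  ([18,23,1,3,45,5,7,12,0], 0, [[0,0,0,0,0,0,0,0],[0,0,0,0,0,0,0,0],[0,0,0,0,0,0,0,0],[0,0,0,0,0,0,0,0],[0,0,0,0,0,0,0,0],[0,0,0,0,0,0,0,0],[0,0,0,0,0,0,0,0],[0,0,0,0,0,0,0,0]], [[0,0,0,0,0,0,0,0],[0,0,0,0,0,0,0,0],[0,0,0,0,0,0,0,0],[0,0,0,0,0,0,0,0],[0,0,0,0,0,0,0,0],[0,0,0,0,0,0,0,0],[0,0,0,0,0,0,0,0],[0,0,0,0,0,0,0,0]], [[0,0,0,0,0,0,0,0],[0,0,0,0,0,0,0,0],[0,0,0,0,0,0,0,0],[0,0,0,0,0,0,0,0],[0,0,0,0,0,0,0,0],[0,0,0,0,0,0,0,0],[0,0,0,0,0,0,0,0],[0,0,0,0,0,0,0,0]], [[0,0,0,0,0,0,0,0],[0,0,0,0,0,0,0,0],[0,0,0,0,0,0,0,0],[0,0,0,0,0,0,0,0],[0,0,0,0,0,0,0,0],[0,0,0,0,0,0,0,0],[0,0,0,0,0,0,0,0],[0,0,0,0,0,0,0,0]], (0, 0, 1, 1)),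
  ([19,27,0], 2, [[1,1,0,0,0,0,0,0],[4,3,0,0,0,0,0,0],[3,4,0,0,0,0,0,0],[0,6,0,0,0,0,0,0],[0,2,0,0,0,0,0,0],[2,0,0,0,0,0,0,0],[4,0,0,0,0,0,0,0],[0,5,0,0,0,0,0,0]], [[1,0,0,7,5,4,2,3],[0,1,2,0,5,2,4,0],[0,0,0,0,0,0,0,0],[0,0,0,0,0,0,0,0],[0,0,0,0,0,0,0,0],[0,0,0,0,0,0,0,0],[0,0,0,0,0,0,0,0],[0,0,0,0,0,0,0,0]], [[0,0,0,0,0,0,0,0],[0,0,0,0,0,0,0,0],[0,0,0,0,0,0,0,0],[0,0,0,0,0,0,0,0],[0,0,0,0,0,0,0,0],[0,0,0,0,0,0,0,0],[0,0,0,0,0,0,0,0],[0,0,0,0,0,0,0,0]], [[0,0,0,0,0,0,0,0],[0,0,0,0,0,0,0,0],[0,0,0,0,0,0,0,0],[0,0,0,0,0,0,0,0],[0,0,0,0,0,0,0,0],[0,0,0,0,0,0,0,0],[0,0,0,0,0,0,0,0],[0,0,0,0,0,0,0,0]], (0, 0, 1, 1)),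
  ([20,6,1,42,17,5,9,2,0], 0, [[0,0,0,0,0,0,0,0],[0,0,0,0,0,0,0,0],[0,0,0,0,0,0,0,0],[0,0,0,0,0,0,0,0],[0,0,0,0,0,0,0,0],[0,0,0,0,0,0,0,0],[0,0,0,0,0,0,0,0],[0,0,0,0,0,0,0,0]], [[0,0,0,0,0,0,0,0],[0,0,0,0,0,0,0,0],[0,0,0,0,0,0,0,0],[0,0,0,0,0,0,0,0],[0,0,0,0,0,0,0,0],[0,0,0,0,0,0,0,0],[0,0,0,0,0,0,0,0],[0,0,0,0,0,0,0,0]], [[0,0,0,0,0,0,0,0],[0,0,0,0,0,0,0,0],[0,0,0,0,0,0,0,0],[0,0,0,0,0,0,0,0],[0,0,0,0,0,0,0,0],[0,0,0,0,0,0,0,0],[0,0,0,0,0,0,0,0],[0,0,0,0,0,0,0,0]], [[0,0,0,0,0,0,0,0],[0,0,0,0,0,0,0,0],[0,0,0,0,0,0,0,0],[0,0,0,0,0,0,0,0],[0,0,0,0,0,0,0,0],[0,0,0,0,0,0,0,0],[0,0,0,0,0,0,0,0],[0,0,0,0,0,0,0,0]], (0, 0, 1, 1)),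
  ([21,80,0], 4, [[0,0,0,0,0,0,0,0],[0,0,0,0,0,0,0,0],[2,1,1,0,0,0,0,0],[0,4,0,1,0,0,0,0],[0,1,1,0,0,0,0,0],[1,0,0,6,0,0,0,0],[1,0,0,0,0,0,0,0],[0,6,0,0,0,0,0,0]], [[1,0,0,0,0,0,1,0],[0,1,0,0,0,0,0,3],[0,0,1,0,0,0,2,3],[0,0,0,1,0,0,0,7],[0,0,0,0,0,0,0,0],[0,0,0,0,0,0,0,0],[0,0,0,0,0,0,0,0],[0,0,0,0,0,0,0,0]], [[1,0,0,0,0,0,0,0],[0,1,0,0,0,0,0,0],[2,1,0,0,0,0,0,0],[0,4,0,0,0,0,0,0],[0,1,1,0,0,0,0,0],[1,0,0,6,0,0,0,0],[1,0,0,0,0,0,0,0],[0,6,0,0,0,0,0,0]], [[1,0,0,0,0,0,0,0],[0,1,0,0,0,0,0,0],[0,0,1,0,1,0,2,0],[0,0,0,1,0,3,3,7],[0,0,0,0,0,0,0,0],[0,0,0,0,0,0,0,0],[0,0,0,0,0,0,0,0],[0,0,0,0,0,0,0,0]], (0, 1, 1, 0)),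
  ([22,70,0], 2, [[5,2,0,0,0,0,0,0],[3,1,0,0,0,0,0,0],[3,2,0,0,0,0,0,0],[1,6,0,0,0,0,0,0],[0,2,0,0,0,0,0,0],[2,0,0,0,0,0,0,0],[2,3,0,0,0,0,0,0],[4,5,0,0,0,0,0,0]], [[1,0,4,7,1,5,1,3],[0,1,1,2,7,4,4,5],[0,0,0,0,0,0,0,0],[0,0,0,0,0,0,0,0],[0,0,0,0,0,0,0,0],[0,0,0,0,0,0,0,0],[0,0,0,0,0,0,0,0],[0,0,0,0,0,0,0,0]], [[0,0,0,0,0,0,0,0],[0,0,0,0,0,0,0,0],[0,0,0,0,0,0,0,0],[0,0,0,0,0,0,0,0],[0,0,0,0,0,0,0,0],[0,0,0,0,0,0,0,0],[0,0,0,0,0,0,0,0],[0,0,0,0,0,0,0,0]], [[0,0,0,0,0,0,0,0],[0,0,0,0,0,0,0,0],[0,0,0,0,0,0,0,0],[0,0,0,0,0,0,0,0],[0,0,0,0,0,0,0,0],[0,0,0,0,0,0,0,0],[0,0,0,0,0,0,0,0],[0,0,0,0,0,0,0,0]], (0, 0, 1, 1)),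
  ([23,3,5,12,18,1,45,7,0], 0, [[0,0,0,0,0,0,0,0],[0,0,0,0,0,0,0,0],[0,0,0,0,0,0,0,0],[0,0,0,0,0,0,0,0],[0,0,0,0,0,0,0,0],[0,0,0,0,0,0,0,0],[0,0,0,0,0,0,0,0],[0,0,0,0,0,0,0,0]], [[0,0,0,0,0,0,0,0],[0,0,0,0,0,0,0,0],[0,0,0,0,0,0,0,0],[0,0,0,0,0,0,0,0],[0,0,0,0,0,0,0,0],[0,0,0,0,0,0,0,0],[0,0,0,0,0,0,0,0],[0,0,0,0,0,0,0,0]], [[0,0,0,0,0,0,0,0],[0,0,0,0,0,0,0,0],[0,0,0,0,0,0,0,0],[0,0,0,0,0,0,0,0],[0,0,0,0,0,0,0,0],[0,0,0,0,0,0,0,0],[0,0,0,0,0,0,0,0],[0,0,0,0,0,0,0,0]], [[0,0,0,0,0,0,0,0],[0,0,0,0,0,0,0,0],[0,0,0,0,0,0,0,0],[0,0,0,0,0,0,0,0],[0,0,0,0,0,0,0,0],[0,0,0,0,0,0,0,0],[0,0,0,0,0,0,0,0],[0,0,0,0,0,0,0,0]], (0, 0, 1, 1)),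
  ([24,77,0], 4, [[1,5,0,0,0,0,0,0],[2,0,0,0,0,0,0,0],[0,0,0,7,0,0,0,0],[0,0,4,1,0,0,0,0],[0,1,0,0,0,0,0,0],[1,0,0,0,0,0,0,0],[0,0,0,6,0,0,0,0],[0,0,6,0,0,0,0,0]], [[1,0,0,0,5,0,0,0],[0,1,0,0,1,2,0,0],[0,0,1,0,0,0,2,3],[0,0,0,1,0,0,0,7],[0,0,0,0,0,0,0,0],[0,0,0,0,0,0,0,0],[0,0,0,0,0,0,0,0],[0,0,0,0,0,0,0,0]], [[0,5,0,0,0,0,0,0],[2,1,0,0,0,0,0,0],[0,0,1,7,0,0,0,0],[0,0,4,0,0,0,0,0],[0,1,0,0,0,0,0,0],[1,0,0,0,0,0,0,0],[0,0,0,6,0,0,0,0],[0,0,6,0,0,0,0,0]], [[1,0,0,0,5,1,0,0],[0,1,0,0,0,2,0,0],[0,0,1,0,0,0,2,0],[0,0,0,1,0,0,3,7],[0,0,0,0,0,0,0,0],[0,0,0,0,0,0,0,0],[0,0,0,0,0,0,0,0],[0,0,0,0,0,0,0,0]], (0, 0, 1, 1)),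
  ([25,62,0], 2, [[3,2,0,0,0,0,0,0],[3,7,0,0,0,0,0,0],[4,4,0,0,0,0,0,0],[1,3,0,0,0,0,0,0],[0,2,0,0,0,0,0,0],[2,0,0,0,0,0,0,0],[4,3,0,0,0,0,0,0],[4,7,0,0,0,0,0,0]], [[1,0,4,6,1,6,2,4],[0,1,2,2,4,4,2,5],[0,0,0,0,0,0,0,0],[0,0,0,0,0,0,0,0],[0,0,0,0,0,0,0,0],[0,0,0,0,0,0,0,0],[0,0,0,0,0,0,0,0],[0,0,0,0,0,0,0,0]], [[0,0,0,0,0,0,0,0],[0,0,0,0,0,0,0,0],[0,0,0,0,0,0,0,0],[0,0,0,0,0,0,0,0],[0,0,0,0,0,0,0,0],[0,0,0,0,0,0,0,0],[0,0,0,0,0,0,0,0],[0,0,0,0,0,0,0,0]], [[0,0,0,0,0,0,0,0],[0,0,0,0,0,0,0,0],[0,0,0,0,0,0,0,0],[0,0,0,0,0,0,0,0],[0,0,0,0,0,0,0,0],[0,0,0,0,0,0,0,0],[0,0,0,0,0,0,0,0],[0,0,0,0,0,0,0,0]], (0, 0, 1, 1)),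
  ([26,78,0], 4, [[5,6,0,1,0,0,0,0],[0,7,1,0,0,0,0,0],[1,0,0,2,0,0,0,0],[0,1,4,3,0,0,0,0],[0,0,0,0,0,0,0,0],[0,0,0,0,0,0,0,0],[0,0,5,0,0,0,0,0],[0,0,6,7,0,0,0,0]], [[0,0,1,0,0,0,2,3],[0,0,0,1,0,0,0,7],[0,0,0,0,1,0,2,0],[0,0,0,0,0,1,1,4],[0,0,0,0,0,0,0,0],[0,0,0,0,0,0,0,0],[0,0,0,0,0,0,0,0],[0,0,0,0,0,0,0,0]], [[1,0,0,1,0,0,0,0],[0,1,1,0,0,0,0,0],[0,0,0,2,0,0,0,0],[0,0,4,3,0,0,0,0],[0,0,1,0,0,0,0,0],[0,0,0,1,0,0,0,0],[0,0,5,0,0,0,0,0],[0,0,6,7,0,0,0,0]], [[1,0,5,6,0,0,0,4],[0,1,0,7,0,0,2,3],[0,0,0,0,1,0,0,0],[0,0,0,0,0,1,0,0],[0,0,0,0,0,0,0,0],[0,0,0,0,0,0,0,0],[0,0,0,0,0,0,0,0],[0,0,0,0,0,0,0,0]], (0, 1, 1, 0)),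
  ([27,19,0], 2, [[1,1,0,0,0,0,0,0],[4,3,0,0,0,0,0,0],[3,4,0,0,0,0,0,0],[0,6,0,0,0,0,0,0],[0,2,0,0,0,0,0,0],[2,0,0,0,0,0,0,0],[4,0,0,0,0,0,0,0],[0,5,0,0,0,0,0,0]], [[1,0,0,7,5,4,2,3],[0,1,2,0,5,2,4,0],[0,0,0,0,0,0,0,0],[0,0,0,0,0,0,0,0],[0,0,0,0,0,0,0,0],[0,0,0,0,0,0,0,0],[0,0,0,0,0,0,0,0],[0,0,0,0,0,0,0,0]], [[0,0,0,0,0,0,0,0],[0,0,0,0,0,0,0,0],[0,0,0,0,0,0,0,0],[0,0,0,0,0,0,0,0],[0,0,0,0,0,0,0,0],[0,0,0,0,0,0,0,0],[0,0,0,0,0,0,0,0],[0,0,0,0,0,0,0,0]], [[0,0,0,0,0,0,0,0],[0,0,0,0,0,0,0,0],[0,0,0,0,0,0,0,0],[0,0,0,0,0,0,0,0],[0,0,0,0,0,0,0,0],[0,0,0,0,0,0,0,0],[0,0,0,0,0,0,0,0],[0,0,0,0,0,0,0,0]], (0, 0, 1, 1)),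
  ([28,72,5,73,50,1,49,30,0], 0, [[0,0,0,0,0,0,0,0],[0,0,0,0,0,0,0,0],[0,0,0,0,0,0,0,0],[0,0,0,0,0,0,0,0],[0,0,0,0,0,0,0,0],[0,0,0,0,0,0,0,0],[0,0,0,0,0,0,0,0],[0,0,0,0,0,0,0,0]], [[0,0,0,0,0,0,0,0],[0,0,0,0,0,0,0,0],[0,0,0,0,0,0,0,0],[0,0,0,0,0,0,0,0],[0,0,0,0,0,0,0,0],[0,0,0,0,0,0,0,0],[0,0,0,0,0,0,0,0],[0,0,0,0,0,0,0,0]], [[0,0,0,0,0,0,0,0],[0,0,0,0,0,0,0,0],[0,0,0,0,0,0,0,0],[0,0,0,0,0,0,0,0],[0,0,0,0,0,0,0,0],[0,0,0,0,0,0,0,0],[0,0,0,0,0,0,0,0],[0,0,0,0,0,0,0,0]], [[0,0,0,0,0,0,0,0],[0,0,0,0,0,0,0,0],[0,0,0,0,0,0,0,0],[0,0,0,0,0,0,0,0],[0,0,0,0,0,0,0,0],[0,0,0,0,0,0,0,0],[0,0,0,0,0,0,0,0],[0,0,0,0,0,0,0,0]], (0, 0, 1, 1)),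
  ([29,59,0], 4, [[0,0,0,0,0,0,0,0],[0,0,0,0,0,0,0,0],[2,0,1,0,0,0,0,0],[3,4,0,1,0,0,0,0],[0,1,0,7,0,0,0,0],[1,0,5,6,0,0,0,0],[0,5,0,0,0,0,0,0],[7,6,0,0,0,0,0,0]], [[1,0,0,0,0,0,1,4],[0,1,0,0,0,0,2,0],[0,0,1,0,0,0,2,3],[0,0,0,1,0,0,0,7],[0,0,0,0,0,0,0,0],[0,0,0,0,0,0,0,0],[0,0,0,0,0,0,0,0],[0,0,0,0,0,0,0,0]], [[1,0,0,0,0,0,0,0],[0,1,0,0,0,0,0,0],[2,0,0,0,0,0,0,0],[3,4,0,0,0,0,0,0],[0,1,0,7,0,0,0,0],[1,0,5,6,0,0,0,0],[0,5,0,0,0,0,0,0],[7,6,0,0,0,0,0,0]], [[1,0,0,0,0,0,0,0],[0,1,0,0,0,0,0,0],[0,0,1,0,1,2,2,0],[0,0,0,1,4,0,3,7],[0,0,0,0,0,0,0,0],[0,0,0,0,0,0,0,0],[0,0,0,0,0,0,0,0],[0,0,0,0,0,0,0,0]], (0, 0, 1, 1)),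
  ([30,49,1,50,73,5,72,28,0], 0, [[0,0,0,0,0,0,0,0],[0,0,0,0,0,0,0,0],[0,0,0,0,0,0,0,0],[0,0,0,0,0,0,0,0],[0,0,0,0,0,0,0,0],[0,0,0,0,0,0,0,0],[0,0,0,0,0,0,0,0],[0,0,0,0,0,0,0,0]], [[0,0,0,0,0,0,0,0],[0,0,0,0,0,0,0,0],[0,0,0,0,0,0,0,0],[0,0,0,0,0,0,0,0],[0,0,0,0,0,0,0,0],[0,0,0,0,0,0,0,0],[0,0,0,0,0,0,0,0],[0,0,0,0,0,0,0,0]], [[0,0,0,0,0,0,0,0],[0,0,0,0,0,0,0,0],[0,0,0,0,0,0,0,0],[0,0,0,0,0,0,0,0],[0,0,0,0,0,0,0,0],[0,0,0,0,0,0,0,0],[0,0,0,0,0,0,0,0],[0,0,0,0,0,0,0,0]], [[0,0,0,0,0,0,0,0],[0,0,0,0,0,0,0,0],[0,0,0,0,0,0,0,0],[0,0,0,0,0,0,0,0],[0,0,0,0,0,0,0,0],[0,0,0,0,0,0,0,0],[0,0,0,0,0,0,0,0],[0,0,0,0,0,0,0,0]], (0, 0, 1, 1)),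
  ([31,66,0], 2, [[7,2,0,0,0,0,0,0],[3,3,0,0,0,0,0,0],[3,2,0,0,0,0,0,0],[1,6,0,0,0,0,0,0],[0,2,0,0,0,0,0,0],[2,0,0,0,0,0,0,0],[2,3,0,0,0,0,0,0],[4,5,0,0,0,0,0,0]], [[1,0,4,7,1,4,1,3],[0,1,1,2,6,4,4,5],[0,0,0,0,0,0,0,0],[0,0,0,0,0,0,0,0],[0,0,0,0,0,0,0,0],[0,0,0,0,0,0,0,0],[0,0,0,0,0,0,0,0],[0,0,0,0,0,0,0,0]], [[0,0,0,0,0,0,0,0],[0,0,0,0,0,0,0,0],[0,0,0,0,0,0,0,0],[0,0,0,0,0,0,0,0],[0,0,0,0,0,0,0,0],[0,0,0,0,0,0,0,0],[0,0,0,0,0,0,0,0],[0,0,0,0,0,0,0,0]], [[0,0,0,0,0,0,0,0],[0,0,0,0,0,0,0,0],[0,0,0,0,0,0,0,0],[0,0,0,0,0,0,0,0],[0,0,0,0,0,0,0,0],[0,0,0,0,0,0,0,0],[0,0,0,0,0,0,0,0],[0,0,0,0,0,0,0,0]], (0, 0, 1, 1)),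
  ([32,55,0], 4, [[0,0,0,0,0,0,0,0],[0,0,0,0,0,0,0,0],[0,1,1,0,0,0,0,0],[3,0,0,1,0,0,0,0],[0,1,1,7,0,0,0,0],[1,0,5,0,0,0,0,0],[1,5,0,0,0,0,0,0],[7,0,0,0,0,0,0,0]], [[1,0,0,0,0,0,0,4],[0,1,0,0,0,0,2,3],[0,0,1,0,0,0,2,3],[0,0,0,1,0,0,0,7],[0,0,0,0,0,0,0,0],[0,0,0,0,0,0,0,0],[0,0,0,0,0,0,0,0],[0,0,0,0,0,0,0,0]], [[1,0,0,0,0,0,0,0],[0,1,0,0,0,0,0,0],[0,1,0,0,0,0,0,0],[3,0,0,0,0,0,0,0],[0,1,1,7,0,0,0,0],[1,0,5,0,0,0,0,0],[1,5,0,0,0,0,0,0],[7,0,0,0,0,0,0,0]], [[1,0,0,0,0,0,0,0],[0,1,0,0,0,0,0,0],[0,0,1,0,0,2,2,0],[0,0,0,1,4,3,3,7],[0,0,0,0,0,0,0,0],[0,0,0,0,0,0,0,0],[0,0,0,0,0,0,0,0],[0,0,0,0,0,0,0,0]], (0, 0, 1, 1)),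
  ([33,67,0], 2, [[7,3,0,0,0,0,0,0],[7,1,0,0,0,0,0,0],[4,2,0,0,0,0,0,0],[0,3,0,0,0,0,0,0],[0,6,0,0,0,0,0,0],[6,0,0,0,0,0,0,0],[2,0,0,0,0,0,0,0],[0,7,0,0,0,0,0,0]], [[1,0,0,2,5,3,6,5],[0,1,6,0,2,2,7,0],[0,0,0,0,0,0,0,0],[0,0,0,0,0,0,0,0],[0,0,0,0,0,0,0,0],[0,0,0,0,0,0,0,0],[0,0,0,0,0,0,0,0],[0,0,0,0,0,0,0,0]], [[0,0,0,0,0,0,0,0],[0,0,0,0,0,0,0,0],[0,0,0,0,0,0,0,0],[0,0,0,0,0,0,0,0],[0,0,0,0,0,0,0,0],[0,0,0,0,0,0,0,0],[0,0,0,0,0,0,0,0],[0,0,0,0,0,0,0,0]], [[0,0,0,0,0,0,0,0],[0,0,0,0,0,0,0,0],[0,0,0,0,0,0,0,0],[0,0,0,0,0,0,0,0],[0,0,0,0,0,0,0,0],[0,0,0,0,0,0,0,0],[0,0,0,0,0,0,0,0],[0,0,0,0,0,0,0,0]], (0, 0, 1, 1)),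
  ([34,68,0], 2, [[1,2,0,0,0,0,0,0],[3,5,0,0,0,0,0,0],[4,4,0,0,0,0,0,0],[1,3,0,0,0,0,0,0],[0,2,0,0,0,0,0,0],[2,0,0,0,0,0,0,0],[4,3,0,0,0,0,0,0],[4,7,0,0,0,0,0,0]], [[1,0,4,6,1,7,2,4],[0,1,2,2,5,4,2,5],[0,0,0,0,0,0,0,0],[0,0,0,0,0,0,0,0],[0,0,0,0,0,0,0,0],[0,0,0,0,0,0,0,0],[0,0,0,0,0,0,0,0],[0,0,0,0,0,0,0,0]], [[0,0,0,0,0,0,0,0],[0,0,0,0,0,0,0,0],[0,0,0,0,0,0,0,0],[0,0,0,0,0,0,0,0],[0,0,0,0,0,0,0,0],[0,0,0,0,0,0,0,0],[0,0,0,0,0,0,0,0],[0,0,0,0,0,0,0,0]], [[0,0,0,0,0,0,0,0],[0,0,0,0,0,0,0,0],[0,0,0,0,0,0,0,0],[0,0,0,0,0,0,0,0],[0,0,0,0,0,0,0,0],[0,0,0,0,0,0,0,0],[0,0,0,0,0,0,0,0],[0,0,0,0,0,0,0,0]], (0, 0, 1, 1)),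
  ([35,11,0], 2, [[7,3,0,0,0,0,0,0],[7,1,0,0,0,0,0,0],[7,4,0,0,0,0,0,0],[6,5,0,0,0,0,0,0],[0,4,0,0,0,0,0,0],[4,0,0,0,0,0,0,0],[4,1,0,0,0,0,0,0],[5,2,0,0,0,0,0,0]], [[1,0,7,5,2,7,1,6],[0,1,1,6,3,3,3,4],[0,0,0,0,0,0,0,0],[0,0,0,0,0,0,0,0],[0,0,0,0,0,0,0,0],[0,0,0,0,0,0,0,0],[0,0,0,0,0,0,0,0],[0,0,0,0,0,0,0,0]], [[0,0,0,0,0,0,0,0],[0,0,0,0,0,0,0,0],[0,0,0,0,0,0,0,0],[0,0,0,0,0,0,0,0],[0,0,0,0,0,0,0,0],[0,0,0,0,0,0,0,0],[0,0,0,0,0,0,0,0],[0,0,0,0,0,0,0,0]], [[0,0,0,0,0,0,0,0],[0,0,0,0,0,0,0,0],[0,0,0,0,0,0,0,0],[0,0,0,0,0,0,0,0],[0,0,0,0,0,0,0,0],[0,0,0,0,0,0,0,0],[0,0,0,0,0,0,0,0],[0,0,0,0,0,0,0,0]], (0, 0, 1, 1)),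
  ([36,51,0], 4, [[1,0,5,0,0,0,0,0],[0,1,1,7,0,0,0,0],[0,1,1,0,0,0,0,0],[3,0,0,1,0,0,0,0],[0,1,1,7,0,0,0,0],[1,0,5,0,0,0,0,0],[1,5,0,0,0,0,0,0],[7,0,0,0,0,0,0,0]], [[1,0,0,0,0,1,0,4],[0,1,0,0,1,0,2,3],[0,0,1,0,0,0,2,3],[0,0,0,1,0,0,0,7],[0,0,0,0,0,0,0,0],[0,0,0,0,0,0,0,0],[0,0,0,0,0,0,0,0],[0,0,0,0,0,0,0,0]], [[0,0,5,0,0,0,0,0],[0,0,1,7,0,0,0,0],[0,1,0,0,0,0,0,0],[3,0,0,0,0,0,0,0],[0,1,1,7,0,0,0,0],[1,0,5,0,0,0,0,0],[1,5,0,0,0,0,0,0],[7,0,0,0,0,0,0,0]], [[1,0,0,0,0,1,0,0],[0,1,0,0,1,0,0,0],[0,0,1,0,0,2,2,0],[0,0,0,1,4,3,3,7],[0,0,0,0,0,0,0,0],[0,0,0,0,0,0,0,0],[0,0,0,0,0,0,0,0],[0,0,0,0,0,0,0,0]], (0, 2, 1, 3)),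
  ([37,69,0], 2, [[3,3,0,0,0,0,0,0],[7,5,0,0,0,0,0,0],[7,4,0,0,0,0,0,0],[6,5,0,0,0,0,0,0],[0,4,0,0,0,0,0,0],[4,0,0,0,0,0,0,0],[4,1,0,0,0,0,0,0],[5,2,0,0,0,0,0,0]], [[1,0,7,5,2,6,1,6],[0,1,1,6,2,3,3,4],[0,0,0,0,0,0,0,0],[0,0,0,0,0,0,0,0],[0,0,0,0,0,0,0,0],[0,0,0,0,0,0,0,0],[0,0,0,0,0,0,0,0],[0,0,0,0,0,0,0,0]], [[0,0,0,0,0,0,0,0],[0,0,0,0,0,0,0,0],[0,0,0,0,0,0,0,0],[0,0,0,0,0,0,0,0],[0,0,0,0,0,0,0,0],[0,0,0,0,0,0,0,0],[0,0,0,0,0,0,0,0],[0,0,0,0,0,0,0,0]], [[0,0,0,0,0,0,0,0],[0,0,0,0,0,0,0,0],[0,0,0,0,0,0,0,0],[0,0,0,0,0,0,0,0],[0,0,0,0,0,0,0,0],[0,0,0,0,0,0,0,0],[0,0,0,0,0,0,0,0],[0,0,0,0,0,0,0,0]], (0, 0, 1, 1)),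
  ([38,13,0], 4, [[0,5,0,0,0,0,0,0],[2,1,0,0,0,0,0,0],[0,0,0,7,0,0,0,0],[0,0,4,1,0,0,0,0],[0,1,0,0,0,0,0,0],[1,0,0,0,0,0,0,0],[0,0,0,6,0,0,0,0],[0,0,6,0,0,0,0,0]], [[1,0,0,0,5,1,0,0],[0,1,0,0,0,2,0,0],[0,0,1,0,0,0,2,3],[0,0,0,1,0,0,0,7],[0,0,0,0,0,0,0,0],[0,0,0,0,0,0,0,0],[0,0,0,0,0,0,0,0],[0,0,0,0,0,0,0,0]], [[1,5,0,0,0,0,0,0],[2,0,0,0,0,0,0,0],[0,0,1,7,0,0,0,0],[0,0,4,0,0,0,0,0],[0,1,0,0,0,0,0,0],[1,0,0,0,0,0,0,0],[0,0,0,6,0,0,0,0],[0,0,6,0,0,0,0,0]], [[1,0,0,0,5,0,0,0],[0,1,0,0,1,2,0,0],[0,0,1,0,0,0,2,0],[0,0,0,1,0,0,3,7],[0,0,0,0,0,0,0,0],[0,0,0,0,0,0,0,0],[0,0,0,0,0,0,0,0],[0,0,0,0,0,0,0,0]], (0, 0, 1, 1)),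
  ([39,14,0], 2, [[5,3,0,0,0,0,0,0],[7,3,0,0,0,0,0,0],[3,6,0,0,0,0,0,0],[6,6,0,0,0,0,0,0],[0,4,0,0,0,0,0,0],[4,0,0,0,0,0,0,0],[6,1,0,0,0,0,0,0],[5,5,0,0,0,0,0,0]], [[1,0,7,6,2,2,4,4],[0,1,4,6,6,3,2,4],[0,0,0,0,0,0,0,0],[0,0,0,0,0,0,0,0],[0,0,0,0,0,0,0,0],[0,0,0,0,0,0,0,0],[0,0,0,0,0,0,0,0],[0,0,0,0,0,0,0,0]], [[0,0,0,0,0,0,0,0],[0,0,0,0,0,0,0,0],[0,0,0,0,0,0,0,0],[0,0,0,0,0,0,0,0],[0,0,0,0,0,0,0,0],[0,0,0,0,0,0,0,0],[0,0,0,0,0,0,0,0],[0,0,0,0,0,0,0,0]], [[0,0,0,0,0,0,0,0],[0,0,0,0,0,0,0,0],[0,0,0,0,0,0,0,0],[0,0,0,0,0,0,0,0],[0,0,0,0,0,0,0,0],[0,0,0,0,0,0,0,0],[0,0,0,0,0,0,0,0],[0,0,0,0,0,0,0,0]], (0, 0, 1, 1)),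
  ([40,15,0], 4, [[1,0,5,6,0,0,0,0],[0,1,0,7,0,0,0,0],[2,0,1,0,0,0,0,0],[3,4,0,1,0,0,0,0],[0,1,0,7,0,0,0,0],[1,0,5,6,0,0,0,0],[0,5,0,0,0,0,0,0],[7,6,0,0,0,0,0,0]], [[1,0,0,0,0,1,1,4],[0,1,0,0,1,0,2,0],[0,0,1,0,0,0,2,3],[0,0,0,1,0,0,0,7],[0,0,0,0,0,0,0,0],[0,0,0,0,0,0,0,0],[0,0,0,0,0,0,0,0],[0,0,0,0,0,0,0,0]], [[0,0,5,6,0,0,0,0],[0,0,0,7,0,0,0,0],[2,0,0,0,0,0,0,0],[3,4,0,0,0,0,0,0],[0,1,0,7,0,0,0,0],[1,0,5,6,0,0,0,0],[0,5,0,0,0,0,0,0],[7,6,0,0,0,0,0,0]], [[1,0,0,0,0,1,0,0],[0,1,0,0,1,0,0,0],[0,0,1,0,1,2,2,0],[0,0,0,1,4,0,3,7],[0,0,0,0,0,0,0,0],[0,0,0,0,0,0,0,0],[0,0,0,0,0,0,0,0],[0,0,0,0,0,0,0,0]], (0, 3, 1, 2)),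
  ([41,75,0], 2, [[3,1,0,0,0,0,0,0],[4,1,0,0,0,0,0,0],[3,4,0,0,0,0,0,0],[0,6,0,0,0,0,0,0],[0,2,0,0,0,0,0,0],[2,0,0,0,0,0,0,0],[4,0,0,0,0,0,0,0],[0,5,0,0,0,0,0,0]], [[1,0,0,7,5,5,2,3],[0,1,2,0,4,2,4,0],[0,0,0,0,0,0,0,0],[0,0,0,0,0,0,0,0],[0,0,0,0,0,0,0,0],[0,0,0,0,0,0,0,0],[0,0,0,0,0,0,0,0],[0,0,0,0,0,0,0,0]], [[0,0,0,0,0,0,0,0],[0,0,0,0,0,0,0,0],[0,0,0,0,0,0,0,0],[0,0,0,0,0,0,0,0],[0,0,0,0,0,0,0,0],[0,0,0,0,0,0,0,0],[0,0,0,0,0,0,0,0],[0,0,0,0,0,0,0,0]], [[0,0,0,0,0,0,0,0],[0,0,0,0,0,0,0,0],[0,0,0,0,0,0,0,0],[0,0,0,0,0,0,0,0],[0,0,0,0,0,0,0,0],[0,0,0,0,0,0,0,0],[0,0,0,0,0,0,0,0],[0,0,0,0,0,0,0,0]], (0, 0, 1, 1)),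
  ([42,2,1,9,6,5,20,17,0], 0, [[0,0,0,0,0,0,0,0],[0,0,0,0,0,0,0,0],[0,0,0,0,0,0,0,0],[0,0,0,0,0,0,0,0],[0,0,0,0,0,0,0,0],[0,0,0,0,0,0,0,0],[0,0,0,0,0,0,0,0],[0,0,0,0,0,0,0,0]], [[0,0,0,0,0,0,0,0],[0,0,0,0,0,0,0,0],[0,0,0,0,0,0,0,0],[0,0,0,0,0,0,0,0],[0,0,0,0,0,0,0,0],[0,0,0,0,0,0,0,0],[0,0,0,0,0,0,0,0],[0,0,0,0,0,0,0,0]], [[0,0,0,0,0,0,0,0],[0,0,0,0,0,0,0,0],[0,0,0,0,0,0,0,0],[0,0,0,0,0,0,0,0],[0,0,0,0,0,0,0,0],[0,0,0,0,0,0,0,0],[0,0,0,0,0,0,0,0],[0,0,0,0,0,0,0,0]], [[0,0,0,0,0,0,0,0],[0,0,0,0,0,0,0,0],[0,0,0,0,0,0,0,0],[0,0,0,0,0,0,0,0],[0,0,0,0,0,0,0,0],[0,0,0,0,0,0,0,0],[0,0,0,0,0,0,0,0],[0,0,0,0,0,0,0,0]], (0, 0, 1, 1)),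
  ([43,79,0], 4, [[0,6,0,1,0,0,0,0],[1,0,1,0,0,0,0,0],[1,0,1,2,0,0,0,0],[0,1,4,0,0,0,0,0],[0,0,0,0,0,0,0,0],[0,0,0,0,0,0,0,0],[0,0,0,1,0,0,0,0],[0,0,6,0,0,0,0,0]], [[0,0,1,0,0,0,2,3],[0,0,0,1,0,0,0,7],[0,0,0,0,1,0,0,3],[0,0,0,0,0,1,1,0],[0,0,0,0,0,0,0,0],[0,0,0,0,0,0,0,0],[0,0,0,0,0,0,0,0],[0,0,0,0,0,0,0,0]], [[1,0,0,1,0,0,0,0],[0,1,1,0,0,0,0,0],[0,0,1,2,0,0,0,0],[0,0,4,0,0,0,0,0],[0,0,1,0,0,0,0,0],[0,0,0,1,0,0,0,0],[0,0,0,1,0,0,0,0],[0,0,6,0,0,0,0,0]], [[1,0,0,6,0,0,1,4],[0,1,1,0,0,0,2,0],[0,0,0,0,1,0,0,0],[0,0,0,0,0,1,0,0],[0,0,0,0,0,0,0,0],[0,0,0,0,0,0,0,0],[0,0,0,0,0,0,0,0],[0,0,0,0,0,0,0,0]], (0, 0, 1, 1)),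
  ([44,54,0], 2, [[3,1,0,0,0,0,0,0],[4,1,0,0,0,0,0,0],[4,6,0,0,0,0,0,0],[7,3,0,0,0,0,0,0],[0,6,0,0,0,0,0,0],[6,0,0,0,0,0,0,0],[6,2,0,0,0,0,0,0],[1,7,0,0,0,0,0,0]], [[1,0,6,2,3,3,1,5],[0,1,1,3,5,7,7,2],[0,0,0,0,0,0,0,0],[0,0,0,0,0,0,0,0],[0,0,0,0,0,0,0,0],[0,0,0,0,0,0,0,0],[0,0,0,0,0,0,0,0],[0,0,0,0,0,0,0,0]], [[0,0,0,0,0,0,0,0],[0,0,0,0,0,0,0,0],[0,0,0,0,0,0,0,0],[0,0,0,0,0,0,0,0],[0,0,0,0,0,0,0,0],[0,0,0,0,0,0,0,0],[0,0,0,0,0,0,0,0],[0,0,0,0,0,0,0,0]], [[0,0,0,0,0,0,0,0],[0,0,0,0,0,0,0,0],[0,0,0,0,0,0,0,0],[0,0,0,0,0,0,0,0],[0,0,0,0,0,0,0,0],[0,0,0,0,0,0,0,0],[0,0,0,0,0,0,0,0],[0,0,0,0,0,0,0,0]], (0, 0, 1, 1)),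
  ([45,18,5,23,7,1,12,3,0], 0, [[0,0,0,0,0,0,0,0],[0,0,0,0,0,0,0,0],[0,0,0,0,0,0,0,0],[0,0,0,0,0,0,0,0],[0,0,0,0,0,0,0,0],[0,0,0,0,0,0,0,0],[0,0,0,0,0,0,0,0],[0,0,0,0,0,0,0,0]], [[0,0,0,0,0,0,0,0],[0,0,0,0,0,0,0,0],[0,0,0,0,0,0,0,0],[0,0,0,0,0,0,0,0],[0,0,0,0,0,0,0,0],[0,0,0,0,0,0,0,0],[0,0,0,0,0,0,0,0],[0,0,0,0,0,0,0,0]], [[0,0,0,0,0,0,0,0],[0,0,0,0,0,0,0,0],[0,0,0,0,0,0,0,0],[0,0,0,0,0,0,0,0],[0,0,0,0,0,0,0,0],[0,0,0,0,0,0,0,0],[0,0,0,0,0,0,0,0],[0,0,0,0,0,0,0,0]], [[0,0,0,0,0,0,0,0],[0,0,0,0,0,0,0,0],[0,0,0,0,0,0,0,0],[0,0,0,0,0,0,0,0],[0,0,0,0,0,0,0,0],[0,0,0,0,0,0,0,0],[0,0,0,0,0,0,0,0],[0,0,0,0,0,0,0,0]], (0, 0, 1, 1)),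
  ([46,57,0], 4, [[0,0,0,0,0,0,0,0],[0,0,0,0,0,0,0,0],[1,0,0,0,0,0,0,0],[0,1,0,0,0,0,0,0],[0,0,0,0,0,0,0,0],[0,0,0,0,0,0,0,0],[0,0,1,0,0,0,0,0],[0,0,0,1,0,0,0,0]], [[0,0,1,0,0,0,0,0],[0,0,0,1,0,0,0,0],[0,0,0,0,0,0,1,0],[0,0,0,0,0,0,0,1],[0,0,0,0,0,0,0,0],[0,0,0,0,0,0,0,0],[0,0,0,0,0,0,0,0],[0,0,0,0,0,0,0,0]], [[1,0,0,0,0,0,0,0],[0,1,0,0,0,0,0,0],[0,0,0,0,0,0,0,0],[0,0,0,0,0,0,0,0],[0,0,1,0,0,0,0,0],[0,0,0,1,0,0,0,0],[0,0,0,0,0,0,0,0],[0,0,0,0,0,0,0,0]], [[1,0,0,0,0,0,0,0],[0,1,0,0,0,0,0,0],[0,0,0,0,1,0,0,0],[0,0,0,0,0,1,0,0],[0,0,0,0,0,0,0,0],[0,0,0,0,0,0,0,0],[0,0,0,0,0,0,0,0],[0,0,0,0,0,0,0,0]], (0, 5, 1, 4)),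
  ([47,58,0], 2, [[7,1,0,0,0,0,0,0],[4,5,0,0,0,0,0,0],[7,2,0,0,0,0,0,0],[7,5,0,0,0,0,0,0],[0,6,0,0,0,0,0,0],[6,0,0,0,0,0,0,0],[2,2,0,0,0,0,0,0],[1,2,0,0,0,0,0,0]], [[1,0,6,6,3,4,6,4],[0,1,6,3,2,7,2,2],[0,0,0,0,0,0,0,0],[0,0,0,0,0,0,0,0],[0,0,0,0,0,0,0,0],[0,0,0,0,0,0,0,0],[0,0,0,0,0,0,0,0],[0,0,0,0,0,0,0,0]], [[0,0,0,0,0,0,0,0],[0,0,0,0,0,0,0,0],[0,0,0,0,0,0,0,0],[0,0,0,0,0,0,0,0],[0,0,0,0,0,0,0,0],[0,0,0,0,0,0,0,0],[0,0,0,0,0,0,0,0],[0,0,0,0,0,0,0,0]], [[0,0,0,0,0,0,0,0],[0,0,0,0,0,0,0,0],[0,0,0,0,0,0,0,0],[0,0,0,0,0,0,0,0],[0,0,0,0,0,0,0,0],[0,0,0,0,0,0,0,0],[0,0,0,0,0,0,0,0],[0,0,0,0,0,0,0,0]], (0, 0, 1, 1)),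
  ([48,8,0], 2, [[1,3,0,0,0,0,0,0],[7,7,0,0,0,0,0,0],[4,2,0,0,0,0,0,0],[0,3,0,0,0,0,0,0],[0,6,0,0,0,0,0,0],[6,0,0,0,0,0,0,0],[2,0,0,0,0,0,0,0],[0,7,0,0,0,0,0,0]], [[1,0,0,2,5,2,6,5],[0,1,6,0,3,2,7,0],[0,0,0,0,0,0,0,0],[0,0,0,0,0,0,0,0],[0,0,0,0,0,0,0,0],[0,0,0,0,0,0,0,0],[0,0,0,0,0,0,0,0],[0,0,0,0,0,0,0,0]], [[0,0,0,0,0,0,0,0],[0,0,0,0,0,0,0,0],[0,0,0,0,0,0,0,0],[0,0,0,0,0,0,0,0],[0,0,0,0,0,0,0,0],[0,0,0,0,0,0,0,0],[0,0,0,0,0,0,0,0],[0,0,0,0,0,0,0,0]], [[0,0,0,0,0,0,0,0],[0,0,0,0,0,0,0,0],[0,0,0,0,0,0,0,0],[0,0,0,0,0,0,0,0],[0,0,0,0,0,0,0,0],[0,0,0,0,0,0,0,0],[0,0,0,0,0,0,0,0],[0,0,0,0,0,0,0,0]], (0, 0, 1, 1)),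
  ([49,50,5,28,30,1,73,72,0], 0, [[0,0,0,0,0,0,0,0],[0,0,0,0,0,0,0,0],[0,0,0,0,0,0,0,0],[0,0,0,0,0,0,0,0],[0,0,0,0,0,0,0,0],[0,0,0,0,0,0,0,0],[0,0,0,0,0,0,0,0],[0,0,0,0,0,0,0,0]], [[0,0,0,0,0,0,0,0],[0,0,0,0,0,0,0,0],[0,0,0,0,0,0,0,0],[0,0,0,0,0,0,0,0],[0,0,0,0,0,0,0,0],[0,0,0,0,0,0,0,0],[0,0,0,0,0,0,0,0],[0,0,0,0,0,0,0,0]], [[0,0,0,0,0,0,0,0],[0,0,0,0,0,0,0,0],[0,0,0,0,0,0,0,0],[0,0,0,0,0,0,0,0],[0,0,0,0,0,0,0,0],[0,0,0,0,0,0,0,0],[0,0,0,0,0,0,0,0],[0,0,0,0,0,0,0,0]], [[0,0,0,0,0,0,0,0],[0,0,0,0,0,0,0,0],[0,0,0,0,0,0,0,0],[0,0,0,0,0,0,0,0],[0,0,0,0,0,0,0,0],[0,0,0,0,0,0,0,0],[0,0,0,0,0,0,0,0],[0,0,0,0,0,0,0,0]], (0, 0, 1, 1)),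
  ([50,28,1,72,49,5,30,73,0], 0, [[0,0,0,0,0,0,0,0],[0,0,0,0,0,0,0,0],[0,0,0,0,0,0,0,0],[0,0,0,0,0,0,0,0],[0,0,0,0,0,0,0,0],[0,0,0,0,0,0,0,0],[0,0,0,0,0,0,0,0],[0,0,0,0,0,0,0,0]], [[0,0,0,0,0,0,0,0],[0,0,0,0,0,0,0,0],[0,0,0,0,0,0,0,0],[0,0,0,0,0,0,0,0],[0,0,0,0,0,0,0,0],[0,0,0,0,0,0,0,0],[0,0,0,0,0,0,0,0],[0,0,0,0,0,0,0,0]], [[0,0,0,0,0,0,0,0],[0,0,0,0,0,0,0,0],[0,0,0,0,0,0,0,0],[0,0,0,0,0,0,0,0],[0,0,0,0,0,0,0,0],[0,0,0,0,0,0,0,0],[0,0,0,0,0,0,0,0],[0,0,0,0,0,0,0,0]], [[0,0,0,0,0,0,0,0],[0,0,0,0,0,0,0,0],[0,0,0,0,0,0,0,0],[0,0,0,0,0,0,0,0],[0,0,0,0,0,0,0,0],[0,0,0,0,0,0,0,0],[0,0,0,0,0,0,0,0],[0,0,0,0,0,0,0,0]], (0, 0, 1, 1)),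
  ([51,36,0], 4, [[1,0,5,0,0,0,0,0],[0,1,1,7,0,0,0,0],[0,1,1,0,0,0,0,0],[3,0,0,1,0,0,0,0],[0,1,1,7,0,0,0,0],[1,0,5,0,0,0,0,0],[1,5,0,0,0,0,0,0],[7,0,0,0,0,0,0,0]], [[1,0,0,0,0,1,0,4],[0,1,0,0,1,0,2,3],[0,0,1,0,0,0,2,3],[0,0,0,1,0,0,0,7],[0,0,0,0,0,0,0,0],[0,0,0,0,0,0,0,0],[0,0,0,0,0,0,0,0],[0,0,0,0,0,0,0,0]], [[0,0,5,0,0,0,0,0],[0,0,1,7,0,0,0,0],[0,1,0,0,0,0,0,0],[3,0,0,0,0,0,0,0],[0,1,1,7,0,0,0,0],[1,0,5,0,0,0,0,0],[1,5,0,0,0,0,0,0],[7,0,0,0,0,0,0,0]], [[1,0,0,0,0,1,0,0],[0,1,0,0,1,0,0,0],[0,0,1,0,0,2,2,0],[0,0,0,1,4,3,3,7],[0,0,0,0,0,0,0,0],[0,0,0,0,0,0,0,0],[0,0,0,0,0,0,0,0],[0,0,0,0,0,0,0,0]], (0, 3, 1, 2)),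
  ([52,60,0], 2, [[5,2,0,0,0,0,0,0],[3,1,0,0,0,0,0,0],[7,6,0,0,0,0,0,0],[0,5,0,0,0,0,0,0],[0,4,0,0,0,0,0,0],[4,0,0,0,0,0,0,0],[6,0,0,0,0,0,0,0],[0,2,0,0,0,0,0,0]], [[1,0,0,5,5,7,4,6],[0,1,4,0,6,2,3,0],[0,0,0,0,0,0,0,0],[0,0,0,0,0,0,0,0],[0,0,0,0,0,0,0,0],[0,0,0,0,0,0,0,0],[0,0,0,0,0,0,0,0],[0,0,0,0,0,0,0,0]], [[0,0,0,0,0,0,0,0],[0,0,0,0,0,0,0,0],[0,0,0,0,0,0,0,0],[0,0,0,0,0,0,0,0],[0,0,0,0,0,0,0,0],[0,0,0,0,0,0,0,0],[0,0,0,0,0,0,0,0],[0,0,0,0,0,0,0,0]], [[0,0,0,0,0,0,0,0],[0,0,0,0,0,0,0,0],[0,0,0,0,0,0,0,0],[0,0,0,0,0,0,0,0],[0,0,0,0,0,0,0,0],[0,0,0,0,0,0,0,0],[0,0,0,0,0,0,0,0],[0,0,0,0,0,0,0,0]], (0, 0, 1, 1)),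
  ([53,64,0], 2, [[1,3,0,0,0,0,0,0],[7,7,0,0,0,0,0,0],[3,6,0,0,0,0,0,0],[6,6,0,0,0,0,0,0],[0,4,0,0,0,0,0,0],[4,0,0,0,0,0,0,0],[6,1,0,0,0,0,0,0],[5,5,0,0,0,0,0,0]], [[1,0,7,6,2,3,4,4],[0,1,4,6,7,3,2,4],[0,0,0,0,0,0,0,0],[0,0,0,0,0,0,0,0],[0,0,0,0,0,0,0,0],[0,0,0,0,0,0,0,0],[0,0,0,0,0,0,0,0],[0,0,0,0,0,0,0,0]], [[0,0,0,0,0,0,0,0],[0,0,0,0,0,0,0,0],[0,0,0,0,0,0,0,0],[0,0,0,0,0,0,0,0],[0,0,0,0,0,0,0,0],[0,0,0,0,0,0,0,0],[0,0,0,0,0,0,0,0],[0,0,0,0,0,0,0,0]], [[0,0,0,0,0,0,0,0],[0,0,0,0,0,0,0,0],[0,0,0,0,0,0,0,0],[0,0,0,0,0,0,0,0],[0,0,0,0,0,0,0,0],[0,0,0,0,0,0,0,0],[0,0,0,0,0,0,0,0],[0,0,0,0,0,0,0,0]], (0, 0, 1, 1)),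
  ([54,44,0], 2, [[3,1,0,0,0,0,0,0],[4,1,0,0,0,0,0,0],[4,6,0,0,0,0,0,0],[7,3,0,0,0,0,0,0],[0,6,0,0,0,0,0,0],[6,0,0,0,0,0,0,0],[6,2,0,0,0,0,0,0],[1,7,0,0,0,0,0,0]], [[1,0,6,2,3,3,1,5],[0,1,1,3,5,7,7,2],[0,0,0,0,0,0,0,0],[0,0,0,0,0,0,0,0],[0,0,0,0,0,0,0,0],[0,0,0,0,0,0,0,0],[0,0,0,0,0,0,0,0],[0,0,0,0,0,0,0,0]], [[0,0,0,0,0,0,0,0],[0,0,0,0,0,0,0,0],[0,0,0,0,0,0,0,0],[0,0,0,0,0,0,0,0],[0,0,0,0,0,0,0,0],[0,0,0,0,0,0,0,0],[0,0,0,0,0,0,0,0],[0,0,0,0,0,0,0,0]], [[0,0,0,0,0,0,0,0],[0,0,0,0,0,0,0,0],[0,0,0,0,0,0,0,0],[0,0,0,0,0,0,0,0],[0,0,0,0,0,0,0,0],[0,0,0,0,0,0,0,0],[0,0,0,0,0,0,0,0],[0,0,0,0,0,0,0,0]], (0, 0, 1, 1)),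
  ([55,32,0], 4, [[0,0,0,0,0,0,0,0],[0,0,0,0,0,0,0,0],[0,1,1,0,0,0,0,0],[3,0,0,1,0,0,0,0],[0,1,1,7,0,0,0,0],[1,0,5,0,0,0,0,0],[1,5,0,0,0,0,0,0],[7,0,0,0,0,0,0,0]], [[1,0,0,0,0,0,0,4],[0,1,0,0,0,0,2,3],[0,0,1,0,0,0,2,3],[0,0,0,1,0,0,0,7],[0,0,0,0,0,0,0,0],[0,0,0,0,0,0,0,0],[0,0,0,0,0,0,0,0],[0,0,0,0,0,0,0,0]], [[1,0,0,0,0,0,0,0],[0,1,0,0,0,0,0,0],[0,1,0,0,0,0,0,0],[3,0,0,0,0,0,0,0],[0,1,1,7,0,0,0,0],[1,0,5,0,0,0,0,0],[1,5,0,0,0,0,0,0],[7,0,0,0,0,0,0,0]], [[1,0,0,0,0,0,0,0],[0,1,0,0,0,0,0,0],[0,0,1,0,0,2,2,0],[0,0,0,1,4,3,3,7],[0,0,0,0,0,0,0,0],[0,0,0,0,0,0,0,0],[0,0,0,0,0,0,0,0],[0,0,0,0,0,0,0,0]], (0, 1, 1, 0)),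
  ([56,65,0], 2, [[5,1,0,0,0,0,0,0],[4,7,0,0,0,0,0,0],[4,6,0,0,0,0,0,0],[7,3,0,0,0,0,0,0],[0,6,0,0,0,0,0,0],[6,0,0,0,0,0,0,0],[6,2,0,0,0,0,0,0],[1,7,0,0,0,0,0,0]], [[1,0,6,2,3,2,1,5],[0,1,1,3,4,7,7,2],[0,0,0,0,0,0,0,0],[0,0,0,0,0,0,0,0],[0,0,0,0,0,0,0,0],[0,0,0,0,0,0,0,0],[0,0,0,0,0,0,0,0],[0,0,0,0,0,0,0,0]], [[0,0,0,0,0,0,0,0],[0,0,0,0,0,0,0,0],[0,0,0,0,0,0,0,0],[0,0,0,0,0,0,0,0],[0,0,0,0,0,0,0,0],[0,0,0,0,0,0,0,0],[0,0,0,0,0,0,0,0],[0,0,0,0,0,0,0,0]], [[0,0,0,0,0,0,0,0],[0,0,0,0,0,0,0,0],[0,0,0,0,0,0,0,0],[0,0,0,0,0,0,0,0],[0,0,0,0,0,0,0,0],[0,0,0,0,0,0,0,0],[0,0,0,0,0,0,0,0],[0,0,0,0,0,0,0,0]], (0, 0, 1, 1)),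
  ([57,46,0], 4, [[0,0,0,0,0,0,0,0],[0,0,0,0,0,0,0,0],[1,0,0,0,0,0,0,0],[0,1,0,0,0,0,0,0],[0,0,0,0,0,0,0,0],[0,0,0,0,0,0,0,0],[0,0,1,0,0,0,0,0],[0,0,0,1,0,0,0,0]], [[0,0,1,0,0,0,0,0],[0,0,0,1,0,0,0,0],[0,0,0,0,0,0,1,0],[0,0,0,0,0,0,0,1],[0,0,0,0,0,0,0,0],[0,0,0,0,0,0,0,0],[0,0,0,0,0,0,0,0],[0,0,0,0,0,0,0,0]], [[1,0,0,0,0,0,0,0],[0,1,0,0,0,0,0,0],[0,0,0,0,0,0,0,0],[0,0,0,0,0,0,0,0],[0,0,1,0,0,0,0,0],[0,0,0,1,0,0,0,0],[0,0,0,0,0,0,0,0],[0,0,0,0,0,0,0,0]], [[1,0,0,0,0,0,0,0],[0,1,0,0,0,0,0,0],[0,0,0,0,1,0,0,0],[0,0,0,0,0,1,0,0],[0,0,0,0,0,0,0,0],[0,0,0,0,0,0,0,0],[0,0,0,0,0,0,0,0],[0,0,0,0,0,0,0,0]], (0, 0, 1, 1)),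
  ([58,47,0], 2, [[7,1,0,0,0,0,0,0],[4,5,0,0,0,0,0,0],[7,2,0,0,0,0,0,0],[7,5,0,0,0,0,0,0],[0,6,0,0,0,0,0,0],[6,0,0,0,0,0,0,0],[2,2,0,0,0,0,0,0],[1,2,0,0,0,0,0,0]], [[1,0,6,6,3,4,6,4],[0,1,6,3,2,7,2,2],[0,0,0,0,0,0,0,0],[0,0,0,0,0,0,0,0],[0,0,0,0,0,0,0,0],[0,0,0,0,0,0,0,0],[0,0,0,0,0,0,0,0],[0,0,0,0,0,0,0,0]], [[0,0,0,0,0,0,0,0],[0,0,0,0,0,0,0,0],[0,0,0,0,0,0,0,0],[0,0,0,0,0,0,0,0],[0,0,0,0,0,0,0,0],[0,0,0,0,0,0,0,0],[0,0,0,0,0,0,0,0],[0,0,0,0,0,0,0,0]], [[0,0,0,0,0,0,0,0],[0,0,0,0,0,0,0,0],[0,0,0,0,0,0,0,0],[0,0,0,0,0,0,0,0],[0,0,0,0,0,0,0,0],[0,0,0,0,0,0,0,0],[0,0,0,0,0,0,0,0],[0,0,0,0,0,0,0,0]], (0, 0, 1, 1)),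
  ([59,29,0], 4, [[0,0,0,0,0,0,0,0],[0,0,0,0,0,0,0,0],[2,0,1,0,0,0,0,0],[3,4,0,1,0,0,0,0],[0,1,0,7,0,0,0,0],[1,0,5,6,0,0,0,0],[0,5,0,0,0,0,0,0],[7,6,0,0,0,0,0,0]], [[1,0,0,0,0,0,1,4],[0,1,0,0,0,0,2,0],[0,0,1,0,0,0,2,3],[0,0,0,1,0,0,0,7],[0,0,0,0,0,0,0,0],[0,0,0,0,0,0,0,0],[0,0,0,0,0,0,0,0],[0,0,0,0,0,0,0,0]], [[1,0,0,0,0,0,0,0],[0,1,0,0,0,0,0,0],[2,0,0,0,0,0,0,0],[3,4,0,0,0,0,0,0],[0,1,0,7,0,0,0,0],[1,0,5,6,0,0,0,0],[0,5,0,0,0,0,0,0],[7,6,0,0,0,0,0,0]], [[1,0,0,0,0,0,0,0],[0,1,0,0,0,0,0,0],[0,0,1,0,1,2,2,0],[0,0,0,1,4,0,3,7],[0,0,0,0,0,0,0,0],[0,0,0,0,0,0,0,0],[0,0,0,0,0,0,0,0],[0,0,0,0,0,0,0,0]], (0, 1, 1, 0)),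
  ([60,52,0], 2, [[5,2,0,0,0,0,0,0],[3,1,0,0,0,0,0,0],[7,6,0,0,0,0,0,0],[0,5,0,0,0,0,0,0],[0,4,0,0,0,0,0,0],[4,0,0,0,0,0,0,0],[6,0,0,0,0,0,0,0],[0,2,0,0,0,0,0,0]], [[1,0,0,5,5,7,4,6],[0,1,4,0,6,2,3,0],[0,0,0,0,0,0,0,0],[0,0,0,0,0,0,0,0],[0,0,0,0,0,0,0,0],[0,0,0,0,0,0,0,0],[0,0,0,0,0,0,0,0],[0,0,0,0,0,0,0,0]], [[0,0,0,0,0,0,0,0],[0,0,0,0,0,0,0,0],[0,0,0,0,0,0,0,0],[0,0,0,0,0,0,0,0],[0,0,0,0,0,0,0,0],[0,0,0,0,0,0,0,0],[0,0,0,0,0,0,0,0],[0,0,0,0,0,0,0,0]], [[0,0,0,0,0,0,0,0],[0,0,0,0,0,0,0,0],[0,0,0,0,0,0,0,0],[0,0,0,0,0,0,0,0],[0,0,0,0,0,0,0,0],[0,0,0,0,0,0,0,0],[0,0,0,0,0,0,0,0],[0,0,0,0,0,0,0,0]], (0, 0, 1, 1)),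
  ([61,10,0], 4, [[1,0,0,6,0,0,0,0],[0,1,1,0,0,0,0,0],[2,1,1,0,0,0,0,0],[0,4,0,1,0,0,0,0],[0,1,1,0,0,0,0,0],[1,0,0,6,0,0,0,0],[1,0,0,0,0,0,0,0],[0,6,0,0,0,0,0,0]], [[1,0,0,0,0,1,1,0],[0,1,0,0,1,0,0,3],[0,0,1,0,0,0,2,3],[0,0,0,1,0,0,0,7],[0,0,0,0,0,0,0,0],[0,0,0,0,0,0,0,0],[0,0,0,0,0,0,0,0],[0,0,0,0,0,0,0,0]], [[0,0,0,6,0,0,0,0],[0,0,1,0,0,0,0,0],[2,1,0,0,0,0,0,0],[0,4,0,0,0,0,0,0],[0,1,1,0,0,0,0,0],[1,0,0,6,0,0,0,0],[1,0,0,0,0,0,0,0],[0,6,0,0,0,0,0,0]], [[1,0,0,0,0,1,0,0],[0,1,0,0,1,0,0,0],[0,0,1,0,1,0,2,0],[0,0,0,1,0,3,3,7],[0,0,0,0,0,0,0,0],[0,0,0,0,0,0,0,0],[0,0,0,0,0,0,0,0],[0,0,0,0,0,0,0,0]], (0, 2, 1, 3)),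
  ([62,25,0], 2, [[3,2,0,0,0,0,0,0],[3,7,0,0,0,0,0,0],[4,4,0,0,0,0,0,0],[1,3,0,0,0,0,0,0],[0,2,0,0,0,0,0,0],[2,0,0,0,0,0,0,0],[4,3,0,0,0,0,0,0],[4,7,0,0,0,0,0,0]], [[1,0,4,6,1,6,2,4],[0,1,2,2,4,4,2,5],[0,0,0,0,0,0,0,0],[0,0,0,0,0,0,0,0],[0,0,0,0,0,0,0,0],[0,0,0,0,0,0,0,0],[0,0,0,0,0,0,0,0],[0,0,0,0,0,0,0,0]], [[0,0,0,0,0,0,0,0],[0,0,0,0,0,0,0,0],[0,0,0,0,0,0,0,0],[0,0,0,0,0,0,0,0],[0,0,0,0,0,0,0,0],[0,0,0,0,0,0,0,0],[0,0,0,0,0,0,0,0],[0,0,0,0,0,0,0,0]], [[0,0,0,0,0,0,0,0],[0,0,0,0,0,0,0,0],[0,0,0,0,0,0,0,0],[0,0,0,0,0,0,0,0],[0,0,0,0,0,0,0,0],[0,0,0,0,0,0,0,0],[0,0,0,0,0,0,0,0],[0,0,0,0,0,0,0,0]], (0, 0, 1, 1)),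
  ([63,74,0], 4, [[5,0,0,1,0,0,0,0],[1,7,1,0,0,0,0,0],[1,0,1,0,0,0,0,0],[0,1,0,3,0,0,0,0],[0,0,0,0,0,0,0,0],[0,0,0,0,0,0,0,0],[0,0,5,1,0,0,0,0],[0,0,0,7,0,0,0,0]], [[0,0,1,0,0,0,2,3],[0,0,0,1,0,0,0,7],[0,0,0,0,1,0,2,3],[0,0,0,0,0,1,0,4],[0,0,0,0,0,0,0,0],[0,0,0,0,0,0,0,0],[0,0,0,0,0,0,0,0],[0,0,0,0,0,0,0,0]], [[1,0,0,1,0,0,0,0],[0,1,1,0,0,0,0,0],[0,0,1,0,0,0,0,0],[0,0,0,3,0,0,0,0],[0,0,1,0,0,0,0,0],[0,0,0,1,0,0,0,0],[0,0,5,1,0,0,0,0],[0,0,0,7,0,0,0,0]], [[1,0,5,0,0,0,1,0],[0,1,1,7,0,0,0,3],[0,0,0,0,1,0,0,0],[0,0,0,0,0,1,0,0],[0,0,0,0,0,0,0,0],[0,0,0,0,0,0,0,0],[0,0,0,0,0,0,0,0],[0,0,0,0,0,0,0,0]], (0, 0, 1, 1)),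
  ([64,53,0], 2, [[1,3,0,0,0,0,0,0],[7,7,0,0,0,0,0,0],[3,6,0,0,0,0,0,0],[6,6,0,0,0,0,0,0],[0,4,0,0,0,0,0,0],[4,0,0,0,0,0,0,0],[6,1,0,0,0,0,0,0],[5,5,0,0,0,0,0,0]], [[1,0,7,6,2,3,4,4],[0,1,4,6,7,3,2,4],[0,0,0,0,0,0,0,0],[0,0,0,0,0,0,0,0],[0,0,0,0,0,0,0,0],[0,0,0,0,0,0,0,0],[0,0,0,0,0,0,0,0],[0,0,0,0,0,0,0,0]], [[0,0,0,0,0,0,0,0],[0,0,0,0,0,0,0,0],[0,0,0,0,0,0,0,0],[0,0,0,0,0,0,0,0],[0,0,0,0,0,0,0,0],[0,0,0,0,0,0,0,0],[0,0,0,0,0,0,0,0],[0,0,0,0,0,0,0,0]], [[0,0,0,0,0,0,0,0],[0,0,0,0,0,0,0,0],[0,0,0,0,0,0,0,0],[0,0,0,0,0,0,0,0],[0,0,0,0,0,0,0,0],[0,0,0,0,0,0,0,0],[0,0,0,0,0,0,0,0],[0,0,0,0,0,0,0,0]], (0, 0, 1, 1)),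
  ([65,56,0], 2, [[5,1,0,0,0,0,0,0],[4,7,0,0,0,0,0,0],[4,6,0,0,0,0,0,0],[7,3,0,0,0,0,0,0],[0,6,0,0,0,0,0,0],[6,0,0,0,0,0,0,0],[6,2,0,0,0,0,0,0],[1,7,0,0,0,0,0,0]], [[1,0,6,2,3,2,1,5],[0,1,1,3,4,7,7,2],[0,0,0,0,0,0,0,0],[0,0,0,0,0,0,0,0],[0,0,0,0,0,0,0,0],[0,0,0,0,0,0,0,0],[0,0,0,0,0,0,0,0],[0,0,0,0,0,0,0,0]], [[0,0,0,0,0,0,0,0],[0,0,0,0,0,0,0,0],[0,0,0,0,0,0,0,0],[0,0,0,0,0,0,0,0],[0,0,0,0,0,0,0,0],[0,0,0,0,0,0,0,0],[0,0,0,0,0,0,0,0],[0,0,0,0,0,0,0,0]], [[0,0,0,0,0,0,0,0],[0,0,0,0,0,0,0,0],[0,0,0,0,0,0,0,0],[0,0,0,0,0,0,0,0],[0,0,0,0,0,0,0,0],[0,0,0,0,0,0,0,0],[0,0,0,0,0,0,0,0],[0,0,0,0,0,0,0,0]], (0, 0, 1, 1)),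
  ([66,31,0], 2, [[7,2,0,0,0,0,0,0],[3,3,0,0,0,0,0,0],[3,2,0,0,0,0,0,0],[1,6,0,0,0,0,0,0],[0,2,0,0,0,0,0,0],[2,0,0,0,0,0,0,0],[2,3,0,0,0,0,0,0],[4,5,0,0,0,0,0,0]], [[1,0,4,7,1,4,1,3],[0,1,1,2,6,4,4,5],[0,0,0,0,0,0,0,0],[0,0,0,0,0,0,0,0],[0,0,0,0,0,0,0,0],[0,0,0,0,0,0,0,0],[0,0,0,0,0,0,0,0],[0,0,0,0,0,0,0,0]], [[0,0,0,0,0,0,0,0],[0,0,0,0,0,0,0,0],[0,0,0,0,0,0,0,0],[0,0,0,0,0,0,0,0],[0,0,0,0,0,0,0,0],[0,0,0,0,0,0,0,0],[0,0,0,0,0,0,0,0],[0,0,0,0,0,0,0,0]], [[0,0,0,0,0,0,0,0],[0,0,0,0,0,0,0,0],[0,0,0,0,0,0,0,0],[0,0,0,0,0,0,0,0],[0,0,0,0,0,0,0,0],[0,0,0,0,0,0,0,0],[0,0,0,0,0,0,0,0],[0,0,0,0,0,0,0,0]], (0, 0, 1, 1)),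
  ([67,33,0], 2, [[7,3,0,0,0,0,0,0],[7,1,0,0,0,0,0,0],[4,2,0,0,0,0,0,0],[0,3,0,0,0,0,0,0],[0,6,0,0,0,0,0,0],[6,0,0,0,0,0,0,0],[2,0,0,0,0,0,0,0],[0,7,0,0,0,0,0,0]], [[1,0,0,2,5,3,6,5],[0,1,6,0,2,2,7,0],[0,0,0,0,0,0,0,0],[0,0,0,0,0,0,0,0],[0,0,0,0,0,0,0,0],[0,0,0,0,0,0,0,0],[0,0,0,0,0,0,0,0],[0,0,0,0,0,0,0,0]], [[0,0,0,0,0,0,0,0],[0,0,0,0,0,0,0,0],[0,0,0,0,0,0,0,0],[0,0,0,0,0,0,0,0],[0,0,0,0,0,0,0,0],[0,0,0,0,0,0,0,0],[0,0,0,0,0,0,0,0],[0,0,0,0,0,0,0,0]], [[0,0,0,0,0,0,0,0],[0,0,0,0,0,0,0,0],[0,0,0,0,0,0,0,0],[0,0,0,0,0,0,0,0],[0,0,0,0,0,0,0,0],[0,0,0,0,0,0,0,0],[0,0,0,0,0,0,0,0],[0,0,0,0,0,0,0,0]], (0, 0, 1, 1)),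
  ([68,34,0], 2, [[1,2,0,0,0,0,0,0],[3,5,0,0,0,0,0,0],[4,4,0,0,0,0,0,0],[1,3,0,0,0,0,0,0],[0,2,0,0,0,0,0,0],[2,0,0,0,0,0,0,0],[4,3,0,0,0,0,0,0],[4,7,0,0,0,0,0,0]], [[1,0,4,6,1,7,2,4],[0,1,2,2,5,4,2,5],[0,0,0,0,0,0,0,0],[0,0,0,0,0,0,0,0],[0,0,0,0,0,0,0,0],[0,0,0,0,0,0,0,0],[0,0,0,0,0,0,0,0],[0,0,0,0,0,0,0,0]], [[0,0,0,0,0,0,0,0],[0,0,0,0,0,0,0,0],[0,0,0,0,0,0,0,0],[0,0,0,0,0,0,0,0],[0,0,0,0,0,0,0,0],[0,0,0,0,0,0,0,0],[0,0,0,0,0,0,0,0],[0,0,0,0,0,0,0,0]], [[0,0,0,0,0,0,0,0],[0,0,0,0,0,0,0,0],[0,0,0,0,0,0,0,0],[0,0,0,0,0,0,0,0],[0,0,0,0,0,0,0,0],[0,0,0,0,0,0,0,0],[0,0,0,0,0,0,0,0],[0,0,0,0,0,0,0,0]], (0, 0, 1, 1)),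
  ([69,37,0], 2, [[3,3,0,0,0,0,0,0],[7,5,0,0,0,0,0,0],[7,4,0,0,0,0,0,0],[6,5,0,0,0,0,0,0],[0,4,0,0,0,0,0,0],[4,0,0,0,0,0,0,0],[4,1,0,0,0,0,0,0],[5,2,0,0,0,0,0,0]], [[1,0,7,5,2,6,1,6],[0,1,1,6,2,3,3,4],[0,0,0,0,0,0,0,0],[0,0,0,0,0,0,0,0],[0,0,0,0,0,0,0,0],[0,0,0,0,0,0,0,0],[0,0,0,0,0,0,0,0],[0,0,0,0,0,0,0,0]], [[0,0,0,0,0,0,0,0],[0,0,0,0,0,0,0,0],[0,0,0,0,0,0,0,0],[0,0,0,0,0,0,0,0],[0,0,0,0,0,0,0,0],[0,0,0,0,0,0,0,0],[0,0,0,0,0,0,0,0],[0,0,0,0,0,0,0,0]], [[0,0,0,0,0,0,0,0],[0,0,0,0,0,0,0,0],[0,0,0,0,0,0,0,0],[0,0,0,0,0,0,0,0],[0,0,0,0,0,0,0,0],[0,0,0,0,0,0,0,0],[0,0,0,0,0,0,0,0],[0,0,0,0,0,0,0,0]], (0, 0, 1, 1)),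
  ([70,22,0], 2, [[5,2,0,0,0,0,0,0],[3,1,0,0,0,0,0,0],[3,2,0,0,0,0,0,0],[1,6,0,0,0,0,0,0],[0,2,0,0,0,0,0,0],[2,0,0,0,0,0,0,0],[2,3,0,0,0,0,0,0],[4,5,0,0,0,0,0,0]], [[1,0,4,7,1,5,1,3],[0,1,1,2,7,4,4,5],[0,0,0,0,0,0,0,0],[0,0,0,0,0,0,0,0],[0,0,0,0,0,0,0,0],[0,0,0,0,0,0,0,0],[0,0,0,0,0,0,0,0],[0,0,0,0,0,0,0,0]], [[0,0,0,0,0,0,0,0],[0,0,0,0,0,0,0,0],[0,0,0,0,0,0,0,0],[0,0,0,0,0,0,0,0],[0,0,0,0,0,0,0,0],[0,0,0,0,0,0,0,0],[0,0,0,0,0,0,0,0],[0,0,0,0,0,0,0,0]], [[0,0,0,0,0,0,0,0],[0,0,0,0,0,0,0,0],[0,0,0,0,0,0,0,0],[0,0,0,0,0,0,0,0],[0,0,0,0,0,0,0,0],[0,0,0,0,0,0,0,0],[0,0,0,0,0,0,0,0],[0,0,0,0,0,0,0,0]], (0, 0, 1, 1)),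
  ([71,76,0], 2, [[1,1,0,0,0,0,0,0],[4,3,0,0,0,0,0,0],[7,2,0,0,0,0,0,0],[7,5,0,0,0,0,0,0],[0,6,0,0,0,0,0,0],[6,0,0,0,0,0,0,0],[2,2,0,0,0,0,0,0],[1,2,0,0,0,0,0,0]], [[1,0,6,6,3,5,6,4],[0,1,6,3,3,7,2,2],[0,0,0,0,0,0,0,0],[0,0,0,0,0,0,0,0],[0,0,0,0,0,0,0,0],[0,0,0,0,0,0,0,0],[0,0,0,0,0,0,0,0],[0,0,0,0,0,0,0,0]], [[0,0,0,0,0,0,0,0],[0,0,0,0,0,0,0,0],[0,0,0,0,0,0,0,0],[0,0,0,0,0,0,0,0],[0,0,0,0,0,0,0,0],[0,0,0,0,0,0,0,0],[0,0,0,0,0,0,0,0],[0,0,0,0,0,0,0,0]], [[0,0,0,0,0,0,0,0],[0,0,0,0,0,0,0,0],[0,0,0,0,0,0,0,0],[0,0,0,0,0,0,0,0],[0,0,0,0,0,0,0,0],[0,0,0,0,0,0,0,0],[0,0,0,0,0,0,0,0],[0,0,0,0,0,0,0,0]], (0, 0, 1, 1)),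
  ([72,73,1,30,28,5,50,49,0], 0, [[0,0,0,0,0,0,0,0],[0,0,0,0,0,0,0,0],[0,0,0,0,0,0,0,0],[0,0,0,0,0,0,0,0],[0,0,0,0,0,0,0,0],[0,0,0,0,0,0,0,0],[0,0,0,0,0,0,0,0],[0,0,0,0,0,0,0,0]], [[0,0,0,0,0,0,0,0],[0,0,0,0,0,0,0,0],[0,0,0,0,0,0,0,0],[0,0,0,0,0,0,0,0],[0,0,0,0,0,0,0,0],[0,0,0,0,0,0,0,0],[0,0,0,0,0,0,0,0],[0,0,0,0,0,0,0,0]], [[0,0,0,0,0,0,0,0],[0,0,0,0,0,0,0,0],[0,0,0,0,0,0,0,0],[0,0,0,0,0,0,0,0],[0,0,0,0,0,0,0,0],[0,0,0,0,0,0,0,0],[0,0,0,0,0,0,0,0],[0,0,0,0,0,0,0,0]], [[0,0,0,0,0,0,0,0],[0,0,0,0,0,0,0,0],[0,0,0,0,0,0,0,0],[0,0,0,0,0,0,0,0],[0,0,0,0,0,0,0,0],[0,0,0,0,0,0,0,0],[0,0,0,0,0,0,0,0],[0,0,0,0,0,0,0,0]], (0, 0, 1, 1)),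
  ([73,30,5,49,72,1,28,50,0], 0, [[0,0,0,0,0,0,0,0],[0,0,0,0,0,0,0,0],[0,0,0,0,0,0,0,0],[0,0,0,0,0,0,0,0],[0,0,0,0,0,0,0,0],[0,0,0,0,0,0,0,0],[0,0,0,0,0,0,0,0],[0,0,0,0,0,0,0,0]], [[0,0,0,0,0,0,0,0],[0,0,0,0,0,0,0,0],[0,0,0,0,0,0,0,0],[0,0,0,0,0,0,0,0],[0,0,0,0,0,0,0,0],[0,0,0,0,0,0,0,0],[0,0,0,0,0,0,0,0],[0,0,0,0,0,0,0,0]], [[0,0,0,0,0,0,0,0],[0,0,0,0,0,0,0,0],[0,0,0,0,0,0,0,0],[0,0,0,0,0,0,0,0],[0,0,0,0,0,0,0,0],[0,0,0,0,0,0,0,0],[0,0,0,0,0,0,0,0],[0,0,0,0,0,0,0,0]], [[0,0,0,0,0,0,0,0],[0,0,0,0,0,0,0,0],[0,0,0,0,0,0,0,0],[0,0,0,0,0,0,0,0],[0,0,0,0,0,0,0,0],[0,0,0,0,0,0,0,0],[0,0,0,0,0,0,0,0],[0,0,0,0,0,0,0,0]], (0, 0, 1, 1)),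
  ([74,63,0], 4, [[5,0,0,1,0,0,0,0],[1,7,1,0,0,0,0,0],[1,0,1,0,0,0,0,0],[0,1,0,3,0,0,0,0],[0,0,0,0,0,0,0,0],[0,0,0,0,0,0,0,0],[0,0,5,1,0,0,0,0],[0,0,0,7,0,0,0,0]], [[0,0,1,0,0,0,2,3],[0,0,0,1,0,0,0,7],[0,0,0,0,1,0,2,3],[0,0,0,0,0,1,0,4],[0,0,0,0,0,0,0,0],[0,0,0,0,0,0,0,0],[0,0,0,0,0,0,0,0],[0,0,0,0,0,0,0,0]], [[1,0,0,1,0,0,0,0],[0,1,1,0,0,0,0,0],[0,0,1,0,0,0,0,0],[0,0,0,3,0,0,0,0],[0,0,1,0,0,0,0,0],[0,0,0,1,0,0,0,0],[0,0,5,1,0,0,0,0],[0,0,0,7,0,0,0,0]], [[1,0,5,0,0,0,1,0],[0,1,1,7,0,0,0,3],[0,0,0,0,1,0,0,0],[0,0,0,0,0,1,0,0],[0,0,0,0,0,0,0,0],[0,0,0,0,0,0,0,0],[0,0,0,0,0,0,0,0],[0,0,0,0,0,0,0,0]], (0, 1, 1, 0)),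
  ([75,41,0], 2, [[3,1,0,0,0,0,0,0],[4,1,0,0,0,0,0,0],[3,4,0,0,0,0,0,0],[0,6,0,0,0,0,0,0],[0,2,0,0,0,0,0,0],[2,0,0,0,0,0,0,0],[4,0,0,0,0,0,0,0],[0,5,0,0,0,0,0,0]], [[1,0,0,7,5,5,2,3],[0,1,2,0,4,2,4,0],[0,0,0,0,0,0,0,0],[0,0,0,0,0,0,0,0],[0,0,0,0,0,0,0,0],[0,0,0,0,0,0,0,0],[0,0,0,0,0,0,0,0],[0,0,0,0,0,0,0,0]], [[0,0,0,0,0,0,0,0],[0,0,0,0,0,0,0,0],[0,0,0,0,0,0,0,0],[0,0,0,0,0,0,0,0],[0,0,0,0,0,0,0,0],[0,0,0,0,0,0,0,0],[0,0,0,0,0,0,0,0],[0,0,0,0,0,0,0,0]], [[0,0,0,0,0,0,0,0],[0,0,0,0,0,0,0,0],[0,0,0,0,0,0,0,0],[0,0,0,0,0,0,0,0],[0,0,0,0,0,0,0,0],[0,0,0,0,0,0,0,0],[0,0,0,0,0,0,0,0],[0,0,0,0,0,0,0,0]], (0, 0, 1, 1)),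
  ([76,71,0], 2, [[1,1,0,0,0,0,0,0],[4,3,0,0,0,0,0,0],[7,2,0,0,0,0,0,0],[7,5,0,0,0,0,0,0],[0,6,0,0,0,0,0,0],[6,0,0,0,0,0,0,0],[2,2,0,0,0,0,0,0],[1,2,0,0,0,0,0,0]], [[1,0,6,6,3,5,6,4],[0,1,6,3,3,7,2,2],[0,0,0,0,0,0,0,0],[0,0,0,0,0,0,0,0],[0,0,0,0,0,0,0,0],[0,0,0,0,0,0,0,0],[0,0,0,0,0,0,0,0],[0,0,0,0,0,0,0,0]], [[0,0,0,0,0,0,0,0],[0,0,0,0,0,0,0,0],[0,0,0,0,0,0,0,0],[0,0,0,0,0,0,0,0],[0,0,0,0,0,0,0,0],[0,0,0,0,0,0,0,0],[0,0,0,0,0,0,0,0],[0,0,0,0,0,0,0,0]], [[0,0,0,0,0,0,0,0],[0,0,0,0,0,0,0,0],[0,0,0,0,0,0,0,0],[0,0,0,0,0,0,0,0],[0,0,0,0,0,0,0,0],[0,0,0,0,0,0,0,0],[0,0,0,0,0,0,0,0],[0,0,0,0,0,0,0,0]], (0, 0, 1, 1)),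
  ([77,24,0], 4, [[1,5,0,0,0,0,0,0],[2,0,0,0,0,0,0,0],[0,0,0,7,0,0,0,0],[0,0,4,1,0,0,0,0],[0,1,0,0,0,0,0,0],[1,0,0,0,0,0,0,0],[0,0,0,6,0,0,0,0],[0,0,6,0,0,0,0,0]], [[1,0,0,0,5,0,0,0],[0,1,0,0,1,2,0,0],[0,0,1,0,0,0,2,3],[0,0,0,1,0,0,0,7],[0,0,0,0,0,0,0,0],[0,0,0,0,0,0,0,0],[0,0,0,0,0,0,0,0],[0,0,0,0,0,0,0,0]], [[0,5,0,0,0,0,0,0],[2,1,0,0,0,0,0,0],[0,0,1,7,0,0,0,0],[0,0,4,0,0,0,0,0],[0,1,0,0,0,0,0,0],[1,0,0,0,0,0,0,0],[0,0,0,6,0,0,0,0],[0,0,6,0,0,0,0,0]], [[1,0,0,0,5,1,0,0],[0,1,0,0,0,2,0,0],[0,0,1,0,0,0,2,0],[0,0,0,1,0,0,3,7],[0,0,0,0,0,0,0,0],[0,0,0,0,0,0,0,0],[0,0,0,0,0,0,0,0],[0,0,0,0,0,0,0,0]], (0, 0, 1, 1)),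
  ([78,26,0], 4, [[5,6,0,1,0,0,0,0],[0,7,1,0,0,0,0,0],[1,0,0,2,0,0,0,0],[0,1,4,3,0,0,0,0],[0,0,0,0,0,0,0,0],[0,0,0,0,0,0,0,0],[0,0,5,0,0,0,0,0],[0,0,6,7,0,0,0,0]], [[0,0,1,0,0,0,2,3],[0,0,0,1,0,0,0,7],[0,0,0,0,1,0,2,0],[0,0,0,0,0,1,1,4],[0,0,0,0,0,0,0,0],[0,0,0,0,0,0,0,0],[0,0,0,0,0,0,0,0],[0,0,0,0,0,0,0,0]], [[1,0,0,1,0,0,0,0],[0,1,1,0,0,0,0,0],[0,0,0,2,0,0,0,0],[0,0,4,3,0,0,0,0],[0,0,1,0,0,0,0,0],[0,0,0,1,0,0,0,0],[0,0,5,0,0,0,0,0],[0,0,6,7,0,0,0,0]], [[1,0,5,6,0,0,0,4],[0,1,0,7,0,0,2,3],[0,0,0,0,1,0,0,0],[0,0,0,0,0,1,0,0],[0,0,0,0,0,0,0,0],[0,0,0,0,0,0,0,0],[0,0,0,0,0,0,0,0],[0,0,0,0,0,0,0,0]], (0, 0, 1, 1)),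
  ([79,43,0], 4, [[0,6,0,1,0,0,0,0],[1,0,1,0,0,0,0,0],[1,0,1,2,0,0,0,0],[0,1,4,0,0,0,0,0],[0,0,0,0,0,0,0,0],[0,0,0,0,0,0,0,0],[0,0,0,1,0,0,0,0],[0,0,6,0,0,0,0,0]], [[0,0,1,0,0,0,2,3],[0,0,0,1,0,0,0,7],[0,0,0,0,1,0,0,3],[0,0,0,0,0,1,1,0],[0,0,0,0,0,0,0,0],[0,0,0,0,0,0,0,0],[0,0,0,0,0,0,0,0],[0,0,0,0,0,0,0,0]], [[1,0,0,1,0,0,0,0],[0,1,1,0,0,0,0,0],[0,0,1,2,0,0,0,0],[0,0,4,0,0,0,0,0],[0,0,1,0,0,0,0,0],[0,0,0,1,0,0,0,0],[0,0,0,1,0,0,0,0],[0,0,6,0,0,0,0,0]], [[1,0,0,6,0,0,1,4],[0,1,1,0,0,0,2,0],[0,0,0,0,1,0,0,0],[0,0,0,0,0,1,0,0],[0,0,0,0,0,0,0,0],[0,0,0,0,0,0,0,0],[0,0,0,0,0,0,0,0],[0,0,0,0,0,0,0,0]], (0, 1, 1, 0)),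
  ([80,21,0], 4, [[0,0,0,0,0,0,0,0],[0,0,0,0,0,0,0,0],[2,1,1,0,0,0,0,0],[0,4,0,1,0,0,0,0],[0,1,1,0,0,0,0,0],[1,0,0,6,0,0,0,0],[1,0,0,0,0,0,0,0],[0,6,0,0,0,0,0,0]], [[1,0,0,0,0,0,1,0],[0,1,0,0,0,0,0,3],[0,0,1,0,0,0,2,3],[0,0,0,1,0,0,0,7],[0,0,0,0,0,0,0,0],[0,0,0,0,0,0,0,0],[0,0,0,0,0,0,0,0],[0,0,0,0,0,0,0,0]], [[1,0,0,0,0,0,0,0],[0,1,0,0,0,0,0,0],[2,1,0,0,0,0,0,0],[0,4,0,0,0,0,0,0],[0,1,1,0,0,0,0,0],[1,0,0,6,0,0,0,0],[1,0,0,0,0,0,0,0],[0,6,0,0,0,0,0,0]], [[1,0,0,0,0,0,0,0],[0,1,0,0,0,0,0,0],[0,0,1,0,1,0,2,0],[0,0,0,1,0,3,3,7],[0,0,0,0,0,0,0,0],[0,0,0,0,0,0,0,0],[0,0,0,0,0,0,0,0],[0,0,0,0,0,0,0,0]], (0, 0, 1, 1))]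

def gensSeven : List (List (ℕ × Mat)) := [
  [(4, [[1,3,0,0,0,0,0,0],[0,1,0,0,0,0,0,0],[0,0,1,5,0,0,6,7],[0,0,0,1,0,0,7,0],[0,0,0,0,1,0,0,0],[0,0,0,0,3,1,0,0],[0,0,0,0,0,0,1,0],[0,0,0,0,0,0,5,1]]),
   (9, [[2,3,0,0,0,0,0,0],[1,1,0,0,0,0,0,0],[0,0,5,3,0,0,6,1],[0,0,6,6,0,0,7,7],[0,0,0,0,1,1,0,0],[0,0,0,0,3,2,0,0],[0,0,1,1,0,0,1,1],[0,0,4,5,0,0,5,4]])],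
  [(0, [[1,0,0,0,0,0,0,0],[0,1,1,0,0,0,0,0],[0,0,1,0,0,0,0,0],[0,0,0,1,0,0,0,0],[0,0,0,0,1,0,0,0],[0,0,0,0,0,1,0,0],[0,0,0,0,0,1,1,0],[0,0,0,0,0,0,0,1]]),
   (1, [[1,0,0,0,0,0,0,0],[0,0,1,0,0,0,0,0],[0,1,1,0,0,0,0,0],[0,0,0,1,0,0,0,0],[0,0,0,0,1,0,0,0],[0,0,0,0,0,1,1,0],[0,0,0,0,0,1,0,0],[0,0,0,0,0,0,0,1]]),
   (0, [[1,0,0,0,0,0,0,0],[0,0,1,0,0,0,0,0],[0,1,0,0,0,0,0,0],[0,0,0,1,0,0,0,0],[0,0,0,0,1,0,0,0],[0,0,0,0,0,0,1,0],[0,0,0,0,0,1,0,0],[0,0,0,0,0,0,0,1]]),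
   (8, [[1,7,0,0,0,0,0,0],[0,0,1,3,0,0,4,5],[0,1,0,0,0,0,0,0],[0,0,0,1,0,0,5,0],[0,0,0,0,1,0,0,0],[0,0,0,0,0,0,1,0],[0,0,0,0,7,1,0,0],[0,0,0,0,0,0,3,1]]),
   (12, [[0,7,0,0,0,0,0,0],[0,0,0,0,0,0,4,0],[4,1,0,0,0,0,0,0],[0,0,0,0,0,0,5,3],[0,0,0,0,1,4,0,0],[0,0,7,2,0,0,1,6],[0,0,0,0,7,0,0,0],[0,0,0,6,0,0,3,0]]),
   (5, [[0,7,0,0,0,0,0,0],[0,0,0,0,0,0,4,0],[4,7,0,0,0,0,0,0],[0,0,0,0,0,0,4,3],[0,0,0,0,7,4,0,0],[0,0,7,6,0,0,4,3],[0,0,0,0,7,0,0,0],[0,0,0,6,0,0,4,0]]),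
   (0, [[0,7,7,0,0,0,0,0],[0,0,0,0,0,4,4,0],[4,7,7,0,0,0,0,0],[0,0,0,0,0,4,4,3],[0,0,0,0,7,4,0,0],[0,0,7,6,0,4,4,3],[0,0,0,0,7,0,0,0],[0,0,0,6,0,4,4,0]]),
   (1, [[0,0,7,0,0,0,0,0],[0,0,0,0,0,4,0,0],[4,0,7,0,0,0,0,0],[0,0,0,0,0,4,0,3],[0,0,0,0,7,4,4,0],[0,7,7,6,0,4,0,3],[0,0,0,0,7,0,0,0],[0,0,0,6,0,4,0,0]]),
   (0, [[0,0,7,0,0,0,0,0],[0,0,0,0,0,4,0,0],[4,0,7,0,0,0,0,0],[0,0,0,0,0,4,0,3],[0,0,0,0,7,0,4,0],[0,7,0,6,0,4,0,3],[0,0,0,0,7,0,0,0],[0,0,0,6,0,4,0,0]]),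
   (8, [[0,0,7,2,0,0,1,6],[0,0,0,0,1,4,0,0],[4,1,7,2,0,0,1,6],[0,0,0,0,1,4,5,3],[0,0,0,0,7,0,4,0],[0,7,0,6,1,4,6,3],[0,0,0,0,7,0,0,0],[0,0,0,6,1,4,3,0]]),
   (12, [[0,0,0,0,0,0,1,0],[0,0,0,0,1,0,0,0],[0,1,0,0,0,0,1,0],[0,0,0,1,1,0,5,0],[0,0,1,3,7,1,4,5],[1,7,0,1,1,0,6,1],[0,0,0,0,7,1,0,0],[0,0,0,0,1,0,3,1]]),
   (5, [[0,0,0,0,0,0,1,0],[0,0,0,0,1,0,0,0],[0,1,0,0,0,0,1,0],[0,0,0,1,1,0,7,0],[0,0,1,5,3,1,6,7],[1,3,0,1,1,0,2,1],[0,0,0,0,3,1,0,0],[0,0,0,0,1,0,5,1]]),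
   (0, [[0,0,0,0,0,1,1,0],[0,0,0,0,1,0,0,0],[0,1,1,0,0,1,1,0],[0,0,0,1,1,7,7,0],[0,0,1,5,3,7,6,7],[1,3,3,1,1,2,2,1],[0,0,0,0,3,1,0,0],[0,0,0,0,1,5,5,1]]),
   (1, [[0,0,0,0,0,1,0,0],[0,0,0,0,1,0,0,0],[0,0,1,0,0,1,0,0],[0,0,0,1,1,7,0,0],[0,1,1,5,3,7,1,7],[1,0,3,1,1,2,0,1],[0,0,0,0,3,1,1,0],[0,0,0,0,1,5,0,1]]),
   (0, [[0,0,0,0,0,1,0,0],[0,0,0,0,1,0,0,0],[0,0,1,0,0,1,0,0],[0,0,0,1,1,7,0,0],[0,1,0,5,3,6,1,7],[1,0,3,1,1,2,0,1],[0,0,0,0,3,0,1,0],[0,0,0,0,1,5,0,1]]),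
   (8, [[0,0,0,0,7,1,0,0],[0,0,0,0,1,0,0,0],[0,0,1,3,7,1,4,5],[0,0,0,1,2,7,5,0],[0,1,0,5,7,6,4,7],[1,7,3,4,4,2,1,5],[0,0,0,0,3,0,1,0],[0,0,0,0,7,5,3,1]]),
   (12, [[0,0,0,0,7,0,0,0],[0,0,0,0,1,4,0,0],[0,0,0,0,7,0,4,0],[0,0,0,0,2,4,5,3],[4,1,7,6,7,7,4,2],[0,7,0,6,4,4,1,3],[0,0,7,2,3,7,1,6],[0,0,0,6,7,4,3,0]]),
   (5, [[0,0,0,0,7,0,0,0],[0,0,0,0,7,4,0,0],[0,0,0,0,7,0,4,0],[0,0,0,0,4,4,4,3],[4,7,7,2,6,7,7,7],[0,7,0,6,2,4,7,3],[0,0,7,6,2,7,4,3],[0,0,0,6,1,4,4,0]])]]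

def elsSeven : List Mat := [
  [[1,0,0,0,0,0,0,0],[0,1,0,0,0,0,0,0],[0,0,1,0,0,0,0,0],[0,0,0,1,0,0,0,0],[0,0,0,0,1,0,0,0],[0,0,0,0,0,1,0,0],[0,0,0,0,0,0,1,0],[0,0,0,0,0,0,0,1]],
  [[2,3,0,0,0,0,0,0],[1,1,0,0,0,0,0,0],[0,0,5,3,0,0,6,1],[0,0,6,6,0,0,7,7],[0,0,0,0,1,1,0,0],[0,0,0,0,3,2,0,0],[0,0,1,1,0,0,1,1],[0,0,4,5,0,0,5,4]],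
  [[0,0,0,0,7,0,0,0],[0,0,0,0,7,4,0,0],[0,0,0,0,7,0,4,0],[0,0,0,0,4,4,4,3],[4,7,7,2,6,7,7,7],[0,7,0,6,2,4,7,3],[0,0,7,6,2,7,4,3],[0,0,0,6,1,4,4,0]],
  [[7,5,0,0,0,0,0,0],[3,2,0,0,0,0,0,0],[0,0,4,6,0,0,2,5],[0,0,7,2,0,0,7,4],[0,0,0,0,2,3,0,0],[0,0,0,0,5,7,0,0],[0,0,6,1,0,0,5,3],[0,0,2,3,0,0,4,1]],
  [[0,0,0,0,7,7,0,0],[0,0,0,0,0,4,0,0],[0,0,4,4,7,7,4,4],[0,0,3,0,3,7,0,3],[4,0,7,4,4,3,0,4],[7,7,2,1,5,1,7,4],[0,0,7,0,0,7,0,0],[0,0,6,6,6,2,0,0]],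
  [[1,3,3,5,4,3,3,3],[1,2,3,0,7,5,2,4],[1,3,2,0,7,2,5,4],[6,0,0,2,6,1,1,1],[5,7,7,3,7,5,5,2],[3,4,6,4,4,3,7,1],[3,6,4,4,4,7,3,1],[4,6,6,2,3,5,5,6]],
  [[0,7,0,0,0,0,0,0],[4,7,0,0,0,0,0,0],[0,0,0,0,0,0,4,0],[0,0,0,0,0,0,4,3],[0,0,0,0,7,4,0,0],[0,0,0,0,7,0,0,0],[0,0,7,6,0,0,4,3],[0,0,0,6,0,0,4,0]],
  [[0,0,0,0,5,2,0,0],[0,0,0,0,7,3,0,0],[0,0,5,4,5,2,2,7],[0,0,3,1,1,6,5,4],[3,7,5,5,1,2,7,0],[2,5,6,5,6,7,5,4],[0,0,6,2,2,5,4,7],[0,0,1,3,0,2,6,2]],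
  [[1,0,3,1,1,2,0,1],[0,1,0,5,3,6,1,7],[1,0,2,1,1,3,0,1],[7,1,2,3,5,4,1,0],[6,3,1,7,3,6,2,3],[2,1,5,6,1,2,1,4],[0,3,0,4,6,1,2,2],[5,1,4,0,7,2,1,3]],
  [[6,3,3,2,3,6,6,5],[1,5,6,4,5,1,7,1],[1,6,5,4,5,7,1,1],[5,3,3,1,4,0,0,2],[1,5,5,2,7,2,2,6],[6,3,2,0,6,1,5,1],[6,2,3,0,6,5,1,1],[7,4,4,4,5,5,5,4]],
  [[7,7,0,0,0,0,0,0],[4,0,0,0,0,0,0,0],[0,0,4,4,0,0,4,4],[0,0,3,0,0,0,0,3],[0,0,0,0,0,4,0,0],[0,0,0,0,7,7,0,0],[0,0,7,0,0,0,0,0],[0,0,6,6,0,0,0,0]],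
  [[0,0,0,0,3,1,0,0],[0,0,0,0,2,1,0,0],[0,0,1,5,3,1,6,7],[0,0,1,4,0,6,1,7],[1,2,3,0,7,5,2,4],[1,3,3,5,4,3,3,3],[0,0,1,4,6,3,5,6],[0,0,1,5,6,4,3,6]],
  [[2,3,6,6,7,5,3,0],[1,1,3,4,2,4,1,6],[2,3,3,5,4,7,5,1],[4,3,1,6,2,6,4,1],[4,2,4,1,2,4,3,7],[5,7,2,5,7,5,4,6],[3,3,4,6,5,4,2,0],[0,5,4,2,1,3,0,2]],
  [[4,2,7,3,2,4,5,2],[7,6,5,6,6,7,1,4],[4,5,7,5,7,0,6,1],[2,7,1,2,4,4,7,7],[7,6,7,2,1,3,7,7],[4,2,0,6,5,4,7,3],[5,3,1,1,2,7,5,6],[1,6,4,5,1,4,3,6]],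
  [[7,6,6,5,3,5,5,4],[2,1,5,5,6,1,7,0],[2,5,1,5,6,7,1,0],[6,1,1,4,5,1,1,2],[1,6,6,7,6,1,1,5],[5,3,2,4,3,5,6,3],[5,2,3,4,3,6,5,3],[2,0,0,4,2,4,4,1]],
  [[2,5,0,0,0,0,0,0],[3,7,0,0,0,0,0,0],[0,0,5,4,0,0,2,7],[0,0,3,1,0,0,5,4],[0,0,0,0,7,3,0,0],[0,0,0,0,5,2,0,0],[0,0,6,2,0,0,4,7],[0,0,1,3,0,0,6,2]],
  [[0,0,0,0,0,1,0,0],[0,0,0,0,1,0,0,0],[0,0,1,0,0,1,0,0],[0,0,0,1,1,7,0,0],[0,1,0,5,3,6,1,7],[1,0,3,1,1,2,0,1],[0,0,0,0,3,0,1,0],[0,0,0,0,1,5,0,1]],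
  [[7,5,2,0,3,6,5,1],[3,2,5,2,5,1,2,6],[7,5,6,6,6,1,7,4],[0,4,7,0,3,5,3,5],[1,5,6,4,5,1,7,1],[6,3,3,2,3,6,6,5],[5,6,2,7,2,6,3,2],[5,5,6,1,4,7,1,2]],
  [[1,5,1,7,5,1,2,3],[3,4,2,5,4,3,4,6],[6,2,7,2,7,7,1,3],[3,1,4,5,3,7,2,2],[3,4,7,4,4,7,0,4],[1,5,2,1,2,6,7,4],[2,7,3,3,0,7,7,6],[4,5,7,4,6,2,3,4]],
  [[3,4,3,5,7,2,3,3],[5,7,3,0,5,4,2,4],[1,3,7,1,4,3,1,6],[6,0,2,6,6,7,7,2],[4,5,4,3,5,4,7,6],[2,7,5,1,7,2,4,2],[3,6,3,1,2,4,1,0],[4,6,5,4,5,1,0,1]],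
  [[7,4,4,3,4,7,7,6],[5,3,7,5,3,5,2,1],[5,7,3,5,3,2,5,1],[2,1,1,6,3,4,4,1],[5,3,3,4,1,1,1,6],[7,4,6,6,3,2,3,0],[7,6,4,6,3,3,2,0],[3,4,4,2,5,0,0,2]],
  [[1,3,0,0,0,0,0,0],[1,2,0,0,0,0,0,0],[0,0,1,5,0,0,6,7],[0,0,1,4,0,0,1,7],[0,0,0,0,2,1,0,0],[0,0,0,0,3,1,0,0],[0,0,1,4,0,0,5,6],[0,0,1,5,0,0,3,6]],
  [[0,0,0,0,3,2,0,0],[0,0,0,0,1,1,0,0],[0,0,5,3,3,2,6,1],[0,0,6,6,3,4,7,7],[1,1,3,4,2,4,1,6],[2,3,6,6,7,5,3,0],[0,0,1,1,3,3,1,1],[0,0,4,5,5,0,5,4]],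
  [[0,7,0,6,2,4,7,3],[4,7,7,2,6,7,7,7],[0,7,0,6,5,4,3,3],[4,4,7,6,7,2,0,6],[7,6,5,6,6,7,1,4],[4,2,7,3,2,4,5,2],[7,2,5,0,3,5,6,1],[4,1,7,7,6,1,5,3]],
  [[7,6,4,1,6,7,3,7],[2,1,3,2,1,2,6,5],[5,3,7,0,5,2,4,4],[7,4,0,7,1,6,0,3],[2,1,5,5,6,1,7,0],[7,6,6,5,3,5,5,4],[3,1,7,0,2,5,7,3],[6,2,6,6,0,2,4,3]],
  [[2,1,3,1,1,3,0,1],[6,3,0,5,2,6,1,7],[1,0,4,6,1,2,1,4],[7,1,7,2,4,3,5,2],[6,2,1,2,2,6,3,4],[3,1,6,7,1,3,1,5],[0,3,3,2,5,1,7,5],[5,1,6,4,6,7,7,0]],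
  [[1,6,1,2,6,1,3,4],[2,7,3,6,7,2,5,7],[6,3,6,6,5,7,7,4],[5,7,7,0,4,0,3,5],[2,7,5,2,2,3,2,6],[1,6,2,0,5,7,5,1],[3,4,2,7,6,5,3,2],[2,1,6,1,5,5,1,2]],
  [[6,2,2,1,7,7,7,4],[7,4,7,4,0,4,0,4],[7,7,4,4,0,0,4,4],[7,3,3,0,0,0,0,3],[4,0,0,0,0,0,0,0],[7,7,0,0,0,0,0,0],[7,0,7,0,0,0,0,0],[2,6,6,6,0,0,0,0]],
  [[0,0,0,0,5,7,0,0],[0,0,0,0,2,3,0,0],[0,0,4,6,5,7,2,5],[0,0,7,2,4,0,7,4],[3,2,5,2,5,1,2,6],[7,5,2,0,3,6,5,1],[0,0,6,1,6,5,5,3],[0,0,2,3,5,5,4,1]],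
  [[7,7,2,1,5,1,7,4],[4,0,7,4,4,3,0,4],[7,7,6,5,2,6,3,0],[7,3,1,3,1,3,3,6],[3,4,2,5,4,3,4,6],[1,5,1,7,5,1,2,3],[7,0,5,7,7,2,0,7],[2,6,0,7,5,4,6,6]],
  [[3,4,6,4,4,3,7,1],[5,7,7,3,7,5,5,2],[2,7,4,4,3,1,2,5],[1,6,3,0,0,6,7,4],[5,7,3,0,5,4,2,4],[3,4,3,5,7,2,3,3],[7,4,6,1,6,3,7,7],[5,3,2,3,6,4,6,1]],
  [[5,7,6,6,4,7,3,0],[4,2,3,4,3,5,1,6],[2,3,7,6,7,5,2,7],[4,3,7,1,1,2,5,4],[5,3,7,5,3,5,2,1],[7,4,4,3,4,7,7,6],[3,3,6,2,6,7,4,3],[0,5,1,3,4,3,4,0]],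
  [[4,5,7,5,5,4,2,1],[3,1,2,4,1,3,6,3],[4,2,0,6,7,0,3,3],[6,3,7,6,4,4,0,6],[3,1,7,2,7,4,7,7],[4,5,0,6,7,0,7,3],[2,1,5,0,2,7,6,1],[5,7,7,7,1,4,5,3]],
  [[5,3,6,5,5,2,5,4],[1,6,5,5,7,3,7,0],[2,5,5,4,0,0,2,7],[6,1,3,1,0,0,5,4],[3,7,0,0,0,0,0,0],[2,5,0,0,0,0,0,0],[5,2,6,2,0,0,4,7],[2,0,1,3,0,0,6,2]],
  [[2,5,6,5,6,7,5,4],[3,7,5,5,1,2,7,0],[2,5,3,1,3,5,7,3],[6,1,2,2,4,7,4,5],[2,1,3,2,1,2,6,5],[7,6,4,1,6,7,3,7],[5,2,2,6,1,3,6,7],[2,0,7,1,2,6,6,0]],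
  [[2,1,5,6,1,2,1,4],[6,3,1,7,3,6,2,3],[3,1,7,7,0,1,1,5],[4,5,5,0,1,7,4,2],[6,3,0,5,2,6,1,7],[2,1,3,1,1,3,0,1],[1,6,3,6,3,0,4,7],[2,7,2,4,1,5,6,2]],
  [[6,3,2,0,6,1,5,1],[1,5,5,2,7,2,2,6],[7,5,7,4,3,6,4,0],[0,4,3,3,7,5,4,3],[2,7,3,6,7,2,5,7],[1,6,1,2,6,1,3,4],[5,6,7,6,4,3,7,0],[5,5,0,6,1,2,0,7]],
  [[6,2,3,6,2,6,5,7],[7,4,5,1,4,7,4,2],[1,5,6,5,7,7,3,0],[4,2,1,3,3,7,3,6],[7,4,7,4,0,4,0,4],[6,2,2,1,7,7,7,4],[5,7,5,7,0,7,0,7],[6,3,0,7,6,2,6,6]],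
  [[2,7,3,5,3,1,3,3],[4,5,3,0,2,1,2,4],[1,3,1,5,0,0,6,7],[6,0,1,4,0,0,1,7],[1,2,0,0,0,0,0,0],[1,3,0,0,0,0,0,0],[3,6,1,4,0,0,5,6],[4,6,1,5,0,0,3,6]],
  [[5,7,2,5,7,5,4,6],[4,2,4,1,2,4,3,7],[7,4,1,0,3,2,1,7],[6,2,0,1,3,4,6,2],[4,2,3,4,3,5,1,6],[5,7,6,6,4,7,3,0],[4,5,3,5,3,3,7,2],[3,1,1,4,5,0,1,6]],
  [[4,2,0,6,5,4,7,3],[7,6,7,2,1,3,7,7],[0,7,7,3,2,4,1,2],[4,4,6,4,3,6,3,2],[3,1,2,4,1,3,6,3],[4,5,7,5,5,4,2,1],[7,2,3,7,1,2,7,4],[4,1,3,4,7,5,2,5]],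
  [[5,3,2,4,3,5,6,3],[1,6,6,7,6,1,1,5],[7,6,3,1,5,2,7,3],[1,5,2,2,1,6,4,5],[1,6,5,5,7,3,7,0],[5,3,6,5,5,2,5,4],[6,3,2,6,2,5,6,7],[4,2,7,1,0,2,6,0]],
  [[3,1,3,1,0,1,0,1],[6,2,0,5,1,0,1,7],[1,0,1,0,0,0,0,0],[7,1,0,1,0,0,0,0],[0,1,0,0,0,0,0,0],[1,0,0,0,0,0,0,0],[0,3,0,0,0,0,1,0],[5,1,0,0,0,0,0,1]],
  [[1,5,2,1,2,6,7,4],[3,4,7,4,4,7,0,4],[7,7,5,3,5,1,6,7],[7,3,6,6,2,4,1,7],[7,4,5,1,4,7,4,2],[6,2,3,6,2,6,5,7],[7,0,1,4,7,5,7,1],[2,6,1,5,3,6,5,2]],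
  [[2,7,5,1,7,2,4,2],[4,5,4,3,5,4,7,6],[3,4,2,0,3,1,5,4],[7,6,0,2,0,6,1,1],[4,5,3,0,2,1,2,4],[2,7,3,5,3,1,3,3],[4,2,4,4,6,3,3,1],[1,5,6,2,6,4,5,6]],
  [[7,4,6,6,3,2,3,0],[5,3,3,4,1,1,1,6],[2,3,5,3,0,0,6,1],[4,3,6,6,0,0,7,7],[1,1,0,0,0,0,0,0],[2,3,0,0,0,0,0,0],[3,3,1,1,0,0,1,1],[0,5,4,5,0,0,5,4]],
  [[3,1,6,7,1,3,1,5],[6,2,1,2,2,6,3,4],[2,1,2,1,0,1,0,1],[3,4,2,3,1,7,1,0],[6,2,0,5,1,0,1,7],[3,1,3,1,0,1,0,1],[1,5,0,4,3,0,2,2],[7,6,4,0,1,5,1,3]],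
  [[1,6,2,0,5,7,5,1],[2,7,5,2,2,3,2,6],[7,5,4,6,0,0,2,5],[0,4,7,2,0,0,7,4],[3,2,0,0,0,0,0,0],[7,5,0,0,0,0,0,0],[5,6,6,1,0,0,5,3],[5,5,2,3,0,0,4,1]],
  [[4,5,0,6,7,0,7,3],[3,1,7,2,7,4,7,7],[0,7,0,0,0,0,4,0],[4,4,0,0,0,0,4,3],[4,7,0,0,0,0,0,0],[0,7,0,0,0,0,0,0],[7,2,7,6,0,0,4,3],[4,1,0,6,0,0,4,0]]]

def parSeven : List (ℕ × ℕ) := [(0, 0), (0, 1), (1, 0), (1, 1), (2, 1), (3, 0), (3, 1), (4, 1), (5, 1), (6, 0), (6, 1), (7, 1), (8, 1), (9, 1), (10, 0), (10, 1), (11, 1), (12, 1), (13, 1), (14, 1), (15, 0), (15, 1), (16, 1), (17, 1), (18, 1), (19, 1), (20, 1), (21, 1), (22, 1), (23, 1), (24, 1), (25, 1), (26, 1), (28, 1), (29, 1), (30, 1), (31, 1),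 (32, 1), (34, 1), (35, 1), (36, 1), (37, 1), (39, 1), (40, 1), (41, 1), (43, 1), (44, 1), (46, 1)]

def nxtSeven : List (List ℕ) := [
  [1,2],
  [3,4],
  [4,5],
  [6,7],
  [7,8],
  [8,9],
  [10,11],
  [11,12],
  [12,13],
  [13,14],
  [15,16],
  [16,17],
  [17,18],
  [18,19],
  [19,20],
  [21,22],
  [22,23],
  [23,24],
  [24,25],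
  [25,26],
  [26,27],
  [0,28],
  [28,29],
  [29,30],
  [30,31],
  [31,32],
  [32,33],
  [33,0],
  [2,34],
  [34,35],
  [35,36],
  [36,37],
  [37,38],
  [38,1],
  [5,39],
  [39,40],
  [40,41],
  [41,42],
  [42,3],
  [9,43],
  [43,44],
  [44,45],
  [45,6],
  [14,46],
  [46,47],
  [47,10],
  [20,48],
  [48,15],
  [27,21]]

def certSeven : List (List ℕ × ℕ × Mat × Mat × Mat × Mat × List ℕ) := [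
  ([1,3,6,10,15,21,0], 0, [[0,0,0,0,0,0,0,0],[0,0,0,0,0,0,0,0],[0,0,0,0,0,0,0,0],[0,0,0,0,0,0,0,0],[0,0,0,0,0,0,0,0],[0,0,0,0,0,0,0,0],[0,0,0,0,0,0,0,0],[0,0,0,0,0,0,0,0]], [[0,0,0,0,0,0,0,0],[0,0,0,0,0,0,0,0],[0,0,0,0,0,0,0,0],[0,0,0,0,0,0,0,0],[0,0,0,0,0,0,0,0],[0,0,0,0,0,0,0,0],[0,0,0,0,0,0,0,0],[0,0,0,0,0,0,0,0]], [[0,0,0,0,0,0,0,0],[0,0,0,0,0,0,0,0],[0,0,0,0,0,0,0,0],[0,0,0,0,0,0,0,0],[0,0,0,0,0,0,0,0],[0,0,0,0,0,0,0,0],[0,0,0,0,0,0,0,0],[0,0,0,0,0,0,0,0]], [[0,0,0,0,0,0,0,0],[0,0,0,0,0,0,0,0],[0,0,0,0,0,0,0,0],[0,0,0,0,0,0,0,0],[0,0,0,0,0,0,0,0],[0,0,0,0,0,0,0,0],[0,0,0,0,0,0,0,0],[0,0,0,0,0,0,0,0]], []),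
  ([2,5,9,14,20,27,0], 0, [[0,0,0,0,0,0,0,0],[0,0,0,0,0,0,0,0],[0,0,0,0,0,0,0,0],[0,0,0,0,0,0,0,0],[0,0,0,0,0,0,0,0],[0,0,0,0,0,0,0,0],[0,0,0,0,0,0,0,0],[0,0,0,0,0,0,0,0]], [[0,0,0,0,0,0,0,0],[0,0,0,0,0,0,0,0],[0,0,0,0,0,0,0,0],[0,0,0,0,0,0,0,0],[0,0,0,0,0,0,0,0],[0,0,0,0,0,0,0,0],[0,0,0,0,0,0,0,0],[0,0,0,0,0,0,0,0]], [[0,0,0,0,0,0,0,0],[0,0,0,0,0,0,0,0],[0,0,0,0,0,0,0,0],[0,0,0,0,0,0,0,0],[0,0,0,0,0,0,0,0],[0,0,0,0,0,0,0,0],[0,0,0,0,0,0,0,0],[0,0,0,0,0,0,0,0]], [[0,0,0,0,0,0,0,0],[0,0,0,0,0,0,0,0],[0,0,0,0,0,0,0,0],[0,0,0,0,0,0,0,0],[0,0,0,0,0,0,0,0],[0,0,0,0,0,0,0,0],[0,0,0,0,0,0,0,0],[0,0,0,0,0,0,0,0]], []),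
  ([3,10,21,1,6,15,0], 0, [[0,0,0,0,0,0,0,0],[0,0,0,0,0,0,0,0],[0,0,0,0,0,0,0,0],[0,0,0,0,0,0,0,0],[0,0,0,0,0,0,0,0],[0,0,0,0,0,0,0,0],[0,0,0,0,0,0,0,0],[0,0,0,0,0,0,0,0]], [[0,0,0,0,0,0,0,0],[0,0,0,0,0,0,0,0],[0,0,0,0,0,0,0,0],[0,0,0,0,0,0,0,0],[0,0,0,0,0,0,0,0],[0,0,0,0,0,0,0,0],[0,0,0,0,0,0,0,0],[0,0,0,0,0,0,0,0]], [[0,0,0,0,0,0,0,0],[0,0,0,0,0,0,0,0],[0,0,0,0,0,0,0,0],[0,0,0,0,0,0,0,0],[0,0,0,0,0,0,0,0],[0,0,0,0,0,0,0,0],[0,0,0,0,0,0,0,0],[0,0,0,0,0,0,0,0]], [[0,0,0,0,0,0,0,0],[0,0,0,0,0,0,0,0],[0,0,0,0,0,0,0,0],[0,0,0,0,0,0,0,0],[0,0,0,0,0,0,0,0],[0,0,0,0,0,0,0,0],[0,0,0,0,0,0,0,0],[0,0,0,0,0,0,0,0]], []),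
  ([4,12,24,36,44,48,0], 2, [[4,4,0,0,0,0,0,0],[5,0,0,0,0,0,0,0],[3,6,0,0,0,0,0,0],[0,1,0,0,0,0,0,0],[0,6,0,0,0,0,0,0],[6,0,0,0,0,0,0,0],[6,4,0,0,0,0,0,0],[6,6,0,0,0,0,0,0]], [[1,0,7,1,7,0,1,3],[0,1,1,1,7,4,5,0],[0,0,0,0,0,0,0,0],[0,0,0,0,0,0,0,0],[0,0,0,0,0,0,0,0],[0,0,0,0,0,0,0,0],[0,0,0,0,0,0,0,0],[0,0,0,0,0,0,0,0]], [[0,7,1,6,0,2,1,0],[7,3,3,1,0,4,2,0],[7,2,3,3,3,4,4,4],[5,5,7,7,4,2,2,6],[3,3,7,6,0,1,6,0],[3,2,4,2,0,5,3,0],[1,0,4,4,5,5,5,4],[0,1,1,1,1,1,1,1]], [[6,4,0,2,5,6,4,1],[6,6,2,0,0,5,5,1],[1,5,5,1,2,4,4,2],[4,2,6,7,7,5,1,5],[0,0,6,4,0,0,6,5],[7,4,4,1,1,3,3,7],[4,5,1,7,4,7,2,3],[0,0,2,4,0,0,7,6]], [1,1,2,3,4,5,6,7]),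
  ([5,14,27,2,9,20,0], 0, [[0,0,0,0,0,0,0,0],[0,0,0,0,0,0,0,0],[0,0,0,0,0,0,0,0],[0,0,0,0,0,0,0,0],[0,0,0,0,0,0,0,0],[0,0,0,0,0,0,0,0],[0,0,0,0,0,0,0,0],[0,0,0,0,0,0,0,0]], [[0,0,0,0,0,0,0,0],[0,0,0,0,0,0,0,0],[0,0,0,0,0,0,0,0],[0,0,0,0,0,0,0,0],[0,0,0,0,0,0,0,0],[0,0,0,0,0,0,0,0],[0,0,0,0,0,0,0,0],[0,0,0,0,0,0,0,0]], [[0,0,0,0,0,0,0,0],[0,0,0,0,0,0,0,0],[0,0,0,0,0,0,0,0],[0,0,0,0,0,0,0,0],[0,0,0,0,0,0,0,0],[0,0,0,0,0,0,0,0],[0,0,0,0,0,0,0,0],[0,0,0,0,0,0,0,0]], [[0,0,0,0,0,0,0,0],[0,0,0,0,0,0,0,0],[0,0,0,0,0,0,0,0],[0,0,0,0,0,0,0,0],[0,0,0,0,0,0,0,0],[0,0,0,0,0,0,0,0],[0,0,0,0,0,0,0,0],[0,0,0,0,0,0,0,0]], []),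
  ([6,21,3,15,1,10,0], 0, [[0,0,0,0,0,0,0,0],[0,0,0,0,0,0,0,0],[0,0,0,0,0,0,0,0],[0,0,0,0,0,0,0,0],[0,0,0,0,0,0,0,0],[0,0,0,0,0,0,0,0],[0,0,0,0,0,0,0,0],[0,0,0,0,0,0,0,0]], [[0,0,0,0,0,0,0,0],[0,0,0,0,0,0,0,0],[0,0,0,0,0,0,0,0],[0,0,0,0,0,0,0,0],[0,0,0,0,0,0,0,0],[0,0,0,0,0,0,0,0],[0,0,0,0,0,0,0,0],[0,0,0,0,0,0,0,0]], [[0,0,0,0,0,0,0,0],[0,0,0,0,0,0,0,0],[0,0,0,0,0,0,0,0],[0,0,0,0,0,0,0,0],[0,0,0,0,0,0,0,0],[0,0,0,0,0,0,0,0],[0,0,0,0,0,0,0,0],[0,0,0,0,0,0,0,0]], [[0,0,0,0,0,0,0,0],[0,0,0,0,0,0,0,0],[0,0,0,0,0,0,0,0],[0,0,0,0,0,0,0,0],[0,0,0,0,0,0,0,0],[0,0,0,0,0,0,0,0],[0,0,0,0,0,0,0,0],[0,0,0,0,0,0,0,0]], []),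
  ([7,23,39,19,37,47,0], 0, [[0,0,0,0,0,0,0,0],[0,0,0,0,0,0,0,0],[0,0,0,0,0,0,0,0],[0,0,0,0,0,0,0,0],[0,0,0,0,0,0,0,0],[0,0,0,0,0,0,0,0],[0,0,0,0,0,0,0,0],[0,0,0,0,0,0,0,0]], [[0,0,0,0,0,0,0,0],[0,0,0,0,0,0,0,0],[0,0,0,0,0,0,0,0],[0,0,0,0,0,0,0,0],[0,0,0,0,0,0,0,0],[0,0,0,0,0,0,0,0],[0,0,0,0,0,0,0,0],[0,0,0,0,0,0,0,0]], [[0,0,0,0,0,0,0,0],[0,0,0,0,0,0,0,0],[0,0,0,0,0,0,0,0],[0,0,0,0,0,0,0,0],[0,0,0,0,0,0,0,0],[0,0,0,0,0,0,0,0],[0,0,0,0,0,0,0,0],[0,0,0,0,0,0,0,0]], [[0,0,0,0,0,0,0,0],[0,0,0,0,0,0,0,0],[0,0,0,0,0,0,0,0],[0,0,0,0,0,0,0,0],[0,0,0,0,0,0,0,0],[0,0,0,0,0,0,0,0],[0,0,0,0,0,0,0,0],[0,0,0,0,0,0,0,0]], []),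
  ([8,25,42,16,35,46,0], 2, [[0,0,0,0,0,0,0,0],[0,0,0,0,0,0,0,0],[2,1,0,0,0,0,0,0],[2,3,0,0,0,0,0,0],[0,0,0,0,0,0,0,0],[0,0,0,0,0,0,0,0],[0,4,0,0,0,0,0,0],[4,0,0,0,0,0,0,0]], [[0,0,1,0,0,0,7,2],[0,0,0,1,0,0,5,5],[0,0,0,0,0,0,0,0],[0,0,0,0,0,0,0,0],[0,0,0,0,0,0,0,0],[0,0,0,0,0,0,0,0],[0,0,0,0,0,0,0,0],[0,0,0,0,0,0,0,0]], [[0,0,6,2,7,1,1,7],[0,0,1,4,2,2,3,5],[7,5,3,4,3,4,3,4],[2,5,7,2,7,2,7,2],[0,0,6,1,4,6,7,7],[0,0,2,5,5,3,4,6],[1,0,4,5,4,5,4,5],[0,1,1,1,1,1,1,1]], [[0,0,0,4,0,0,2,2],[0,0,4,0,0,0,1,3],[4,2,6,7,7,5,1,5],[7,4,4,1,1,3,3,7],[5,7,1,2,5,1,3,4],[4,5,1,7,4,7,2,3],[1,5,5,1,2,4,4,2],[3,1,3,2,5,4,6,5]], [1,1,2,3,4,5,6,7]),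
  ([9,27,5,20,2,14,0], 0, [[0,0,0,0,0,0,0,0],[0,0,0,0,0,0,0,0],[0,0,0,0,0,0,0,0],[0,0,0,0,0,0,0,0],[0,0,0,0,0,0,0,0],[0,0,0,0,0,0,0,0],[0,0,0,0,0,0,0,0],[0,0,0,0,0,0,0,0]], [[0,0,0,0,0,0,0,0],[0,0,0,0,0,0,0,0],[0,0,0,0,0,0,0,0],[0,0,0,0,0,0,0,0],[0,0,0,0,0,0,0,0],[0,0,0,0,0,0,0,0],[0,0,0,0,0,0,0,0],[0,0,0,0,0,0,0,0]], [[0,0,0,0,0,0,0,0],[0,0,0,0,0,0,0,0],[0,0,0,0,0,0,0,0],[0,0,0,0,0,0,0,0],[0,0,0,0,0,0,0,0],[0,0,0,0,0,0,0,0],[0,0,0,0,0,0,0,0],[0,0,0,0,0,0,0,0]], [[0,0,0,0,0,0,0,0],[0,0,0,0,0,0,0,0],[0,0,0,0,0,0,0,0],[0,0,0,0,0,0,0,0],[0,0,0,0,0,0,0,0],[0,0,0,0,0,0,0,0],[0,0,0,0,0,0,0,0],[0,0,0,0,0,0,0,0]], []),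
  ([10,1,15,3,21,6,0], 0, [[0,0,0,0,0,0,0,0],[0,0,0,0,0,0,0,0],[0,0,0,0,0,0,0,0],[0,0,0,0,0,0,0,0],[0,0,0,0,0,0,0,0],[0,0,0,0,0,0,0,0],[0,0,0,0,0,0,0,0],[0,0,0,0,0,0,0,0]], [[0,0,0,0,0,0,0,0],[0,0,0,0,0,0,0,0],[0,0,0,0,0,0,0,0],[0,0,0,0,0,0,0,0],[0,0,0,0,0,0,0,0],[0,0,0,0,0,0,0,0],[0,0,0,0,0,0,0,0],[0,0,0,0,0,0,0,0]], [[0,0,0,0,0,0,0,0],[0,0,0,0,0,0,0,0],[0,0,0,0,0,0,0,0],[0,0,0,0,0,0,0,0],[0,0,0,0,0,0,0,0],[0,0,0,0,0,0,0,0],[0,0,0,0,0,0,0,0],[0,0,0,0,0,0,0,0]], [[0,0,0,0,0,0,0,0],[0,0,0,0,0,0,0,0],[0,0,0,0,0,0,0,0],[0,0,0,0,0,0,0,0],[0,0,0,0,0,0,0,0],[0,0,0,0,0,0,0,0],[0,0,0,0,0,0,0,0],[0,0,0,0,0,0,0,0]], []),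
  ([11,34,18,40,26,45,0], 0, [[0,0,0,0,0,0,0,0],[0,0,0,0,0,0,0,0],[0,0,0,0,0,0,0,0],[0,0,0,0,0,0,0,0],[0,0,0,0,0,0,0,0],[0,0,0,0,0,0,0,0],[0,0,0,0,0,0,0,0],[0,0,0,0,0,0,0,0]], [[0,0,0,0,0,0,0,0],[0,0,0,0,0,0,0,0],[0,0,0,0,0,0,0,0],[0,0,0,0,0,0,0,0],[0,0,0,0,0,0,0,0],[0,0,0,0,0,0,0,0],[0,0,0,0,0,0,0,0],[0,0,0,0,0,0,0,0]], [[0,0,0,0,0,0,0,0],[0,0,0,0,0,0,0,0],[0,0,0,0,0,0,0,0],[0,0,0,0,0,0,0,0],[0,0,0,0,0,0,0,0],[0,0,0,0,0,0,0,0],[0,0,0,0,0,0,0,0],[0,0,0,0,0,0,0,0]], [[0,0,0,0,0,0,0,0],[0,0,0,0,0,0,0,0],[0,0,0,0,0,0,0,0],[0,0,0,0,0,0,0,0],[0,0,0,0,0,0,0,0],[0,0,0,0,0,0,0,0],[0,0,0,0,0,0,0,0],[0,0,0,0,0,0,0,0]], []),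
  ([12,36,48,4,24,44,0], 2, [[4,4,0,0,0,0,0,0],[5,0,0,0,0,0,0,0],[3,6,0,0,0,0,0,0],[0,1,0,0,0,0,0,0],[0,6,0,0,0,0,0,0],[6,0,0,0,0,0,0,0],[6,4,0,0,0,0,0,0],[6,6,0,0,0,0,0,0]], [[1,0,7,1,7,0,1,3],[0,1,1,1,7,4,5,0],[0,0,0,0,0,0,0,0],[0,0,0,0,0,0,0,0],[0,0,0,0,0,0,0,0],[0,0,0,0,0,0,0,0],[0,0,0,0,0,0,0,0],[0,0,0,0,0,0,0,0]], [[0,7,1,0,1,6,0,2],[7,3,2,0,3,1,0,4],[7,2,4,4,3,3,3,4],[5,5,2,6,7,7,4,2],[3,3,6,0,7,6,0,1],[3,2,3,0,4,2,0,5],[1,0,5,4,4,4,5,5],[0,1,1,1,1,1,1,1]], [[6,4,0,2,5,6,4,1],[6,6,2,0,0,5,5,1],[4,5,1,7,4,7,2,3],[0,0,2,4,0,0,7,6],[1,5,5,1,2,4,4,2],[4,2,6,7,7,5,1,5],[0,0,6,4,0,0,6,5],[7,4,4,1,1,3,3,7]], [1,1,2,3,4,5,6,7]),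
  ([13,38,17,41,22,43,0], 2, [[4,6,0,0,0,0,0,0],[2,2,0,0,0,0,0,0],[2,2,0,0,0,0,0,0],[2,5,0,0,0,0,0,0],[0,2,0,0,0,0,0,0],[2,0,0,0,0,0,0,0],[2,0,0,0,0,0,0,0],[6,1,0,0,0,0,0,0]], [[1,0,0,5,3,1,1,7],[0,1,1,3,2,1,1,1],[0,0,0,0,0,0,0,0],[0,0,0,0,0,0,0,0],[0,0,0,0,0,0,0,0],[0,0,0,0,0,0,0,0],[0,0,0,0,0,0,0,0],[0,0,0,0,0,0,0,0]], [[3,6,1,7,0,6,7,0],[7,2,2,5,0,1,2,0],[7,2,4,4,4,3,3,3],[5,5,2,2,6,7,7,4],[6,2,6,7,0,6,4,0],[1,0,3,6,0,2,5,0],[1,0,5,5,4,4,4,5],[0,1,1,1,1,1,1,1]], [[2,0,0,1,6,2,2,5],[6,1,1,0,3,7,7,5],[4,5,1,7,4,7,2,3],[3,1,3,2,5,4,6,5],[0,0,2,4,0,0,7,6],[4,2,6,7,7,5,1,5],[5,7,1,2,5,1,3,4],[0,0,6,4,0,0,6,5]], [1,1,2,3,4,5,6,7]),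
  ([14,2,20,5,27,9,0], 0, [[0,0,0,0,0,0,0,0],[0,0,0,0,0,0,0,0],[0,0,0,0,0,0,0,0],[0,0,0,0,0,0,0,0],[0,0,0,0,0,0,0,0],[0,0,0,0,0,0,0,0],[0,0,0,0,0,0,0,0],[0,0,0,0,0,0,0,0]], [[0,0,0,0,0,0,0,0],[0,0,0,0,0,0,0,0],[0,0,0,0,0,0,0,0],[0,0,0,0,0,0,0,0],[0,0,0,0,0,0,0,0],[0,0,0,0,0,0,0,0],[0,0,0,0,0,0,0,0],[0,0,0,0,0,0,0,0]], [[0,0,0,0,0,0,0,0],[0,0,0,0,0,0,0,0],[0,0,0,0,0,0,0,0],[0,0,0,0,0,0,0,0],[0,0,0,0,0,0,0,0],[0,0,0,0,0,0,0,0],[0,0,0,0,0,0,0,0],[0,0,0,0,0,0,0,0]], [[0,0,0,0,0,0,0,0],[0,0,0,0,0,0,0,0],[0,0,0,0,0,0,0,0],[0,0,0,0,0,0,0,0],[0,0,0,0,0,0,0,0],[0,0,0,0,0,0,0,0],[0,0,0,0,0,0,0,0],[0,0,0,0,0,0,0,0]], []),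
  ([15,6,1,21,10,3,0], 0, [[0,0,0,0,0,0,0,0],[0,0,0,0,0,0,0,0],[0,0,0,0,0,0,0,0],[0,0,0,0,0,0,0,0],[0,0,0,0,0,0,0,0],[0,0,0,0,0,0,0,0],[0,0,0,0,0,0,0,0],[0,0,0,0,0,0,0,0]], [[0,0,0,0,0,0,0,0],[0,0,0,0,0,0,0,0],[0,0,0,0,0,0,0,0],[0,0,0,0,0,0,0,0],[0,0,0,0,0,0,0,0],[0,0,0,0,0,0,0,0],[0,0,0,0,0,0,0,0],[0,0,0,0,0,0,0,0]], [[0,0,0,0,0,0,0,0],[0,0,0,0,0,0,0,0],[0,0,0,0,0,0,0,0],[0,0,0,0,0,0,0,0],[0,0,0,0,0,0,0,0],[0,0,0,0,0,0,0,0],[0,0,0,0,0,0,0,0],[0,0,0,0,0,0,0,0]], [[0,0,0,0,0,0,0,0],[0,0,0,0,0,0,0,0],[0,0,0,0,0,0,0,0],[0,0,0,0,0,0,0,0],[0,0,0,0,0,0,0,0],[0,0,0,0,0,0,0,0],[0,0,0,0,0,0,0,0],[0,0,0,0,0,0,0,0]], []),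
  ([16,8,35,25,46,42,0], 2, [[0,0,0,0,0,0,0,0],[0,0,0,0,0,0,0,0],[2,1,0,0,0,0,0,0],[2,3,0,0,0,0,0,0],[0,0,0,0,0,0,0,0],[0,0,0,0,0,0,0,0],[0,4,0,0,0,0,0,0],[4,0,0,0,0,0,0,0]], [[0,0,1,0,0,0,7,2],[0,0,0,1,0,0,5,5],[0,0,0,0,0,0,0,0],[0,0,0,0,0,0,0,0],[0,0,0,0,0,0,0,0],[0,0,0,0,0,0,0,0],[0,0,0,0,0,0,0,0],[0,0,0,0,0,0,0,0]], [[0,0,7,1,1,7,6,2],[0,0,2,2,3,5,1,4],[7,5,3,4,3,4,3,4],[2,5,7,2,7,2,7,2],[0,0,4,6,7,7,6,1],[0,0,5,3,4,6,2,5],[1,0,4,5,4,5,4,5],[0,1,1,1,1,1,1,1]], [[0,0,0,4,0,0,2,2],[0,0,4,0,0,0,1,3],[5,7,1,2,5,1,3,4],[4,5,1,7,4,7,2,3],[1,5,5,1,2,4,4,2],[3,1,3,2,5,4,6,5],[4,2,6,7,7,5,1,5],[7,4,4,1,1,3,3,7]], [1,1,2,3,4,5,6,7]),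
  ([17,43,38,22,13,41,0], 2, [[4,6,0,0,0,0,0,0],[2,2,0,0,0,0,0,0],[2,2,0,0,0,0,0,0],[2,5,0,0,0,0,0,0],[0,2,0,0,0,0,0,0],[2,0,0,0,0,0,0,0],[2,0,0,0,0,0,0,0],[6,1,0,0,0,0,0,0]], [[1,0,0,5,3,1,1,7],[0,1,1,3,2,1,1,1],[0,0,0,0,0,0,0,0],[0,0,0,0,0,0,0,0],[0,0,0,0,0,0,0,0],[0,0,0,0,0,0,0,0],[0,0,0,0,0,0,0,0],[0,0,0,0,0,0,0,0]], [[3,6,0,1,7,0,6,7],[7,2,0,2,5,0,1,2],[7,2,3,4,4,4,3,3],[5,5,4,2,2,6,7,7],[6,2,0,6,7,0,6,4],[1,0,0,3,6,0,2,5],[1,0,5,5,5,4,4,4],[0,1,1,1,1,1,1,1]], [[2,0,0,1,6,2,2,5],[6,1,1,0,3,7,7,5],[0,0,6,4,0,0,6,5],[4,5,1,7,4,7,2,3],[3,1,3,2,5,4,6,5],[0,0,2,4,0,0,7,6],[4,2,6,7,7,5,1,5],[5,7,1,2,5,1,3,4]], [1,1,2,3,4,5,6,7]),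
  ([18,45,34,26,11,40,0], 0, [[0,0,0,0,0,0,0,0],[0,0,0,0,0,0,0,0],[0,0,0,0,0,0,0,0],[0,0,0,0,0,0,0,0],[0,0,0,0,0,0,0,0],[0,0,0,0,0,0,0,0],[0,0,0,0,0,0,0,0],[0,0,0,0,0,0,0,0]], [[0,0,0,0,0,0,0,0],[0,0,0,0,0,0,0,0],[0,0,0,0,0,0,0,0],[0,0,0,0,0,0,0,0],[0,0,0,0,0,0,0,0],[0,0,0,0,0,0,0,0],[0,0,0,0,0,0,0,0],[0,0,0,0,0,0,0,0]], [[0,0,0,0,0,0,0,0],[0,0,0,0,0,0,0,0],[0,0,0,0,0,0,0,0],[0,0,0,0,0,0,0,0],[0,0,0,0,0,0,0,0],[0,0,0,0,0,0,0,0],[0,0,0,0,0,0,0,0],[0,0,0,0,0,0,0,0]], [[0,0,0,0,0,0,0,0],[0,0,0,0,0,0,0,0],[0,0,0,0,0,0,0,0],[0,0,0,0,0,0,0,0],[0,0,0,0,0,0,0,0],[0,0,0,0,0,0,0,0],[0,0,0,0,0,0,0,0],[0,0,0,0,0,0,0,0]], []),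
  ([19,7,37,23,47,39,0], 0, [[0,0,0,0,0,0,0,0],[0,0,0,0,0,0,0,0],[0,0,0,0,0,0,0,0],[0,0,0,0,0,0,0,0],[0,0,0,0,0,0,0,0],[0,0,0,0,0,0,0,0],[0,0,0,0,0,0,0,0],[0,0,0,0,0,0,0,0]], [[0,0,0,0,0,0,0,0],[0,0,0,0,0,0,0,0],[0,0,0,0,0,0,0,0],[0,0,0,0,0,0,0,0],[0,0,0,0,0,0,0,0],[0,0,0,0,0,0,0,0],[0,0,0,0,0,0,0,0],[0,0,0,0,0,0,0,0]], [[0,0,0,0,0,0,0,0],[0,0,0,0,0,0,0,0],[0,0,0,0,0,0,0,0],[0,0,0,0,0,0,0,0],[0,0,0,0,0,0,0,0],[0,0,0,0,0,0,0,0],[0,0,0,0,0,0,0,0],[0,0,0,0,0,0,0,0]], [[0,0,0,0,0,0,0,0],[0,0,0,0,0,0,0,0],[0,0,0,0,0,0,0,0],[0,0,0,0,0,0,0,0],[0,0,0,0,0,0,0,0],[0,0,0,0,0,0,0,0],[0,0,0,0,0,0,0,0],[0,0,0,0,0,0,0,0]], []),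
  ([20,9,2,27,14,5,0], 0, [[0,0,0,0,0,0,0,0],[0,0,0,0,0,0,0,0],[0,0,0,0,0,0,0,0],[0,0,0,0,0,0,0,0],[0,0,0,0,0,0,0,0],[0,0,0,0,0,0,0,0],[0,0,0,0,0,0,0,0],[0,0,0,0,0,0,0,0]], [[0,0,0,0,0,0,0,0],[0,0,0,0,0,0,0,0],[0,0,0,0,0,0,0,0],[0,0,0,0,0,0,0,0],[0,0,0,0,0,0,0,0],[0,0,0,0,0,0,0,0],[0,0,0,0,0,0,0,0],[0,0,0,0,0,0,0,0]], [[0,0,0,0,0,0,0,0],[0,0,0,0,0,0,0,0],[0,0,0,0,0,0,0,0],[0,0,0,0,0,0,0,0],[0,0,0,0,0,0,0,0],[0,0,0,0,0,0,0,0],[0,0,0,0,0,0,0,0],[0,0,0,0,0,0,0,0]], [[0,0,0,0,0,0,0,0],[0,0,0,0,0,0,0,0],[0,0,0,0,0,0,0,0],[0,0,0,0,0,0,0,0],[0,0,0,0,0,0,0,0],[0,0,0,0,0,0,0,0],[0,0,0,0,0,0,0,0],[0,0,0,0,0,0,0,0]], []),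
  ([21,15,10,6,3,1,0], 0, [[0,0,0,0,0,0,0,0],[0,0,0,0,0,0,0,0],[0,0,0,0,0,0,0,0],[0,0,0,0,0,0,0,0],[0,0,0,0,0,0,0,0],[0,0,0,0,0,0,0,0],[0,0,0,0,0,0,0,0],[0,0,0,0,0,0,0,0]], [[0,0,0,0,0,0,0,0],[0,0,0,0,0,0,0,0],[0,0,0,0,0,0,0,0],[0,0,0,0,0,0,0,0],[0,0,0,0,0,0,0,0],[0,0,0,0,0,0,0,0],[0,0,0,0,0,0,0,0],[0,0,0,0,0,0,0,0]], [[0,0,0,0,0,0,0,0],[0,0,0,0,0,0,0,0],[0,0,0,0,0,0,0,0],[0,0,0,0,0,0,0,0],[0,0,0,0,0,0,0,0],[0,0,0,0,0,0,0,0],[0,0,0,0,0,0,0,0],[0,0,0,0,0,0,0,0]], [[0,0,0,0,0,0,0,0],[0,0,0,0,0,0,0,0],[0,0,0,0,0,0,0,0],[0,0,0,0,0,0,0,0],[0,0,0,0,0,0,0,0],[0,0,0,0,0,0,0,0],[0,0,0,0,0,0,0,0],[0,0,0,0,0,0,0,0]], []),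
  ([22,17,13,43,41,38,0], 2, [[4,6,0,0,0,0,0,0],[2,2,0,0,0,0,0,0],[2,2,0,0,0,0,0,0],[2,5,0,0,0,0,0,0],[0,2,0,0,0,0,0,0],[2,0,0,0,0,0,0,0],[2,0,0,0,0,0,0,0],[6,1,0,0,0,0,0,0]], [[1,0,0,5,3,1,1,7],[0,1,1,3,2,1,1,1],[0,0,0,0,0,0,0,0],[0,0,0,0,0,0,0,0],[0,0,0,0,0,0,0,0],[0,0,0,0,0,0,0,0],[0,0,0,0,0,0,0,0],[0,0,0,0,0,0,0,0]], [[3,6,7,0,6,7,0,1],[7,2,5,0,1,2,0,2],[7,2,4,4,3,3,3,4],[5,5,2,6,7,7,4,2],[6,2,7,0,6,4,0,6],[1,0,6,0,2,5,0,3],[1,0,5,4,4,4,5,5],[0,1,1,1,1,1,1,1]], [[2,0,0,1,6,2,2,5],[6,1,1,0,3,7,7,5],[3,1,3,2,5,4,6,5],[0,0,2,4,0,0,7,6],[4,2,6,7,7,5,1,5],[5,7,1,2,5,1,3,4],[0,0,6,4,0,0,6,5],[4,5,1,7,4,7,2,3]], [1,1,2,3,4,5,6,7]),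
  ([23,19,47,7,39,37,0], 0, [[0,0,0,0,0,0,0,0],[0,0,0,0,0,0,0,0],[0,0,0,0,0,0,0,0],[0,0,0,0,0,0,0,0],[0,0,0,0,0,0,0,0],[0,0,0,0,0,0,0,0],[0,0,0,0,0,0,0,0],[0,0,0,0,0,0,0,0]], [[0,0,0,0,0,0,0,0],[0,0,0,0,0,0,0,0],[0,0,0,0,0,0,0,0],[0,0,0,0,0,0,0,0],[0,0,0,0,0,0,0,0],[0,0,0,0,0,0,0,0],[0,0,0,0,0,0,0,0],[0,0,0,0,0,0,0,0]], [[0,0,0,0,0,0,0,0],[0,0,0,0,0,0,0,0],[0,0,0,0,0,0,0,0],[0,0,0,0,0,0,0,0],[0,0,0,0,0,0,0,0],[0,0,0,0,0,0,0,0],[0,0,0,0,0,0,0,0],[0,0,0,0,0,0,0,0]], [[0,0,0,0,0,0,0,0],[0,0,0,0,0,0,0,0],[0,0,0,0,0,0,0,0],[0,0,0,0,0,0,0,0],[0,0,0,0,0,0,0,0],[0,0,0,0,0,0,0,0],[0,0,0,0,0,0,0,0],[0,0,0,0,0,0,0,0]], []),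
  ([24,48,12,44,4,36,0], 2, [[4,4,0,0,0,0,0,0],[5,0,0,0,0,0,0,0],[3,6,0,0,0,0,0,0],[0,1,0,0,0,0,0,0],[0,6,0,0,0,0,0,0],[6,0,0,0,0,0,0,0],[6,4,0,0,0,0,0,0],[6,6,0,0,0,0,0,0]], [[1,0,7,1,7,0,1,3],[0,1,1,1,7,4,5,0],[0,0,0,0,0,0,0,0],[0,0,0,0,0,0,0,0],[0,0,0,0,0,0,0,0],[0,0,0,0,0,0,0,0],[0,0,0,0,0,0,0,0],[0,0,0,0,0,0,0,0]], [[0,7,0,1,6,0,2,1],[7,3,0,3,1,0,4,2],[7,2,4,3,3,3,4,4],[5,5,6,7,7,4,2,2],[3,3,0,7,6,0,1,6],[3,2,0,4,2,0,5,3],[1,0,4,4,4,5,5,5],[0,1,1,1,1,1,1,1]], [[6,4,0,2,5,6,4,1],[6,6,2,0,0,5,5,1],[0,0,2,4,0,0,7,6],[1,5,5,1,2,4,4,2],[4,2,6,7,7,5,1,5],[0,0,6,4,0,0,6,5],[7,4,4,1,1,3,3,7],[4,5,1,7,4,7,2,3]], [1,1,2,3,4,5,6,7]),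
  ([25,16,46,8,42,35,0], 2, [[0,0,0,0,0,0,0,0],[0,0,0,0,0,0,0,0],[2,1,0,0,0,0,0,0],[2,3,0,0,0,0,0,0],[0,0,0,0,0,0,0,0],[0,0,0,0,0,0,0,0],[0,4,0,0,0,0,0,0],[4,0,0,0,0,0,0,0]], [[0,0,1,0,0,0,7,2],[0,0,0,1,0,0,5,5],[0,0,0,0,0,0,0,0],[0,0,0,0,0,0,0,0],[0,0,0,0,0,0,0,0],[0,0,0,0,0,0,0,0],[0,0,0,0,0,0,0,0],[0,0,0,0,0,0,0,0]], [[0,0,1,7,6,2,7,1],[0,0,3,5,1,4,2,2],[7,5,3,4,3,4,3,4],[2,5,7,2,7,2,7,2],[0,0,7,7,6,1,4,6],[0,0,4,6,2,5,5,3],[1,0,4,5,4,5,4,5],[0,1,1,1,1,1,1,1]], [[0,0,0,4,0,0,2,2],[0,0,4,0,0,0,1,3],[1,5,5,1,2,4,4,2],[3,1,3,2,5,4,6,5],[4,2,6,7,7,5,1,5],[7,4,4,1,1,3,3,7],[5,7,1,2,5,1,3,4],[4,5,1,7,4,7,2,3]], [1,1,2,3,4,5,6,7]),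
  ([26,18,11,45,40,34,0], 0, [[0,0,0,0,0,0,0,0],[0,0,0,0,0,0,0,0],[0,0,0,0,0,0,0,0],[0,0,0,0,0,0,0,0],[0,0,0,0,0,0,0,0],[0,0,0,0,0,0,0,0],[0,0,0,0,0,0,0,0],[0,0,0,0,0,0,0,0]], [[0,0,0,0,0,0,0,0],[0,0,0,0,0,0,0,0],[0,0,0,0,0,0,0,0],[0,0,0,0,0,0,0,0],[0,0,0,0,0,0,0,0],[0,0,0,0,0,0,0,0],[0,0,0,0,0,0,0,0],[0,0,0,0,0,0,0,0]], [[0,0,0,0,0,0,0,0],[0,0,0,0,0,0,0,0],[0,0,0,0,0,0,0,0],[0,0,0,0,0,0,0,0],[0,0,0,0,0,0,0,0],[0,0,0,0,0,0,0,0],[0,0,0,0,0,0,0,0],[0,0,0,0,0,0,0,0]], [[0,0,0,0,0,0,0,0],[0,0,0,0,0,0,0,0],[0,0,0,0,0,0,0,0],[0,0,0,0,0,0,0,0],[0,0,0,0,0,0,0,0],[0,0,0,0,0,0,0,0],[0,0,0,0,0,0,0,0],[0,0,0,0,0,0,0,0]], []),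
  ([27,20,14,9,5,2,0], 0, [[0,0,0,0,0,0,0,0],[0,0,0,0,0,0,0,0],[0,0,0,0,0,0,0,0],[0,0,0,0,0,0,0,0],[0,0,0,0,0,0,0,0],[0,0,0,0,0,0,0,0],[0,0,0,0,0,0,0,0],[0,0,0,0,0,0,0,0]], [[0,0,0,0,0,0,0,0],[0,0,0,0,0,0,0,0],[0,0,0,0,0,0,0,0],[0,0,0,0,0,0,0,0],[0,0,0,0,0,0,0,0],[0,0,0,0,0,0,0,0],[0,0,0,0,0,0,0,0],[0,0,0,0,0,0,0,0]], [[0,0,0,0,0,0,0,0],[0,0,0,0,0,0,0,0],[0,0,0,0,0,0,0,0],[0,0,0,0,0,0,0,0],[0,0,0,0,0,0,0,0],[0,0,0,0,0,0,0,0],[0,0,0,0,0,0,0,0],[0,0,0,0,0,0,0,0]], [[0,0,0,0,0,0,0,0],[0,0,0,0,0,0,0,0],[0,0,0,0,0,0,0,0],[0,0,0,0,0,0,0,0],[0,0,0,0,0,0,0,0],[0,0,0,0,0,0,0,0],[0,0,0,0,0,0,0,0],[0,0,0,0,0,0,0,0]], []),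
  ([28,29,30,31,32,33,0], 2, [[1,2,0,0,0,0,0,0],[7,3,0,0,0,0,0,0],[1,4,0,0,0,0,0,0],[2,4,0,0,0,0,0,0],[0,4,0,0,0,0,0,0],[4,0,0,0,0,0,0,0],[4,4,0,0,0,0,0,0],[0,7,0,0,0,0,0,0]], [[1,0,1,3,5,2,1,1],[0,1,1,0,7,3,7,5],[0,0,0,0,0,0,0,0],[0,0,0,0,0,0,0,0],[0,0,0,0,0,0,0,0],[0,0,0,0,0,0,0,0],[0,0,0,0,0,0,0,0],[0,0,0,0,0,0,0,0]], [[7,7,0,7,2,0,7,1],[3,6,0,5,4,0,2,3],[7,2,3,4,4,4,3,3],[5,5,4,2,2,6,7,7],[0,6,0,7,1,0,4,7],[1,6,0,6,5,0,5,4],[1,0,5,5,5,4,4,4],[0,1,1,1,1,1,1,1]], [[4,4,0,7,3,4,5,6],[0,7,7,0,3,2,3,6],[0,0,6,4,0,0,6,5],[3,1,3,2,5,4,6,5],[7,4,4,1,1,3,3,7],[0,0,2,4,0,0,7,6],[5,7,1,2,5,1,3,4],[1,5,5,1,2,4,4,2]], [1,1,2,3,4,5,6,7]),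
  ([29,31,33,28,30,32,0], 2, [[1,2,0,0,0,0,0,0],[7,3,0,0,0,0,0,0],[1,4,0,0,0,0,0,0],[2,4,0,0,0,0,0,0],[0,4,0,0,0,0,0,0],[4,0,0,0,0,0,0,0],[4,4,0,0,0,0,0,0],[0,7,0,0,0,0,0,0]], [[1,0,1,3,5,2,1,1],[0,1,1,0,7,3,7,5],[0,0,0,0,0,0,0,0],[0,0,0,0,0,0,0,0],[0,0,0,0,0,0,0,0],[0,0,0,0,0,0,0,0],[0,0,0,0,0,0,0,0],[0,0,0,0,0,0,0,0]], [[7,7,7,1,0,7,2,0],[3,6,2,3,0,5,4,0],[7,2,3,3,3,4,4,4],[5,5,7,7,4,2,2,6],[0,6,4,7,0,7,1,0],[1,6,5,4,0,6,5,0],[1,0,4,4,5,5,5,4],[0,1,1,1,1,1,1,1]], [[4,4,0,7,3,4,5,6],[0,7,7,0,3,2,3,6],[5,7,1,2,5,1,3,4],[1,5,5,1,2,4,4,2],[0,0,6,4,0,0,6,5],[3,1,3,2,5,4,6,5],[7,4,4,1,1,3,3,7],[0,0,2,4,0,0,7,6]], [1,1,2,3,4,5,6,7]),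
  ([30,33,29,32,28,31,0], 2, [[1,2,0,0,0,0,0,0],[7,3,0,0,0,0,0,0],[1,4,0,0,0,0,0,0],[2,4,0,0,0,0,0,0],[0,4,0,0,0,0,0,0],[4,0,0,0,0,0,0,0],[4,4,0,0,0,0,0,0],[0,7,0,0,0,0,0,0]], [[1,0,1,3,5,2,1,1],[0,1,1,0,7,3,7,5],[0,0,0,0,0,0,0,0],[0,0,0,0,0,0,0,0],[0,0,0,0,0,0,0,0],[0,0,0,0,0,0,0,0],[0,0,0,0,0,0,0,0],[0,0,0,0,0,0,0,0]], [[7,7,1,0,7,2,0,7],[3,6,3,0,5,4,0,2],[7,2,3,3,4,4,4,3],[5,5,7,4,2,2,6,7],[0,6,7,0,7,1,0,4],[1,6,4,0,6,5,0,5],[1,0,4,5,5,5,4,4],[0,1,1,1,1,1,1,1]], [[4,4,0,7,3,4,5,6],[0,7,7,0,3,2,3,6],[1,5,5,1,2,4,4,2],[0,0,6,4,0,0,6,5],[3,1,3,2,5,4,6,5],[7,4,4,1,1,3,3,7],[0,0,2,4,0,0,7,6],[5,7,1,2,5,1,3,4]], [1,1,2,3,4,5,6,7]),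
  ([31,28,32,29,33,30,0], 2, [[1,2,0,0,0,0,0,0],[7,3,0,0,0,0,0,0],[1,4,0,0,0,0,0,0],[2,4,0,0,0,0,0,0],[0,4,0,0,0,0,0,0],[4,0,0,0,0,0,0,0],[4,4,0,0,0,0,0,0],[0,7,0,0,0,0,0,0]], [[1,0,1,3,5,2,1,1],[0,1,1,0,7,3,7,5],[0,0,0,0,0,0,0,0],[0,0,0,0,0,0,0,0],[0,0,0,0,0,0,0,0],[0,0,0,0,0,0,0,0],[0,0,0,0,0,0,0,0],[0,0,0,0,0,0,0,0]], [[7,7,2,0,7,1,0,7],[3,6,4,0,2,3,0,5],[7,2,4,4,3,3,3,4],[5,5,2,6,7,7,4,2],[0,6,1,0,4,7,0,7],[1,6,5,0,5,4,0,6],[1,0,5,4,4,4,5,5],[0,1,1,1,1,1,1,1]], [[4,4,0,7,3,4,5,6],[0,7,7,0,3,2,3,6],[7,4,4,1,1,3,3,7],[0,0,2,4,0,0,7,6],[5,7,1,2,5,1,3,4],[1,5,5,1,2,4,4,2],[0,0,6,4,0,0,6,5],[3,1,3,2,5,4,6,5]], [1,1,2,3,4,5,6,7]),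
  ([32,30,28,33,31,29,0], 2, [[1,2,0,0,0,0,0,0],[7,3,0,0,0,0,0,0],[1,4,0,0,0,0,0,0],[2,4,0,0,0,0,0,0],[0,4,0,0,0,0,0,0],[4,0,0,0,0,0,0,0],[4,4,0,0,0,0,0,0],[0,7,0,0,0,0,0,0]], [[1,0,1,3,5,2,1,1],[0,1,1,0,7,3,7,5],[0,0,0,0,0,0,0,0],[0,0,0,0,0,0,0,0],[0,0,0,0,0,0,0,0],[0,0,0,0,0,0,0,0],[0,0,0,0,0,0,0,0],[0,0,0,0,0,0,0,0]], [[7,7,7,2,0,7,1,0],[3,6,5,4,0,2,3,0],[7,2,4,4,4,3,3,3],[5,5,2,2,6,7,7,4],[0,6,7,1,0,4,7,0],[1,6,6,5,0,5,4,0],[1,0,5,5,4,4,4,5],[0,1,1,1,1,1,1,1]], [[4,4,0,7,3,4,5,6],[0,7,7,0,3,2,3,6],[3,1,3,2,5,4,6,5],[7,4,4,1,1,3,3,7],[0,0,2,4,0,0,7,6],[5,7,1,2,5,1,3,4],[1,5,5,1,2,4,4,2],[0,0,6,4,0,0,6,5]], [1,1,2,3,4,5,6,7]),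
  ([33,32,31,30,29,28,0], 2, [[1,2,0,0,0,0,0,0],[7,3,0,0,0,0,0,0],[1,4,0,0,0,0,0,0],[2,4,0,0,0,0,0,0],[0,4,0,0,0,0,0,0],[4,0,0,0,0,0,0,0],[4,4,0,0,0,0,0,0],[0,7,0,0,0,0,0,0]], [[1,0,1,3,5,2,1,1],[0,1,1,0,7,3,7,5],[0,0,0,0,0,0,0,0],[0,0,0,0,0,0,0,0],[0,0,0,0,0,0,0,0],[0,0,0,0,0,0,0,0],[0,0,0,0,0,0,0,0],[0,0,0,0,0,0,0,0]], [[7,7,0,7,1,0,7,2],[3,6,0,2,3,0,5,4],[7,2,4,3,3,3,4,4],[5,5,6,7,7,4,2,2],[0,6,0,4,7,0,7,1],[1,6,0,5,4,0,6,5],[1,0,4,4,4,5,5,5],[0,1,1,1,1,1,1,1]], [[4,4,0,7,3,4,5,6],[0,7,7,0,3,2,3,6],[0,0,2,4,0,0,7,6],[5,7,1,2,5,1,3,4],[1,5,5,1,2,4,4,2],[0,0,6,4,0,0,6,5],[3,1,3,2,5,4,6,5],[7,4,4,1,1,3,3,7]], [1,1,2,3,4,5,6,7]),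
  ([34,40,45,11,18,26,0], 0, [[0,0,0,0,0,0,0,0],[0,0,0,0,0,0,0,0],[0,0,0,0,0,0,0,0],[0,0,0,0,0,0,0,0],[0,0,0,0,0,0,0,0],[0,0,0,0,0,0,0,0],[0,0,0,0,0,0,0,0],[0,0,0,0,0,0,0,0]], [[0,0,0,0,0,0,0,0],[0,0,0,0,0,0,0,0],[0,0,0,0,0,0,0,0],[0,0,0,0,0,0,0,0],[0,0,0,0,0,0,0,0],[0,0,0,0,0,0,0,0],[0,0,0,0,0,0,0,0],[0,0,0,0,0,0,0,0]], [[0,0,0,0,0,0,0,0],[0,0,0,0,0,0,0,0],[0,0,0,0,0,0,0,0],[0,0,0,0,0,0,0,0],[0,0,0,0,0,0,0,0],[0,0,0,0,0,0,0,0],[0,0,0,0,0,0,0,0],[0,0,0,0,0,0,0,0]], [[0,0,0,0,0,0,0,0],[0,0,0,0,0,0,0,0],[0,0,0,0,0,0,0,0],[0,0,0,0,0,0,0,0],[0,0,0,0,0,0,0,0],[0,0,0,0,0,0,0,0],[0,0,0,0,0,0,0,0],[0,0,0,0,0,0,0,0]], []),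
  ([35,42,8,46,16,25,0], 2, [[0,0,0,0,0,0,0,0],[0,0,0,0,0,0,0,0],[2,1,0,0,0,0,0,0],[2,3,0,0,0,0,0,0],[0,0,0,0,0,0,0,0],[0,0,0,0,0,0,0,0],[0,4,0,0,0,0,0,0],[4,0,0,0,0,0,0,0]], [[0,0,1,0,0,0,7,2],[0,0,0,1,0,0,5,5],[0,0,0,0,0,0,0,0],[0,0,0,0,0,0,0,0],[0,0,0,0,0,0,0,0],[0,0,0,0,0,0,0,0],[0,0,0,0,0,0,0,0],[0,0,0,0,0,0,0,0]], [[0,0,2,7,1,1,7,6],[0,0,4,2,2,3,5,1],[7,5,4,3,4,3,4,3],[2,5,2,7,2,7,2,7],[0,0,1,4,6,7,7,6],[0,0,5,5,3,4,6,2],[1,0,5,4,5,4,5,4],[0,1,1,1,1,1,1,1]], [[0,0,0,4,0,0,2,2],[0,0,4,0,0,0,1,3],[7,4,4,1,1,3,3,7],[5,7,1,2,5,1,3,4],[4,5,1,7,4,7,2,3],[1,5,5,1,2,4,4,2],[3,1,3,2,5,4,6,5],[4,2,6,7,7,5,1,5]], [1,1,2,3,4,5,6,7]),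
  ([36,4,44,12,48,24,0], 2, [[4,4,0,0,0,0,0,0],[5,0,0,0,0,0,0,0],[3,6,0,0,0,0,0,0],[0,1,0,0,0,0,0,0],[0,6,0,0,0,0,0,0],[6,0,0,0,0,0,0,0],[6,4,0,0,0,0,0,0],[6,6,0,0,0,0,0,0]], [[1,0,7,1,7,0,1,3],[0,1,1,1,7,4,5,0],[0,0,0,0,0,0,0,0],[0,0,0,0,0,0,0,0],[0,0,0,0,0,0,0,0],[0,0,0,0,0,0,0,0],[0,0,0,0,0,0,0,0],[0,0,0,0,0,0,0,0]], [[0,7,0,2,1,0,1,6],[7,3,0,4,2,0,3,1],[7,2,3,4,4,4,3,3],[5,5,4,2,2,6,7,7],[3,3,0,1,6,0,7,6],[3,2,0,5,3,0,4,2],[1,0,5,5,5,4,4,4],[0,1,1,1,1,1,1,1]], [[6,4,0,2,5,6,4,1],[6,6,2,0,0,5,5,1],[0,0,6,4,0,0,6,5],[7,4,4,1,1,3,3,7],[4,5,1,7,4,7,2,3],[0,0,2,4,0,0,7,6],[1,5,5,1,2,4,4,2],[4,2,6,7,7,5,1,5]], [1,1,2,3,4,5,6,7]),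
  ([37,39,7,47,19,23,0], 0, [[0,0,0,0,0,0,0,0],[0,0,0,0,0,0,0,0],[0,0,0,0,0,0,0,0],[0,0,0,0,0,0,0,0],[0,0,0,0,0,0,0,0],[0,0,0,0,0,0,0,0],[0,0,0,0,0,0,0,0],[0,0,0,0,0,0,0,0]], [[0,0,0,0,0,0,0,0],[0,0,0,0,0,0,0,0],[0,0,0,0,0,0,0,0],[0,0,0,0,0,0,0,0],[0,0,0,0,0,0,0,0],[0,0,0,0,0,0,0,0],[0,0,0,0,0,0,0,0],[0,0,0,0,0,0,0,0]], [[0,0,0,0,0,0,0,0],[0,0,0,0,0,0,0,0],[0,0,0,0,0,0,0,0],[0,0,0,0,0,0,0,0],[0,0,0,0,0,0,0,0],[0,0,0,0,0,0,0,0],[0,0,0,0,0,0,0,0],[0,0,0,0,0,0,0,0]], [[0,0,0,0,0,0,0,0],[0,0,0,0,0,0,0,0],[0,0,0,0,0,0,0,0],[0,0,0,0,0,0,0,0],[0,0,0,0,0,0,0,0],[0,0,0,0,0,0,0,0],[0,0,0,0,0,0,0,0],[0,0,0,0,0,0,0,0]], []),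
  ([38,41,43,13,17,22,0], 2, [[4,6,0,0,0,0,0,0],[2,2,0,0,0,0,0,0],[2,2,0,0,0,0,0,0],[2,5,0,0,0,0,0,0],[0,2,0,0,0,0,0,0],[2,0,0,0,0,0,0,0],[2,0,0,0,0,0,0,0],[6,1,0,0,0,0,0,0]], [[1,0,0,5,3,1,1,7],[0,1,1,3,2,1,1,1],[0,0,0,0,0,0,0,0],[0,0,0,0,0,0,0,0],[0,0,0,0,0,0,0,0],[0,0,0,0,0,0,0,0],[0,0,0,0,0,0,0,0],[0,0,0,0,0,0,0,0]], [[3,6,7,0,1,7,0,6],[7,2,2,0,2,5,0,1],[7,2,3,3,4,4,4,3],[5,5,7,4,2,2,6,7],[6,2,4,0,6,7,0,6],[1,0,5,0,3,6,0,2],[1,0,4,5,5,5,4,4],[0,1,1,1,1,1,1,1]], [[2,0,0,1,6,2,2,5],[6,1,1,0,3,7,7,5],[5,7,1,2,5,1,3,4],[0,0,6,4,0,0,6,5],[4,5,1,7,4,7,2,3],[3,1,3,2,5,4,6,5],[0,0,2,4,0,0,7,6],[4,2,6,7,7,5,1,5]], [1,1,2,3,4,5,6,7]),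
  ([39,47,23,37,7,19,0], 0, [[0,0,0,0,0,0,0,0],[0,0,0,0,0,0,0,0],[0,0,0,0,0,0,0,0],[0,0,0,0,0,0,0,0],[0,0,0,0,0,0,0,0],[0,0,0,0,0,0,0,0],[0,0,0,0,0,0,0,0],[0,0,0,0,0,0,0,0]], [[0,0,0,0,0,0,0,0],[0,0,0,0,0,0,0,0],[0,0,0,0,0,0,0,0],[0,0,0,0,0,0,0,0],[0,0,0,0,0,0,0,0],[0,0,0,0,0,0,0,0],[0,0,0,0,0,0,0,0],[0,0,0,0,0,0,0,0]], [[0,0,0,0,0,0,0,0],[0,0,0,0,0,0,0,0],[0,0,0,0,0,0,0,0],[0,0,0,0,0,0,0,0],[0,0,0,0,0,0,0,0],[0,0,0,0,0,0,0,0],[0,0,0,0,0,0,0,0],[0,0,0,0,0,0,0,0]], [[0,0,0,0,0,0,0,0],[0,0,0,0,0,0,0,0],[0,0,0,0,0,0,0,0],[0,0,0,0,0,0,0,0],[0,0,0,0,0,0,0,0],[0,0,0,0,0,0,0,0],[0,0,0,0,0,0,0,0],[0,0,0,0,0,0,0,0]], []),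
  ([40,11,26,34,45,18,0], 0, [[0,0,0,0,0,0,0,0],[0,0,0,0,0,0,0,0],[0,0,0,0,0,0,0,0],[0,0,0,0,0,0,0,0],[0,0,0,0,0,0,0,0],[0,0,0,0,0,0,0,0],[0,0,0,0,0,0,0,0],[0,0,0,0,0,0,0,0]], [[0,0,0,0,0,0,0,0],[0,0,0,0,0,0,0,0],[0,0,0,0,0,0,0,0],[0,0,0,0,0,0,0,0],[0,0,0,0,0,0,0,0],[0,0,0,0,0,0,0,0],[0,0,0,0,0,0,0,0],[0,0,0,0,0,0,0,0]], [[0,0,0,0,0,0,0,0],[0,0,0,0,0,0,0,0],[0,0,0,0,0,0,0,0],[0,0,0,0,0,0,0,0],[0,0,0,0,0,0,0,0],[0,0,0,0,0,0,0,0],[0,0,0,0,0,0,0,0],[0,0,0,0,0,0,0,0]], [[0,0,0,0,0,0,0,0],[0,0,0,0,0,0,0,0],[0,0,0,0,0,0,0,0],[0,0,0,0,0,0,0,0],[0,0,0,0,0,0,0,0],[0,0,0,0,0,0,0,0],[0,0,0,0,0,0,0,0],[0,0,0,0,0,0,0,0]], []),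
  ([41,13,22,38,43,17,0], 2, [[4,6,0,0,0,0,0,0],[2,2,0,0,0,0,0,0],[2,2,0,0,0,0,0,0],[2,5,0,0,0,0,0,0],[0,2,0,0,0,0,0,0],[2,0,0,0,0,0,0,0],[2,0,0,0,0,0,0,0],[6,1,0,0,0,0,0,0]], [[1,0,0,5,3,1,1,7],[0,1,1,3,2,1,1,1],[0,0,0,0,0,0,0,0],[0,0,0,0,0,0,0,0],[0,0,0,0,0,0,0,0],[0,0,0,0,0,0,0,0],[0,0,0,0,0,0,0,0],[0,0,0,0,0,0,0,0]], [[3,6,0,6,7,0,1,7],[7,2,0,1,2,0,2,5],[7,2,4,3,3,3,4,4],[5,5,6,7,7,4,2,2],[6,2,0,6,4,0,6,7],[1,0,0,2,5,0,3,6],[1,0,4,4,4,5,5,5],[0,1,1,1,1,1,1,1]], [[2,0,0,1,6,2,2,5],[6,1,1,0,3,7,7,5],[0,0,2,4,0,0,7,6],[4,2,6,7,7,5,1,5],[5,7,1,2,5,1,3,4],[0,0,6,4,0,0,6,5],[4,5,1,7,4,7,2,3],[3,1,3,2,5,4,6,5]], [1,1,2,3,4,5,6,7]),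
  ([42,46,25,35,8,16,0], 2, [[0,0,0,0,0,0,0,0],[0,0,0,0,0,0,0,0],[2,1,0,0,0,0,0,0],[2,3,0,0,0,0,0,0],[0,0,0,0,0,0,0,0],[0,0,0,0,0,0,0,0],[0,4,0,0,0,0,0,0],[4,0,0,0,0,0,0,0]], [[0,0,1,0,0,0,7,2],[0,0,0,1,0,0,5,5],[0,0,0,0,0,0,0,0],[0,0,0,0,0,0,0,0],[0,0,0,0,0,0,0,0],[0,0,0,0,0,0,0,0],[0,0,0,0,0,0,0,0],[0,0,0,0,0,0,0,0]], [[0,0,7,6,2,7,1,1],[0,0,5,1,4,2,2,3],[7,5,4,3,4,3,4,3],[2,5,2,7,2,7,2,7],[0,0,7,6,1,4,6,7],[0,0,6,2,5,5,3,4],[1,0,5,4,5,4,5,4],[0,1,1,1,1,1,1,1]], [[0,0,0,4,0,0,2,2],[0,0,4,0,0,0,1,3],[3,1,3,2,5,4,6,5],[4,2,6,7,7,5,1,5],[7,4,4,1,1,3,3,7],[5,7,1,2,5,1,3,4],[4,5,1,7,4,7,2,3],[1,5,5,1,2,4,4,2]], [1,1,2,3,4,5,6,7]),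
  ([43,22,41,17,38,13,0], 2, [[4,6,0,0,0,0,0,0],[2,2,0,0,0,0,0,0],[2,2,0,0,0,0,0,0],[2,5,0,0,0,0,0,0],[0,2,0,0,0,0,0,0],[2,0,0,0,0,0,0,0],[2,0,0,0,0,0,0,0],[6,1,0,0,0,0,0,0]], [[1,0,0,5,3,1,1,7],[0,1,1,3,2,1,1,1],[0,0,0,0,0,0,0,0],[0,0,0,0,0,0,0,0],[0,0,0,0,0,0,0,0],[0,0,0,0,0,0,0,0],[0,0,0,0,0,0,0,0],[0,0,0,0,0,0,0,0]], [[3,6,6,7,0,1,7,0],[7,2,1,2,0,2,5,0],[7,2,3,3,3,4,4,4],[5,5,7,7,4,2,2,6],[6,2,6,4,0,6,7,0],[1,0,2,5,0,3,6,0],[1,0,4,4,5,5,5,4],[0,1,1,1,1,1,1,1]], [[2,0,0,1,6,2,2,5],[6,1,1,0,3,7,7,5],[4,2,6,7,7,5,1,5],[5,7,1,2,5,1,3,4],[0,0,6,4,0,0,6,5],[4,5,1,7,4,7,2,3],[3,1,3,2,5,4,6,5],[0,0,2,4,0,0,7,6]], [1,1,2,3,4,5,6,7]),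
  ([44,24,4,48,36,12,0], 2, [[4,4,0,0,0,0,0,0],[5,0,0,0,0,0,0,0],[3,6,0,0,0,0,0,0],[0,1,0,0,0,0,0,0],[0,6,0,0,0,0,0,0],[6,0,0,0,0,0,0,0],[6,4,0,0,0,0,0,0],[6,6,0,0,0,0,0,0]], [[1,0,7,1,7,0,1,3],[0,1,1,1,7,4,5,0],[0,0,0,0,0,0,0,0],[0,0,0,0,0,0,0,0],[0,0,0,0,0,0,0,0],[0,0,0,0,0,0,0,0],[0,0,0,0,0,0,0,0],[0,0,0,0,0,0,0,0]], [[0,7,6,0,2,1,0,1],[7,3,1,0,4,2,0,3],[7,2,3,3,4,4,4,3],[5,5,7,4,2,2,6,7],[3,3,6,0,1,6,0,7],[3,2,2,0,5,3,0,4],[1,0,4,5,5,5,4,4],[0,1,1,1,1,1,1,1]], [[6,4,0,2,5,6,4,1],[6,6,2,0,0,5,5,1],[4,2,6,7,7,5,1,5],[0,0,6,4,0,0,6,5],[7,4,4,1,1,3,3,7],[4,5,1,7,4,7,2,3],[0,0,2,4,0,0,7,6],[1,5,5,1,2,4,4,2]], [1,1,2,3,4,5,6,7]),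
  ([45,26,40,18,34,11,0], 0, [[0,0,0,0,0,0,0,0],[0,0,0,0,0,0,0,0],[0,0,0,0,0,0,0,0],[0,0,0,0,0,0,0,0],[0,0,0,0,0,0,0,0],[0,0,0,0,0,0,0,0],[0,0,0,0,0,0,0,0],[0,0,0,0,0,0,0,0]], [[0,0,0,0,0,0,0,0],[0,0,0,0,0,0,0,0],[0,0,0,0,0,0,0,0],[0,0,0,0,0,0,0,0],[0,0,0,0,0,0,0,0],[0,0,0,0,0,0,0,0],[0,0,0,0,0,0,0,0],[0,0,0,0,0,0,0,0]], [[0,0,0,0,0,0,0,0],[0,0,0,0,0,0,0,0],[0,0,0,0,0,0,0,0],[0,0,0,0,0,0,0,0],[0,0,0,0,0,0,0,0],[0,0,0,0,0,0,0,0],[0,0,0,0,0,0,0,0],[0,0,0,0,0,0,0,0]], [[0,0,0,0,0,0,0,0],[0,0,0,0,0,0,0,0],[0,0,0,0,0,0,0,0],[0,0,0,0,0,0,0,0],[0,0,0,0,0,0,0,0],[0,0,0,0,0,0,0,0],[0,0,0,0,0,0,0,0],[0,0,0,0,0,0,0,0]], []),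
  ([46,35,16,42,25,8,0], 2, [[0,0,0,0,0,0,0,0],[0,0,0,0,0,0,0,0],[2,1,0,0,0,0,0,0],[2,3,0,0,0,0,0,0],[0,0,0,0,0,0,0,0],[0,0,0,0,0,0,0,0],[0,4,0,0,0,0,0,0],[4,0,0,0,0,0,0,0]], [[0,0,1,0,0,0,7,2],[0,0,0,1,0,0,5,5],[0,0,0,0,0,0,0,0],[0,0,0,0,0,0,0,0],[0,0,0,0,0,0,0,0],[0,0,0,0,0,0,0,0],[0,0,0,0,0,0,0,0],[0,0,0,0,0,0,0,0]], [[0,0,1,1,7,6,2,7],[0,0,2,3,5,1,4,2],[7,5,4,3,4,3,4,3],[2,5,2,7,2,7,2,7],[0,0,6,7,7,6,1,4],[0,0,3,4,6,2,5,5],[1,0,5,4,5,4,5,4],[0,1,1,1,1,1,1,1]], [[0,0,0,4,0,0,2,2],[0,0,4,0,0,0,1,3],[4,5,1,7,4,7,2,3],[1,5,5,1,2,4,4,2],[3,1,3,2,5,4,6,5],[4,2,6,7,7,5,1,5],[7,4,4,1,1,3,3,7],[5,7,1,2,5,1,3,4]], [1,1,2,3,4,5,6,7]),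
  ([47,37,19,39,23,7,0], 0, [[0,0,0,0,0,0,0,0],[0,0,0,0,0,0,0,0],[0,0,0,0,0,0,0,0],[0,0,0,0,0,0,0,0],[0,0,0,0,0,0,0,0],[0,0,0,0,0,0,0,0],[0,0,0,0,0,0,0,0],[0,0,0,0,0,0,0,0]], [[0,0,0,0,0,0,0,0],[0,0,0,0,0,0,0,0],[0,0,0,0,0,0,0,0],[0,0,0,0,0,0,0,0],[0,0,0,0,0,0,0,0],[0,0,0,0,0,0,0,0],[0,0,0,0,0,0,0,0],[0,0,0,0,0,0,0,0]], [[0,0,0,0,0,0,0,0],[0,0,0,0,0,0,0,0],[0,0,0,0,0,0,0,0],[0,0,0,0,0,0,0,0],[0,0,0,0,0,0,0,0],[0,0,0,0,0,0,0,0],[0,0,0,0,0,0,0,0],[0,0,0,0,0,0,0,0]], [[0,0,0,0,0,0,0,0],[0,0,0,0,0,0,0,0],[0,0,0,0,0,0,0,0],[0,0,0,0,0,0,0,0],[0,0,0,0,0,0,0,0],[0,0,0,0,0,0,0,0],[0,0,0,0,0,0,0,0],[0,0,0,0,0,0,0,0]], []),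
  ([48,44,36,24,12,4,0], 2, [[4,4,0,0,0,0,0,0],[5,0,0,0,0,0,0,0],[3,6,0,0,0,0,0,0],[0,1,0,0,0,0,0,0],[0,6,0,0,0,0,0,0],[6,0,0,0,0,0,0,0],[6,4,0,0,0,0,0,0],[6,6,0,0,0,0,0,0]], [[1,0,7,1,7,0,1,3],[0,1,1,1,7,4,5,0],[0,0,0,0,0,0,0,0],[0,0,0,0,0,0,0,0],[0,0,0,0,0,0,0,0],[0,0,0,0,0,0,0,0],[0,0,0,0,0,0,0,0],[0,0,0,0,0,0,0,0]], [[0,7,2,1,0,1,6,0],[7,3,4,2,0,3,1,0],[7,2,4,4,4,3,3,3],[5,5,2,2,6,7,7,4],[3,3,1,6,0,7,6,0],[3,2,5,3,0,4,2,0],[1,0,5,5,4,4,4,5],[0,1,1,1,1,1,1,1]], [[6,4,0,2,5,6,4,1],[6,6,2,0,0,5,5,1],[7,4,4,1,1,3,3,7],[4,5,1,7,4,7,2,3],[0,0,2,4,0,0,7,6],[1,5,5,1,2,4,4,2],[4,2,6,7,7,5,1,5],[0,0,6,4,0,0,6,5]], [1,1,2,3,4,5,6,7])]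

def chain13 : List (ℕ × Mat) := [(10, [[1,0,0,0,0,0,0,0],[2,1,0,0,0,0,0,0],[0,0,1,0,0,0,0,0],[0,0,4,1,0,0,0,0],[0,0,0,0,1,2,0,0],[0,0,0,0,0,1,0,0],[0,0,5,6,0,0,1,4],[0,0,6,0,0,0,0,1]]),
   (0, [[1,0,0,0,0,0,0,0],[2,1,1,0,0,0,0,0],[0,0,1,0,0,0,0,0],[0,0,4,1,0,0,0,0],[0,0,0,0,1,2,0,0],[0,0,0,0,0,1,0,0],[0,0,5,6,0,1,1,4],[0,0,6,0,0,0,0,1]]),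
   (1, [[1,0,0,0,0,0,0,0],[2,0,1,0,0,0,0,0],[0,1,1,0,0,0,0,0],[0,4,4,1,0,0,0,0],[0,0,0,0,1,2,2,0],[0,0,0,0,0,1,1,0],[0,5,5,6,0,1,0,4],[0,6,6,0,0,0,0,1]]),
   (7, [[1,6,0,0,0,0,0,0],[2,7,1,2,0,0,3,4],[0,1,1,2,0,0,3,4],[0,4,4,2,0,0,3,6],[0,0,0,0,6,2,2,0],[0,0,0,0,6,1,1,0],[0,5,5,7,6,1,2,6],[0,6,6,7,0,0,3,4]])]

def pows13 : List Mat := [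
  [[1,6,0,0,0,0,0,0],[2,7,1,2,0,0,3,4],[0,1,1,2,0,0,3,4],[0,4,4,2,0,0,3,6],[0,0,0,0,6,2,2,0],[0,0,0,0,6,1,1,0],[0,5,5,7,6,1,2,6],[0,6,6,7,0,0,3,4]],
  [[6,2,6,7,0,0,1,5],[7,7,4,0,1,3,6,5],[2,4,2,7,1,3,7,0],[3,0,5,2,1,3,1,3],[0,1,1,5,2,7,1,7],[0,5,5,7,2,7,4,6],[1,1,2,4,3,4,1,6],[7,2,0,6,1,3,3,3]],
  [[2,6,3,7,6,1,3,6],[2,3,3,4,5,7,7,7],[1,3,1,1,3,6,7,5],[3,3,2,0,1,0,4,4],[2,5,3,5,5,2,7,4],[1,2,1,0,6,7,3,4],[3,2,2,6,2,3,3,1],[3,1,2,3,6,2,5,7]],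
  [[5,7,2,2,5,5,7,2],[4,2,4,3,3,1,6,0],[7,4,3,3,7,7,4,3],[5,6,6,2,3,6,5,7],[3,3,7,4,0,4,4,4],[5,3,2,5,7,3,4,0],[7,1,7,2,7,4,3,7],[1,0,7,5,6,0,6,4]],
  [[0,0,7,3,4,3,5,2],[0,0,2,5,5,1,4,6],[4,2,3,0,5,6,3,2],[2,1,0,1,0,5,5,5],[5,5,5,0,0,0,0,0],[3,3,1,2,0,2,2,2],[5,7,5,2,0,2,2,2],[1,5,3,1,0,1,1,6]],
  [[0,0,0,0,7,5,0,0],[0,0,0,0,0,4,0,0],[0,0,2,5,0,4,4,6],[0,0,1,0,0,0,0,3],[4,0,0,0,0,0,0,0],[5,7,7,0,0,0,0,0],[0,0,7,0,0,0,0,0],[0,0,5,6,0,0,0,0]],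
  [[0,0,0,0,7,0,0,0],[0,0,0,0,5,4,4,0],[0,0,0,0,0,0,4,0],[0,0,0,0,0,0,6,3],[4,5,0,0,0,0,0,0],[0,7,0,0,0,0,0,0],[0,7,7,5,0,0,2,1],[0,0,0,6,0,0,5,0]],
  [[0,0,0,0,4,5,5,0],[0,2,2,1,3,1,6,5],[0,2,2,1,5,4,3,5],[0,2,2,6,2,6,2,5],[5,3,5,1,0,0,4,2],[5,3,7,5,0,0,2,1],[5,1,5,3,7,2,3,0],[0,2,2,1,3,5,0,1]],
  [[0,7,7,6,5,3,7,3],[4,3,4,0,5,1,7,6],[4,4,3,6,7,6,4,5],[4,0,7,4,2,0,3,7],[3,5,7,1,5,4,7,5],[3,3,1,0,7,2,4,6],[7,2,7,7,2,4,3,6],[4,5,2,5,2,3,3,2]],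
  [[5,6,2,6,6,5,3,1],[2,7,3,2,1,7,6,0],[7,3,3,5,3,7,7,4],[4,4,1,7,6,7,5,4],[2,1,3,3,2,2,1,3],[5,2,2,1,6,3,3,3],[3,1,2,2,3,3,1,2],[5,0,6,3,7,4,1,0]],
  [[2,2,3,1,0,1,1,1],[7,7,4,3,0,3,3,3],[1,4,1,3,1,6,7,1],[7,6,6,3,5,5,0,3],[0,0,1,7,6,7,2,3],[1,5,1,2,2,7,4,0],[1,5,2,0,6,4,2,5],[5,7,4,6,7,0,7,2]],
  [[6,6,6,0,0,0,0,0],[2,1,1,0,0,0,0,0],[2,1,2,3,0,3,3,3],[0,0,6,4,0,4,4,6],[0,0,0,0,1,2,0,0],[0,0,5,6,6,7,1,4],[0,0,5,6,0,1,1,4],[0,0,7,7,0,2,2,2]],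
  [[1,0,0,0,0,0,0,0],[0,1,0,0,0,0,0,0],[0,0,1,0,0,0,0,0],[0,0,0,1,0,0,0,0],[0,0,0,0,1,0,0,0],[0,0,0,0,0,1,0,0],[0,0,0,0,0,0,1,0],[0,0,0,0,0,0,0,1]]]

def witnesses : List (List (ℕ × Mat) × List Mat) := [
  ([(7, [[1,6,0,0,0,0,0,0],[0,1,0,0,0,0,0,0],[0,0,1,2,0,0,3,4],[0,0,0,1,0,0,4,0],[0,0,0,0,1,0,0,0],[0,0,0,0,6,1,0,0],[0,0,0,0,0,0,1,0],[0,0,0,0,0,0,2,1]]),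
   (2, [[1,7,0,0,0,0,0,0],[0,1,0,0,0,0,0,0],[0,0,1,3,0,0,4,5],[0,0,0,1,0,0,5,0],[0,0,0,0,1,0,0,0],[0,0,0,0,7,1,0,0],[0,0,0,0,0,0,1,0],[0,0,0,0,0,0,3,1]])],
   [[[1,7,0,0,0,0,0,0],[0,1,0,0,0,0,0,0],[0,0,1,3,0,0,4,5],[0,0,0,1,0,0,5,0],[0,0,0,0,1,0,0,0],[0,0,0,0,7,1,0,0],[0,0,0,0,0,0,1,0],[0,0,0,0,0,0,3,1]],
   [[1,0,0,0,0,0,0,0],[0,1,0,0,0,0,0,0],[0,0,1,0,0,0,0,0],[0,0,0,1,0,0,0,0],[0,0,0,0,1,0,0,0],[0,0,0,0,0,1,0,0],[0,0,0,0,0,0,1,0],[0,0,0,0,0,0,0,1]]]),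
  ([(1, [[1,0,0,0,0,0,0,0],[0,1,0,0,0,0,0,0],[0,1,1,0,0,0,0,0],[0,0,0,1,0,0,0,0],[0,0,0,0,1,0,0,0],[0,0,0,0,0,1,1,0],[0,0,0,0,0,0,1,0],[0,0,0,0,0,0,0,1]]),
   (14, [[1,0,0,0,0,0,0,0],[6,1,0,0,0,0,0,0],[6,1,1,0,0,0,0,0],[0,0,2,1,0,0,0,0],[0,0,0,0,1,6,0,0],[0,0,3,4,0,1,1,2],[0,0,3,4,0,0,1,2],[0,0,4,0,0,0,0,1]]),
   (1, [[1,0,0,0,0,0,0,0],[6,1,0,0,0,0,0,0],[6,0,1,0,0,0,0,0],[0,2,2,1,0,0,0,0],[0,0,0,0,1,6,6,0],[0,3,3,4,0,1,0,2],[0,3,3,4,0,0,1,2],[0,4,4,0,0,0,0,1]]),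
   (15, [[1,0,0,0,0,0,0,0],[1,1,0,0,0,0,0,0],[6,0,1,0,0,0,0,0],[5,2,1,1,0,0,0,0],[0,0,5,3,1,1,6,1],[2,3,5,4,0,1,0,2],[2,3,1,1,0,0,1,1],[1,4,1,0,0,0,0,1]])],
   [[[1,0,0,0,0,0,0,0],[1,1,0,0,0,0,0,0],[6,0,1,0,0,0,0,0],[5,2,1,1,0,0,0,0],[0,0,5,3,1,1,6,1],[2,3,5,4,0,1,0,2],[2,3,1,1,0,0,1,1],[1,4,1,0,0,0,0,1]],
   [[1,0,0,0,0,0,0,0],[0,1,0,0,0,0,0,0],[0,0,1,0,0,0,0,0],[4,0,0,1,0,0,0,0],[3,0,1,2,1,0,0,4],[0,0,6,0,0,1,0,0],[1,6,0,0,0,0,1,0],[2,0,0,0,0,0,0,1]],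
   [[1,0,0,0,0,0,0,0],[1,1,0,0,0,0,0,0],[6,0,1,0,0,0,0,0],[1,2,1,1,0,0,0,0],[0,2,2,1,1,1,6,5],[0,3,3,4,0,1,0,2],[5,5,1,1,0,0,1,1],[3,4,1,0,0,0,0,1]],
   [[1,0,0,0,0,0,0,0],[0,1,0,0,0,0,0,0],[0,0,1,0,0,0,0,0],[0,0,0,1,0,0,0,0],[0,0,0,0,1,0,0,0],[0,0,0,0,0,1,0,0],[0,0,0,0,0,0,1,0],[0,0,0,0,0,0,0,1]]]),
  ([(9, [[1,0,0,0,0,0,0,0],[1,1,0,0,0,0,0,0],[0,0,1,0,0,0,0,0],[0,0,1,1,0,0,0,0],[0,0,0,0,1,1,0,0],[0,0,0,0,0,1,0,0],[0,0,1,1,0,0,1,1],[0,0,1,0,0,0,0,1]]),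
   (1, [[1,0,0,0,0,0,0,0],[1,1,0,0,0,0,0,0],[0,1,1,0,0,0,0,0],[0,1,1,1,0,0,0,0],[0,0,0,0,1,1,1,0],[0,0,0,0,0,1,1,0],[0,1,1,1,0,0,1,1],[0,1,1,0,0,0,0,1]]),
   (0, [[1,0,0,0,0,0,0,0],[1,1,1,0,0,0,0,0],[0,1,0,0,0,0,0,0],[0,1,0,1,0,0,0,0],[0,0,0,0,1,0,1,0],[0,0,0,0,0,0,1,0],[0,1,0,1,0,1,1,1],[0,1,0,0,0,0,0,1]])],
   [[[1,0,0,0,0,0,0,0],[1,1,1,0,0,0,0,0],[0,1,0,0,0,0,0,0],[0,1,0,1,0,0,0,0],[0,0,0,0,1,0,1,0],[0,0,0,0,0,0,1,0],[0,1,0,1,0,1,1,1],[0,1,0,0,0,0,0,1]],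
   [[1,0,0,0,0,0,0,0],[0,0,1,0,0,0,0,0],[1,1,1,0,0,0,0,0],[1,0,1,1,0,0,0,0],[0,1,0,1,1,1,0,1],[0,1,0,1,0,1,1,1],[1,0,1,0,0,1,0,0],[1,0,1,0,0,0,0,1]],
   [[1,0,0,0,0,0,0,0],[0,1,0,0,0,0,0,0],[0,0,1,0,0,0,0,0],[1,0,0,1,0,0,0,0],[1,1,1,1,1,0,0,1],[1,0,1,0,0,1,0,0],[1,1,0,0,0,0,1,0],[1,0,0,0,0,0,0,1]],
   [[1,0,0,0,0,0,0,0],[1,1,1,0,0,0,0,0],[0,1,0,0,0,0,0,0],[1,1,0,1,0,0,0,0],[0,0,1,1,1,0,1,1],[1,1,0,0,0,0,1,0],[0,0,1,1,0,1,1,1],[1,1,0,0,0,0,0,1]],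
   [[1,0,0,0,0,0,0,0],[0,0,1,0,0,0,0,0],[1,1,1,0,0,0,0,0],[0,0,1,1,0,0,0,0],[0,0,0,0,1,1,0,0],[0,0,1,1,0,1,1,1],[0,0,0,0,0,1,0,0],[0,0,1,0,0,0,0,1]],
   [[1,0,0,0,0,0,0,0],[0,1,0,0,0,0,0,0],[0,0,1,0,0,0,0,0],[0,0,0,1,0,0,0,0],[0,0,0,0,1,0,0,0],[0,0,0,0,0,1,0,0],[0,0,0,0,0,0,1,0],[0,0,0,0,0,0,0,1]]]),
  ([(8, [[1,7,0,0,0,0,0,0],[0,1,0,0,0,0,0,0],[0,0,1,3,0,0,4,5],[0,0,0,1,0,0,5,0],[0,0,0,0,1,0,0,0],[0,0,0,0,7,1,0,0],[0,0,0,0,0,0,1,0],[0,0,0,0,0,0,3,1]]),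
   (0, [[1,7,7,0,0,0,0,0],[0,1,1,0,0,0,0,0],[0,0,1,3,0,4,4,5],[0,0,0,1,0,5,5,0],[0,0,0,0,1,0,0,0],[0,0,0,0,7,1,0,0],[0,0,0,0,0,1,1,0],[0,0,0,0,0,3,3,1]])],
   [[[1,7,7,0,0,0,0,0],[0,1,1,0,0,0,0,0],[0,0,1,3,0,4,4,5],[0,0,0,1,0,5,5,0],[0,0,0,0,1,0,0,0],[0,0,0,0,7,1,0,0],[0,0,0,0,0,1,1,0],[0,0,0,0,0,3,3,1]],
   [[1,0,7,2,0,1,1,6],[0,1,0,3,0,4,4,5],[0,0,1,0,1,4,0,0],[0,0,0,1,6,5,0,0],[0,0,0,0,1,0,0,0],[0,0,0,0,0,1,0,0],[0,0,0,0,7,0,1,0],[0,0,0,0,2,3,0,1]],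
   [[1,7,0,0,7,1,0,0],[0,1,1,3,1,0,4,5],[0,0,1,3,0,0,4,5],[0,0,0,1,0,0,5,0],[0,0,0,0,1,0,0,0],[0,0,0,0,7,1,0,0],[0,0,0,0,7,1,1,0],[0,0,0,0,0,0,3,1]],
   [[1,0,0,0,0,1,0,0],[0,1,0,0,1,0,0,0],[0,0,1,0,0,0,0,0],[0,0,0,1,0,0,0,0],[0,0,0,0,1,0,0,0],[0,0,0,0,0,1,0,0],[0,0,0,0,0,0,1,0],[0,0,0,0,0,0,0,1]],
   [[1,7,7,0,7,1,0,0],[0,1,1,0,1,0,0,0],[0,0,1,3,0,4,4,5],[0,0,0,1,0,5,5,0],[0,0,0,0,1,0,0,0],[0,0,0,0,7,1,0,0],[0,0,0,0,0,1,1,0],[0,0,0,0,0,3,3,1]],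
   [[1,0,7,2,0,0,1,6],[0,1,0,3,1,4,4,5],[0,0,1,0,1,4,0,0],[0,0,0,1,6,5,0,0],[0,0,0,0,1,0,0,0],[0,0,0,0,0,1,0,0],[0,0,0,0,7,0,1,0],[0,0,0,0,2,3,0,1]],
   [[1,7,0,0,0,0,0,0],[0,1,1,3,0,0,4,5],[0,0,1,3,0,0,4,5],[0,0,0,1,0,0,5,0],[0,0,0,0,1,0,0,0],[0,0,0,0,7,1,0,0],[0,0,0,0,7,1,1,0],[0,0,0,0,0,0,3,1]],
   [[1,0,0,0,0,0,0,0],[0,1,0,0,0,0,0,0],[0,0,1,0,0,0,0,0],[0,0,0,1,0,0,0,0],[0,0,0,0,1,0,0,0],[0,0,0,0,0,1,0,0],[0,0,0,0,0,0,1,0],[0,0,0,0,0,0,0,1]]]),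
  ([(0, [[1,0,0,0,0,0,0,0],[0,1,1,0,0,0,0,0],[0,0,1,0,0,0,0,0],[0,0,0,1,0,0,0,0],[0,0,0,0,1,0,0,0],[0,0,0,0,0,1,0,0],[0,0,0,0,0,1,1,0],[0,0,0,0,0,0,0,1]]),
   (9, [[1,0,0,0,0,0,0,0],[1,1,1,0,0,0,0,0],[0,0,1,0,0,0,0,0],[0,0,1,1,0,0,0,0],[0,0,0,0,1,1,0,0],[0,0,0,0,0,1,0,0],[0,0,1,1,0,1,1,1],[0,0,1,0,0,0,0,1]]),
   (2, [[1,1,0,0,0,0,0,0],[1,0,1,1,0,0,1,1],[0,0,1,1,0,0,1,1],[0,0,1,0,0,0,0,1],[0,0,0,0,0,1,0,0],[0,0,0,0,1,1,0,0],[0,0,1,0,1,1,0,0],[0,0,1,1,0,0,0,0]])],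
   [[[1,1,0,0,0,0,0,0],[1,0,1,1,0,0,1,1],[0,0,1,1,0,0,1,1],[0,0,1,0,0,0,0,1],[0,0,0,0,0,1,0,0],[0,0,0,0,1,1,0,0],[0,0,1,0,1,1,0,0],[0,0,1,1,0,0,0,0]],
   [[0,1,1,1,0,0,1,1],[1,1,0,0,1,1,1,0],[0,0,0,0,1,1,1,0],[0,0,0,0,0,0,1,1],[0,0,0,0,1,1,0,0],[0,0,0,0,1,0,0,0],[0,0,1,1,1,0,1,1],[0,0,0,1,0,0,1,0]],
   [[1,0,1,1,1,1,0,1],[0,1,0,1,0,1,1,1],[0,0,1,0,0,1,0,0],[0,0,0,1,1,1,0,0],[0,0,0,0,1,0,0,0],[0,0,0,0,0,1,0,0],[0,0,0,0,1,0,1,0],[0,0,0,0,1,1,0,1]],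
   [[1,1,1,0,1,0,1,0],[1,0,0,0,0,0,1,0],[0,0,1,1,1,1,1,1],[0,0,1,0,1,0,0,1],[0,0,0,0,0,1,0,0],[0,0,0,0,1,1,0,0],[0,0,1,0,1,0,0,0],[0,0,1,1,1,0,0,0]],
   [[0,1,1,0,1,0,0,0],[1,1,1,0,1,1,0,0],[0,0,0,0,0,1,1,0],[0,0,0,0,0,1,1,1],[0,0,0,0,1,1,0,0],[0,0,0,0,1,0,0,0],[0,0,1,1,0,1,1,1],[0,0,0,1,0,1,1,0]],
   [[1,0,0,0,0,1,0,0],[0,1,0,0,1,0,0,0],[0,0,1,0,0,0,0,0],[0,0,0,1,0,0,0,0],[0,0,0,0,1,0,0,0],[0,0,0,0,0,1,0,0],[0,0,0,0,0,0,1,0],[0,0,0,0,0,0,0,1]],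
   [[1,1,0,0,1,1,0,0],[1,0,1,1,0,1,1,1],[0,0,1,1,0,0,1,1],[0,0,1,0,0,0,0,1],[0,0,0,0,0,1,0,0],[0,0,0,0,1,1,0,0],[0,0,1,0,1,1,0,0],[0,0,1,1,0,0,0,0]],
   [[0,1,1,1,1,0,1,1],[1,1,0,0,0,0,1,0],[0,0,0,0,1,1,1,0],[0,0,0,0,0,0,1,1],[0,0,0,0,1,1,0,0],[0,0,0,0,1,0,0,0],[0,0,1,1,1,0,1,1],[0,0,0,1,0,0,1,0]],
   [[1,0,1,1,1,0,0,1],[0,1,0,1,1,1,1,1],[0,0,1,0,0,1,0,0],[0,0,0,1,1,1,0,0],[0,0,0,0,1,0,0,0],[0,0,0,0,0,1,0,0],[0,0,0,0,1,0,1,0],[0,0,0,0,1,1,0,1]],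
   [[1,1,1,0,0,1,1,0],[1,0,0,0,0,1,1,0],[0,0,1,1,1,1,1,1],[0,0,1,0,1,0,0,1],[0,0,0,0,0,1,0,0],[0,0,0,0,1,1,0,0],[0,0,1,0,1,0,0,0],[0,0,1,1,1,0,0,0]],
   [[0,1,1,0,0,0,0,0],[1,1,1,0,0,0,0,0],[0,0,0,0,0,1,1,0],[0,0,0,0,0,1,1,1],[0,0,0,0,1,1,0,0],[0,0,0,0,1,0,0,0],[0,0,1,1,0,1,1,1],[0,0,0,1,0,1,1,0]],
   [[1,0,0,0,0,0,0,0],[0,1,0,0,0,0,0,0],[0,0,1,0,0,0,0,0],[0,0,0,1,0,0,0,0],[0,0,0,0,1,0,0,0],[0,0,0,0,0,1,0,0],[0,0,0,0,0,0,1,0],[0,0,0,0,0,0,0,1]]]),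
  ([(8, [[1,7,0,0,0,0,0,0],[0,1,0,0,0,0,0,0],[0,0,1,3,0,0,4,5],[0,0,0,1,0,0,5,0],[0,0,0,0,1,0,0,0],[0,0,0,0,7,1,0,0],[0,0,0,0,0,0,1,0],[0,0,0,0,0,0,3,1]]),
   (9, [[6,7,0,0,0,0,0,0],[1,1,0,0,0,0,0,0],[0,0,3,7,0,0,4,1],[0,0,4,4,0,0,5,5],[0,0,0,0,1,1,0,0],[0,0,0,0,7,6,0,0],[0,0,1,1,0,0,1,1],[0,0,2,3,0,0,3,2]]),
   (1, [[6,7,0,0,0,0,0,0],[1,1,0,0,0,0,0,0],[0,3,3,7,0,0,4,1],[0,4,4,4,0,0,5,5],[0,0,0,0,1,1,1,0],[0,0,0,0,7,6,6,0],[0,1,1,1,0,0,1,1],[0,2,2,3,0,0,3,2]]),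
   (11, [[4,7,0,0,0,0,0,0],[2,1,0,0,0,0,0,0],[5,3,7,6,0,0,4,3],[7,4,3,2,0,0,5,2],[0,0,6,7,1,2,1,5],[0,0,2,4,7,4,6,3],[3,1,5,6,0,0,1,4],[6,2,2,1,0,0,3,6]])],
   [[[4,7,0,0,0,0,0,0],[2,1,0,0,0,0,0,0],[5,3,7,6,0,0,4,3],[7,4,3,2,0,0,5,2],[0,0,6,7,1,2,1,5],[0,0,2,4,7,4,6,3],[3,1,5,6,0,0,1,4],[6,2,2,1,0,0,3,6]],
   [[3,6,0,0,0,0,0,0],[1,4,0,0,0,0,0,0],[0,0,6,5,0,0,3,2],[0,0,7,4,0,0,5,4],[0,0,0,0,4,1,0,0],[0,0,0,0,6,3,0,0],[0,0,1,6,0,0,7,2],[0,0,5,2,0,0,4,1]],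
   [[0,4,0,0,0,0,0,0],[7,3,0,0,0,0,0,0],[7,4,0,0,0,0,7,0],[6,2,0,0,0,0,1,6],[0,0,7,5,3,7,2,1],[0,0,4,3,4,0,7,6],[4,5,4,7,0,0,6,2],[3,1,0,3,0,0,4,0]],
   [[3,4,0,0,0,0,0,0],[7,0,0,0,0,0,0,0],[0,0,6,4,0,0,7,1],[0,0,2,0,0,0,0,6],[0,0,0,0,0,7,0,0],[0,0,0,0,4,3,0,0],[0,0,4,0,0,0,0,0],[0,0,7,3,0,0,0,0]],
   [[4,6,0,0,0,0,0,0],[1,3,0,0,0,0,0,0],[6,2,7,4,0,0,3,5],[3,1,2,1,0,0,2,4],[0,0,5,1,3,1,4,2],[0,0,3,6,6,4,5,7],[2,7,1,5,0,0,6,7],[4,5,6,2,0,0,5,4]],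
   [[1,7,0,0,0,0,0,0],[2,4,0,0,0,0,0,0],[0,0,1,3,0,0,4,5],[0,0,4,6,0,0,3,2],[0,0,0,0,4,2,0,0],[0,0,0,0,7,1,0,0],[0,0,5,2,0,0,7,3],[0,0,6,1,0,0,6,2]],
   [[1,0,0,0,0,0,0,0],[0,1,0,0,0,0,0,0],[3,1,1,0,0,0,0,0],[4,5,0,1,0,0,0,0],[0,0,1,2,1,0,3,4],[0,0,6,7,0,1,1,5],[1,6,0,0,0,0,1,0],[2,7,0,0,0,0,0,1]],
   [[4,7,0,0,0,0,0,0],[2,1,0,0,0,0,0,0],[0,0,7,6,0,0,4,3],[0,0,3,2,0,0,5,2],[0,0,0,0,1,2,0,0],[0,0,0,0,7,4,0,0],[0,0,5,6,0,0,1,4],[0,0,2,1,0,0,3,6]],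
   [[3,6,0,0,0,0,0,0],[1,4,0,0,0,0,0,0],[4,5,6,5,0,0,3,2],[2,7,7,4,0,0,5,4],[0,0,2,4,4,1,6,3],[0,0,7,5,6,3,2,1],[5,3,1,6,0,0,7,2],[1,6,5,2,0,0,4,1]],
   [[0,4,0,0,0,0,0,0],[7,3,0,0,0,0,0,0],[0,0,0,0,0,0,7,0],[0,0,0,0,0,0,1,6],[0,0,0,0,3,7,0,0],[0,0,0,0,4,0,0,0],[0,0,4,7,0,0,6,2],[0,0,0,3,0,0,4,0]],
   [[3,4,0,0,0,0,0,0],[7,0,0,0,0,0,0,0],[2,7,6,4,0,0,7,1],[1,6,2,0,0,0,0,6],[0,0,4,3,0,7,7,6],[0,0,5,1,4,3,4,2],[7,4,4,0,0,0,0,0],[5,3,7,3,0,0,0,0]],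
   [[4,6,0,0,0,0,0,0],[1,3,0,0,0,0,0,0],[0,0,7,4,0,0,3,5],[0,0,2,1,0,0,2,4],[0,0,0,0,3,1,0,0],[0,0,0,0,6,4,0,0],[0,0,1,5,0,0,6,7],[0,0,6,2,0,0,5,4]],
   [[1,7,0,0,0,0,0,0],[2,4,0,0,0,0,0,0],[1,6,1,3,0,0,4,5],[5,3,4,6,0,0,3,2],[0,0,3,6,4,2,5,7],[0,0,1,2,7,1,3,4],[6,2,5,2,0,0,7,3],[7,4,6,1,0,0,6,2]],
   [[1,0,0,0,0,0,0,0],[0,1,0,0,0,0,0,0],[0,0,1,0,0,0,0,0],[0,0,0,1,0,0,0,0],[0,0,0,0,1,0,0,0],[0,0,0,0,0,1,0,0],[0,0,0,0,0,0,1,0],[0,0,0,0,0,0,0,1]]]),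
  ([(1, [[1,0,0,0,0,0,0,0],[0,1,0,0,0,0,0,0],[0,1,1,0,0,0,0,0],[0,0,0,1,0,0,0,0],[0,0,0,0,1,0,0,0],[0,0,0,0,0,1,1,0],[0,0,0,0,0,0,1,0],[0,0,0,0,0,0,0,1]]),
   (2, [[1,1,0,0,0,0,0,0],[0,1,0,0,0,0,0,0],[0,1,1,1,0,0,1,1],[0,0,0,1,0,0,1,0],[0,0,0,0,1,0,0,0],[0,0,0,0,1,1,1,0],[0,0,0,0,0,0,1,0],[0,0,0,0,0,0,1,1]]),
   (12, [[5,1,0,0,0,0,0,0],[4,1,0,0,0,0,0,0],[4,1,2,3,0,0,1,7],[0,0,1,3,0,0,1,6],[0,0,0,0,1,4,0,0],[0,0,7,2,1,5,1,6],[0,0,7,2,0,0,1,6],[0,0,5,2,0,0,1,7]])],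
   [[[5,1,0,0,0,0,0,0],[4,1,0,0,0,0,0,0],[4,1,2,3,0,0,1,7],[0,0,1,3,0,0,1,6],[0,0,0,0,1,4,0,0],[0,0,7,2,1,5,1,6],[0,0,7,2,0,0,1,6],[0,0,5,2,0,0,1,7]],
   [[3,4,0,0,0,0,0,0],[6,5,0,0,0,0,0,0],[5,7,6,4,0,0,7,1],[4,1,5,3,0,0,5,4],[0,0,1,3,5,6,4,5],[1,7,5,0,4,3,7,5],[1,7,3,1,0,0,2,6],[2,5,2,5,0,0,1,4]],
   [[2,7,0,0,0,0,0,0],[1,3,0,0,0,0,0,0],[3,4,5,1,0,0,4,2],[4,0,6,3,0,0,7,5],[4,1,3,3,3,1,5,7],[6,3,7,6,7,2,4,5],[3,5,1,5,0,0,6,7],[0,5,4,3,0,0,2,1]],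
   [[0,5,0,0,0,0,0,0],[2,2,0,0,0,0,0,0],[0,2,0,0,0,0,2,0],[7,2,0,0,0,0,7,7],[1,6,2,6,2,2,3,5],[5,2,0,5,5,0,2,5],[2,7,5,5,0,0,5,5],[4,1,0,4,0,0,4,0]],
   [[2,5,0,0,0,0,0,0],[2,0,0,0,0,0,0,0],[3,2,5,4,0,0,2,7],[5,5,5,0,0,0,0,7],[3,5,2,4,0,2,0,7],[4,7,7,1,5,2,2,2],[2,0,5,0,0,0,0,0],[6,5,5,4,0,0,0,0]],
   [[3,7,0,0,0,0,0,0],[1,2,0,0,0,0,0,0],[5,4,6,2,0,0,4,7],[7,5,7,1,0,0,2,5],[5,4,3,0,2,1,3,4],[2,4,5,5,7,3,4,0],[3,7,1,4,0,0,5,6],[3,6,5,3,0,0,1,3]],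
   [[5,4,0,0,0,0,0,0],[6,3,0,0,0,0,0,0],[4,7,2,1,0,0,7,5],[5,5,6,4,0,0,1,4],[6,2,1,2,3,6,5,4],[5,3,7,5,4,5,7,1],[1,5,3,2,0,0,6,5],[3,0,1,5,0,0,4,3]],
   [[1,1,0,0,0,0,0,0],[4,5,0,0,0,0,0,0],[0,1,1,1,0,0,1,1],[0,6,6,7,0,0,7,6],[4,5,0,0,5,4,4,0],[1,1,0,0,1,1,1,0],[0,7,7,5,0,0,2,1],[0,2,2,2,0,0,3,3]],
   [[1,0,0,0,0,0,0,0],[0,1,0,0,0,0,0,0],[0,0,1,0,0,0,0,0],[0,0,0,1,0,0,0,0],[0,1,0,0,1,0,0,0],[1,0,0,0,0,1,0,0],[0,0,0,0,0,0,1,0],[0,0,0,0,0,0,0,1]],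
   [[5,1,0,0,0,0,0,0],[4,1,0,0,0,0,0,0],[4,1,2,3,0,0,1,7],[0,0,1,3,0,0,1,6],[4,1,0,0,1,4,0,0],[5,1,7,2,1,5,1,6],[0,0,7,2,0,0,1,6],[0,0,5,2,0,0,1,7]],
   [[3,4,0,0,0,0,0,0],[6,5,0,0,0,0,0,0],[5,7,6,4,0,0,7,1],[4,1,5,3,0,0,5,4],[6,5,1,3,5,6,4,5],[2,3,5,0,4,3,7,5],[1,7,3,1,0,0,2,6],[2,5,2,5,0,0,1,4]],
   [[2,7,0,0,0,0,0,0],[1,3,0,0,0,0,0,0],[3,4,5,1,0,0,4,2],[4,0,6,3,0,0,7,5],[5,2,3,3,3,1,5,7],[4,4,7,6,7,2,4,5],[3,5,1,5,0,0,6,7],[0,5,4,3,0,0,2,1]],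
   [[0,5,0,0,0,0,0,0],[2,2,0,0,0,0,0,0],[0,2,0,0,0,0,2,0],[7,2,0,0,0,0,7,7],[3,4,2,6,2,2,3,5],[5,7,0,5,5,0,2,5],[2,7,5,5,0,0,5,5],[4,1,0,4,0,0,4,0]],
   [[2,5,0,0,0,0,0,0],[2,0,0,0,0,0,0,0],[3,2,5,4,0,0,2,7],[5,5,5,0,0,0,0,7],[1,5,2,4,0,2,0,7],[6,2,7,1,5,2,2,2],[2,0,5,0,0,0,0,0],[6,5,5,4,0,0,0,0]],
   [[3,7,0,0,0,0,0,0],[1,2,0,0,0,0,0,0],[5,4,6,2,0,0,4,7],[7,5,7,1,0,0,2,5],[4,6,3,0,2,1,3,4],[1,3,5,5,7,3,4,0],[3,7,1,4,0,0,5,6],[3,6,5,3,0,0,1,3]],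
   [[5,4,0,0,0,0,0,0],[6,3,0,0,0,0,0,0],[4,7,2,1,0,0,7,5],[5,5,6,4,0,0,1,4],[0,1,1,2,3,6,5,4],[0,7,7,5,4,5,7,1],[1,5,3,2,0,0,6,5],[3,0,1,5,0,0,4,3]],
   [[1,1,0,0,0,0,0,0],[4,5,0,0,0,0,0,0],[0,1,1,1,0,0,1,1],[0,6,6,7,0,0,7,6],[0,0,0,0,5,4,4,0],[0,0,0,0,1,1,1,0],[0,7,7,5,0,0,2,1],[0,2,2,2,0,0,3,3]],
   [[1,0,0,0,0,0,0,0],[0,1,0,0,0,0,0,0],[0,0,1,0,0,0,0,0],[0,0,0,1,0,0,0,0],[0,0,0,0,1,0,0,0],[0,0,0,0,0,1,0,0],[0,0,0,0,0,0,1,0],[0,0,0,0,0,0,0,1]]]),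
  ([(1, [[1,0,0,0,0,0,0,0],[0,1,0,0,0,0,0,0],[0,1,1,0,0,0,0,0],[0,0,0,1,0,0,0,0],[0,0,0,0,1,0,0,0],[0,0,0,0,0,1,1,0],[0,0,0,0,0,0,1,0],[0,0,0,0,0,0,0,1]]),
   (9, [[1,0,0,0,0,0,0,0],[1,1,0,0,0,0,0,0],[1,1,1,0,0,0,0,0],[0,0,1,1,0,0,0,0],[0,0,0,0,1,1,0,0],[0,0,1,1,0,1,1,1],[0,0,1,1,0,0,1,1],[0,0,1,0,0,0,0,1]]),
   (6, [[1,5,0,0,0,0,0,0],[1,4,0,0,0,0,0,0],[1,4,1,7,0,0,2,3],[0,0,1,6,0,0,1,3],[0,0,0,0,4,1,0,0],[0,0,1,6,5,1,7,2],[0,0,1,6,0,0,7,2],[0,0,1,7,0,0,5,2]])],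
   [[[1,5,0,0,0,0,0,0],[1,4,0,0,0,0,0,0],[1,4,1,7,0,0,2,3],[0,0,1,6,0,0,1,3],[0,0,0,0,4,1,0,0],[0,0,1,6,5,1,7,2],[0,0,1,6,0,0,7,2],[0,0,1,7,0,0,5,2]],
   [[4,7,0,0,0,0,0,0],[5,3,0,0,0,0,0,0],[4,7,7,6,0,0,4,3],[1,4,5,1,0,0,7,6],[0,0,1,6,3,5,7,2],[1,4,3,2,7,4,1,1],[1,4,2,4,0,0,6,3],[1,4,1,5,0,0,2,4]],
   [[3,3,0,0,0,0,0,0],[6,0,0,0,0,0,0,0],[4,2,6,6,0,0,6,6],[0,1,5,0,0,0,0,5],[1,4,7,7,0,6,0,2],[6,4,5,1,3,3,7,0],[7,0,3,0,0,0,0,0],[4,7,2,2,0,0,0,0]],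
   [[0,3,0,0,0,0,0,0],[6,3,0,0,0,0,0,0],[0,4,0,0,0,0,6,0],[4,6,0,0,0,0,6,5],[2,2,4,0,3,6,7,3],[7,7,0,5,3,0,1,4],[4,1,3,2,0,0,6,5],[1,0,0,2,0,0,6,0]],
   [[3,7,0,0,0,0,0,0],[5,4,0,0,0,0,0,0],[4,6,6,2,0,0,4,7],[2,7,3,4,0,0,3,6],[4,4,6,5,4,5,0,3],[0,7,0,4,7,3,0,5],[6,1,2,1,0,0,7,5],[1,5,4,5,0,0,6,1]],
   [[4,5,0,0,0,0,0,0],[1,1,0,0,0,0,0,0],[4,2,7,5,0,0,2,1],[6,7,2,2,0,0,3,3],[6,1,5,6,1,1,0,2],[7,1,2,2,5,4,1,0],[5,4,1,1,0,0,1,1],[0,1,6,7,0,0,7,6]],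
   [[1,0,0,0,0,0,0,0],[0,1,0,0,0,0,0,0],[1,0,1,0,0,0,0,0],[3,1,0,1,0,0,0,0],[2,5,0,7,1,0,1,3],[4,1,5,1,0,1,0,1],[0,5,0,0,0,0,1,0],[7,1,0,0,0,0,0,1]],
   [[1,5,0,0,0,0,0,0],[1,4,0,0,0,0,0,0],[0,1,1,7,0,0,2,3],[2,0,1,6,0,0,1,3],[7,3,5,0,4,1,4,6],[0,4,4,1,5,1,2,7],[5,2,1,6,0,0,7,2],[6,2,1,7,0,0,5,2]],
   [[4,7,0,0,0,0,0,0],[5,3,0,0,0,0,0,0],[0,0,7,6,0,0,4,3],[3,5,5,1,0,0,7,6],[1,3,6,1,3,5,4,2],[0,0,1,5,7,4,6,7],[6,0,2,4,0,0,6,3],[5,4,1,5,0,0,2,4]],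
   [[3,3,0,0,0,0,0,0],[6,0,0,0,0,0,0,0],[7,1,6,6,0,0,6,6],[3,4,5,0,0,0,0,5],[4,7,4,1,0,6,0,4],[1,4,1,0,3,3,4,6],[4,0,3,0,0,0,0,0],[0,5,2,2,0,0,0,0]],
   [[0,3,0,0,0,0,0,0],[6,3,0,0,0,0,0,0],[0,7,0,0,0,0,6,0],[2,0,0,0,0,0,6,5],[7,5,7,4,3,6,4,0],[4,7,0,7,3,0,2,1],[7,5,3,2,0,0,6,5],[7,1,0,2,0,0,6,0]],
   [[3,7,0,0,0,0,0,0],[5,4,0,0,0,0,0,0],[7,1,6,2,0,0,4,7],[2,1,3,4,0,0,3,6],[5,5,1,1,4,5,4,1],[3,3,4,4,7,3,7,4],[1,3,2,1,0,0,7,5],[6,2,4,5,0,0,6,1]],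
   [[4,5,0,0,0,0,0,0],[1,1,0,0,0,0,0,0],[0,7,7,5,0,0,2,1],[0,2,2,2,0,0,3,3],[1,1,0,0,1,1,1,0],[4,5,0,0,5,4,4,0],[0,1,1,1,0,0,1,1],[0,6,6,7,0,0,7,6]],
   [[1,0,0,0,0,0,0,0],[0,1,0,0,0,0,0,0],[0,0,1,0,0,0,0,0],[0,0,0,1,0,0,0,0],[0,1,0,0,1,0,0,0],[1,0,0,0,0,1,0,0],[0,0,0,0,0,0,1,0],[0,0,0,0,0,0,0,1]],
   [[1,5,0,0,0,0,0,0],[1,4,0,0,0,0,0,0],[1,4,1,7,0,0,2,3],[0,0,1,6,0,0,1,3],[1,4,0,0,4,1,0,0],[1,5,1,6,5,1,7,2],[0,0,1,6,0,0,7,2],[0,0,1,7,0,0,5,2]],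
   [[4,7,0,0,0,0,0,0],[5,3,0,0,0,0,0,0],[4,7,7,6,0,0,4,3],[1,4,5,1,0,0,7,6],[5,3,1,6,3,5,7,2],[5,3,3,2,7,4,1,1],[1,4,2,4,0,0,6,3],[1,4,1,5,0,0,2,4]],
   [[3,3,0,0,0,0,0,0],[6,0,0,0,0,0,0,0],[4,2,6,6,0,0,6,6],[0,1,5,0,0,0,0,5],[7,4,7,7,0,6,0,2],[5,7,5,1,3,3,7,0],[7,0,3,0,0,0,0,0],[4,7,2,2,0,0,0,0]],
   [[0,3,0,0,0,0,0,0],[6,3,0,0,0,0,0,0],[0,4,0,0,0,0,6,0],[4,6,0,0,0,0,6,5],[4,1,4,0,3,6,7,3],[7,4,0,5,3,0,1,4],[4,1,3,2,0,0,6,5],[1,0,0,2,0,0,6,0]],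
   [[3,7,0,0,0,0,0,0],[5,4,0,0,0,0,0,0],[4,6,6,2,0,0,4,7],[2,7,3,4,0,0,3,6],[1,0,6,5,4,5,0,3],[3,0,0,4,7,3,0,5],[6,1,2,1,0,0,7,5],[1,5,4,5,0,0,6,1]],
   [[4,5,0,0,0,0,0,0],[1,1,0,0,0,0,0,0],[4,2,7,5,0,0,2,1],[6,7,2,2,0,0,3,3],[7,0,5,6,1,1,0,2],[3,4,2,2,5,4,1,0],[5,4,1,1,0,0,1,1],[0,1,6,7,0,0,7,6]],
   [[1,0,0,0,0,0,0,0],[0,1,0,0,0,0,0,0],[1,0,1,0,0,0,0,0],[3,1,0,1,0,0,0,0],[2,4,0,7,1,0,1,3],[5,1,5,1,0,1,0,1],[0,5,0,0,0,0,1,0],[7,1,0,0,0,0,0,1]],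
   [[1,5,0,0,0,0,0,0],[1,4,0,0,0,0,0,0],[0,1,1,7,0,0,2,3],[2,0,1,6,0,0,1,3],[6,7,5,0,4,1,4,6],[1,1,4,1,5,1,2,7],[5,2,1,6,0,0,7,2],[6,2,1,7,0,0,5,2]],
   [[4,7,0,0,0,0,0,0],[5,3,0,0,0,0,0,0],[0,0,7,6,0,0,4,3],[3,5,5,1,0,0,7,6],[4,0,6,1,3,5,4,2],[4,7,1,5,7,4,6,7],[6,0,2,4,0,0,6,3],[5,4,1,5,0,0,2,4]],
   [[3,3,0,0,0,0,0,0],[6,0,0,0,0,0,0,0],[7,1,6,6,0,0,6,6],[3,4,5,0,0,0,0,5],[2,7,4,1,0,6,0,4],[2,7,1,0,3,3,4,6],[4,0,3,0,0,0,0,0],[0,5,2,2,0,0,0,0]],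
   [[0,3,0,0,0,0,0,0],[6,3,0,0,0,0,0,0],[0,7,0,0,0,0,6,0],[2,0,0,0,0,0,6,5],[1,6,7,4,3,6,4,0],[4,4,0,7,3,0,2,1],[7,5,3,2,0,0,6,5],[7,1,0,2,0,0,6,0]],
   [[3,7,0,0,0,0,0,0],[5,4,0,0,0,0,0,0],[7,1,6,2,0,0,4,7],[2,1,3,4,0,0,3,6],[0,1,1,1,4,5,4,1],[0,4,4,4,7,3,7,4],[1,3,2,1,0,0,7,5],[6,2,4,5,0,0,6,1]],
   [[4,5,0,0,0,0,0,0],[1,1,0,0,0,0,0,0],[0,7,7,5,0,0,2,1],[0,2,2,2,0,0,3,3],[0,0,0,0,1,1,1,0],[0,0,0,0,5,4,4,0],[0,1,1,1,0,0,1,1],[0,6,6,7,0,0,7,6]],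
   [[1,0,0,0,0,0,0,0],[0,1,0,0,0,0,0,0],[0,0,1,0,0,0,0,0],[0,0,0,1,0,0,0,0],[0,0,0,0,1,0,0,0],[0,0,0,0,0,1,0,0],[0,0,0,0,0,0,1,0],[0,0,0,0,0,0,0,1]]])]

end Cfsg.Agent.TrialityTwo
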