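/-
Kernel checks of the explicit data.
-/
import Cfsg.Agent.Lib.TrialityTwo.Data

set_option autoImplicit false
set_option maxHeartbeats 1000000
set_option maxRecDepth 100000

namespace Cfsg.Agent.TrialityTwo

/-- Every member of the chain is the previous one times a generator. -/
def chainOK (prev : Mat) : List (ℕ × Mat) → Bool
  | [] => true
  | (i, M) :: L => decide (i < 16) && (mulC prev (gensC.getD i []) == M) && chainOK M L

def lastM (prev : Mat) (L : List (ℕ × Mat)) : Mat := (L.getLast?.map Prod.snd).getD prev

/-- Entries are canonical. -/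
def canon (A : Mat) : Bool := mk (fun i j => ent A i j % 8) == A

def groupOK (gens : List (List (ℕ × Mat))) (els : List Mat) (par : List (ℕ × ℕ)) (nxt : List (List ℕ)) : Bool :=
  gens.all (chainOK oneC) &&
  (els.getD 0 [] == oneC) && els.all canon && decide els.Nodup &&
  (par.length + 1 == els.length) &&
  (List.range par.length).all (fun i =>
    let p := par.getD i (0, 0)
    decide (p.1 < i + 1) && decide (p.2 < gens.length) &&
      (mulC (els.getD p.1 []) (lastM oneC (gens.getD p.2 [])) == els.getD (i + 1) [])) &&
  (List.range els.length).all (fun i => (List.range gens.length).all fun k =>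
    let j := (nxt.getD i []).getD k 0
    decide (j < els.length) && (mulC (els.getD i []) (lastM oneC (gens.getD k [])) == els.getD j []))

/-- The listed powers of the element with index `i`. -/
def powOK (els : List Mat) (i : ℕ) (pw : List ℕ) : Bool :=
  (pw.getD 0 0 == i) && (pw.getD (pw.length - 1) 1 == 0) &&
  (List.range (pw.length - 1)).all fun k =>
    decide (pw.getD (k + 1) 0 < els.length) &&
      (mulC (els.getD (pw.getD k 0) []) (els.getD i []) == els.getD (pw.getD (k + 1) 0) [])

def colsZero (X : Mat) (r : ℕ) : Bool :=
  (List.range 8).all fun i => (List.range 8).all fun j => decide (j < r) || (ent X i j % 8 == 0)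

def certThreeOK (els : List Mat) (i : ℕ)
    (c : List ℕ × ℕ × Mat × Mat × Mat × Mat × (ℕ × ℕ × ℕ × ℕ)) : Bool :=
  match c with
  | (pw, r, X, Y, X', Y', w) =>
    powOK els i pw &&
    (decide (w.1 < 8) && decide (w.2.1 < 8) && decide (w.2.2.1 < 8) && decide (w.2.2.2 < 8)) &&
    minorC (addC (els.getD i []) oneC) w &&
    (((pw.length == 9) && (sumC (pw.map fun k => els.getD k []) == zeroC)) ||
      ((pw.length == 3) && decide (r ≤ 4) && colsZero X r &&
        (sumC (pw.map fun k => els.getD k []) == mulC X Y) &&
        (decide (r ≤ 3) || (colsZero X' 4 && (addC oneC (sumC (pw.map fun k => els.getD k [])) == mulC X' Y')))))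

def certSevenOK (els : List Mat) (i : ℕ) (c : List ℕ × ℕ × Mat × Mat × Mat × Mat × List ℕ) : Bool :=
  match c with
  | (pw, r, X, Y, B, Bi, d) =>
    powOK els i pw && (pw.length == 7) &&
    ((sumC (pw.map fun k => els.getD k []) == zeroC) ||
      (decide (r ≤ 2) && colsZero X r && (sumC (pw.map fun k => els.getD k []) == mulC X Y) &&
        (mulC B Bi == oneC) && (mulC Bi B == oneC) && (mulC (els.getD i []) B == mulC B (diagC d)) &&
        (d.length == 8) && (d.getD 0 0 == 1) && (d.getD 1 0 == 1) && d.all (fun x => decide (x < 8)) &&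
        decide (d.drop 2).Nodup && (d.drop 2).all fun x => !(x == 1) && !(x == 0)))

def witnessOK (n : ℕ) (c : List (ℕ × Mat) × List Mat) : Bool :=
  chainOK oneC c.1 && (c.2.length == n) && (c.2.getD 0 [] == lastM oneC c.1) &&
  (c.2.getD (n - 1) [] == oneC) &&
  (List.range (n - 1)).all (fun k => mulC (c.2.getD k []) (lastM oneC c.1) == c.2.getD (k + 1) []) &&
  (List.range (n - 1)).all (fun k => canon (c.2.getD k []) && !(c.2.getD k [] == oneC))

theorem sizes : elsThree.length = 81 ∧ elsSeven.length = 49 ∧ certThree.length = 80 ∧ certSeven.length = 48 := by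
  decide +kernel

theorem thirteen : (witnessOK 13 (chain13, pows13) && (sumC pows13 == zeroC)) = true := by decide +kernel

theorem witness_all : ((List.range 8).all fun i =>
    witnessOK ([2, 4, 6, 8, 12, 14, 18, 28].getD i 0) (witnesses.getD i ([], []))) = true := by decide +kernel

end Cfsg.Agent.TrialityTwo
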