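/-
Kernel checks for the elements of 7-power order.
-/
import Cfsg.Agent.Lib.TrialityTwo.Check

set_option autoImplicit false
set_option maxHeartbeats 1000000
set_option maxRecDepth 100000

namespace Cfsg.Agent.TrialityTwo

theorem seven_group : groupOK gensSeven elsSeven parSeven nxtSeven = true := by decide +kernel

theorem seven_cert : ((List.range 48).all fun i =>
    certSevenOK elsSeven (i + 1) (certSeven.getD i ([], 0, [], [], [], [], []))) = true := by
  decide +kernel

end Cfsg.Agent.TrialityTwo
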