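/-
Kernel checks for the elements of 3-power order.
-/
import Cfsg.Agent.Lib.TrialityTwo.Check

set_option autoImplicit false
set_option maxHeartbeats 1000000
set_option maxRecDepth 100000

namespace Cfsg.Agent.TrialityTwo

theorem three_group : groupOK gensThree elsThree parThree nxtThree = true := by decide +kernel

theorem three_cert : ((List.range 80).all fun i =>
    certThreeOK elsThree (i + 1) (certThree.getD i ([], 0, [], [], [], [], (0, 0, 0, 0)))) = true := by
  decide +kernel

end Cfsg.Agent.TrialityTwo
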