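/-
The eight-dimensional representation of D₄ in characteristic two.
-/
import Cfsg.Agent.Lib.AutPOmega.TrialityNormal
import Cfsg.Agent.Lib.TrialityTwo.Code

set_option autoImplicit false
set_option linter.unusedSectionVars false
set_option maxHeartbeats 2000000

namespace Cfsg.Agent.TrialityTwo

open Cfsg.Agent.Chev Cfsg.Agent.Chev.OrthModel Cfsg.Lie
open scoped Matrix

/-- The two off-diagonal positions of each root element. -/
def rootPos : List (Fin 8 × Fin 8 × Fin 8 × Fin 8) :=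
  [(4, 1, 5, 0), (4, 2, 6, 0), (4, 7, 3, 0), (4, 3, 7, 0), (4, 6, 2, 0), (4, 5, 1, 0), (5, 2, 6, 1), (5, 7, 3, 1),
    (5, 3, 7, 1), (5, 6, 2, 1), (6, 7, 3, 2), (6, 3, 7, 2), (2, 7, 3, 6), (2, 3, 7, 6), (1, 2, 6, 5), (1, 7, 3, 5),
    (1, 3, 7, 5), (1, 6, 2, 5), (0, 1, 5, 4), (0, 2, 6, 4), (0, 7, 3, 4), (0, 3, 7, 4), (0, 6, 2, 4), (0, 5, 1, 4)]

def pos (r : ℕ) : Fin 8 × Fin 8 × Fin 8 × Fin 8 := rootPos.getD r (0, 0, 0, 0)

variable {K : Type*} [Field K]

/-- The off-diagonal part of a root element. -/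
def rootN (r : ℕ) (t : K) : Matrix (Fin 8) (Fin 8) K :=
  Matrix.single (pos r).1 (pos r).2.1 t + Matrix.single (pos r).2.2.1 (pos r).2.2.2 t

/-- The indexing. -/
def idx8 : I8 ≃ Fin 8 := finSumFinEquiv

/-- The two entries of a root element agree with the table, in either order. -/
def tableOK (r : ℕ) : Bool :=
  let L := (T8 r).map fun e => (idx8 e.1, idx8 e.2.1, e.2.2.1, e.2.2.2.natAbs)
  (L == [((pos r).1, (pos r).2.1, 1, 1), ((pos r).2.2.1, (pos r).2.2.2, 1, 1)]) ||
    (L == [((pos r).2.2.1, (pos r).2.2.2, 1, 1), ((pos r).1, (pos r).2.1, 1, 1)])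

theorem table_all : (List.range 24).all tableOK = true ∧ Nat.beq D4.pk.nroots 24 = true := by decide +kernel

theorem table_nroots : D4.pk.nroots = 24 := Nat.eq_of_beq_eq_true table_all.2

theorem table_root {r : ℕ} (hr : r < 24) : (T8 r).map (fun e => (idx8 e.1, idx8 e.2.1, e.2.2.1, e.2.2.2.natAbs)) =
    [((pos r).1, (pos r).2.1, 1, 1), ((pos r).2.2.1, (pos r).2.2.2, 1, 1)] ∨
      (T8 r).map (fun e => (idx8 e.1, idx8 e.2.1, e.2.2.1, e.2.2.2.natAbs)) =
    [((pos r).2.2.1, (pos r).2.2.2, 1, 1), ((pos r).1, (pos r).2.1, 1, 1)] := by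
  have h := List.all_eq_true.1 table_all.1 r (List.mem_range.2 hr)
  simpa [tableOK] using h

variable [CharP K 2]

theorem cast_abs {z : ℤ} (h : z.natAbs = 1) : (z : K) = 1 := by
  rcases Int.natAbs_eq z with e | e <;> rw [e, h] <;> simp [CharTwo.neg_eq]

theorem mX_eq {r : ℕ} (hr : r < 24) (t : K) :
    Matrix.reindexAlgEquiv K K idx8 (mX L8 T8 r t) = 1 + rootN r t := by
  obtain ⟨hn, -⟩ := spec all_D4
  rw [mX, elS, evS_append, evS_one _ _ hn mem_L8, map_add, map_one]
  congr 1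
  have key : ∀ e ∈ T8 r, e.2.2.1 = 1 → e.2.2.2.natAbs = 1 →
      Matrix.reindexAlgEquiv K K idx8 (term t 0 (e.1, e.2.1, e.2.2.1 * 1, e.2.2.1 * 0, e.2.2.2 * 1 ^ e.2.2.1)) =
        Matrix.single (idx8 e.1) (idx8 e.2.1) t := by
    intro e _ h1 h2
    rw [term, h1]
    simp only [mul_one, mul_zero, pow_one, pow_zero, one_mul]
    rw [cast_abs h2, one_mul]
    ext i j
    simp [Matrix.single, Equiv.eq_symm_apply]
  rw [evS, List.map_map]
  rcases table_root hr with h | h
  all_goals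
    match hT : T8 r, h with
    | [e, f], h =>
      simp only [List.map_cons, List.map_nil, List.cons.injEq, Prod.mk.injEq, and_true] at h
      obtain ⟨⟨a1, a2, a3, a4⟩, ⟨b1, b2, b3, b4⟩⟩ := h
      simp only [List.map_cons, List.map_nil, List.sum_cons, List.sum_nil, add_zero, Function.comp, map_add]
      rw [key e (by simp [hT]) a3 a4, key f (by simp [hT]) b3 b4, a1, a2, b1, b2, rootN]
      try exact add_comm _ _
    | [], h => exact absurd h (by simp)
    | [_], h => exact absurd h (by simp)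
    | _ :: _ :: _ :: _, h => exact absurd h (by simp)

/-- Change of index as a map of groups. -/
noncomputable def toEight : GL I8 K ≃* GL (Fin 8) K :=
  Units.mapEquiv (Matrix.reindexAlgEquiv K K idx8).toMulEquiv

/-- Two root elements whose off-diagonal parts multiply to one matrix unit. -/
def unitOK (i j : Fin 8) (p p' : Fin 8 × Fin 8 × Fin 8 × Fin 8) : Bool :=
  p.1 == i && p.2.1 == p'.1 && p'.2.1 == j && p.2.2.2 != p'.1 && p.2.2.2 != p'.2.2.1 && p.2.1 != p'.2.2.1

def swapP (p : Fin 8 × Fin 8 × Fin 8 × Fin 8) : Fin 8 × Fin 8 × Fin 8 × Fin 8 :=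
  (p.2.2.1, p.2.2.2, p.1, p.2.1)

theorem unit_table : ∀ i j : Fin 8, i ≠ j → (i.val % 4 ≠ j.val % 4 →
    ((List.range 24).any fun r => (List.range 24).any fun r' =>
      unitOK i j (pos r) (pos r') || unitOK i j (swapP (pos r)) (pos r') ||
      unitOK i j (pos r) (swapP (pos r')) || unitOK i j (swapP (pos r)) (swapP (pos r'))) = true) ∧
    ∃ k : Fin 8, i.val % 4 ≠ k.val % 4 ∧ k.val % 4 ≠ j.val % 4 := by decide +kernel

omit [CharP K 2] in
theorem rootN_swap (r : ℕ) : (rootN r 1 : Matrix (Fin 8) (Fin 8) K) =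
    Matrix.single (swapP (pos r)).1 (swapP (pos r)).2.1 1 +
      Matrix.single (swapP (pos r)).2.2.1 (swapP (pos r)).2.2.2 1 := by
  rw [rootN, swapP, add_comm]

omit [CharP K 2] in
theorem unit_mul {i j : Fin 8} {p p' : Fin 8 × Fin 8 × Fin 8 × Fin 8} (h : unitOK i j p p' = true) :
    (Matrix.single p.1 p.2.1 (1 : K) + Matrix.single p.2.2.1 p.2.2.2 1) *
      (Matrix.single p'.1 p'.2.1 1 + Matrix.single p'.2.2.1 p'.2.2.2 1) = Matrix.single i j 1 := by
  simp only [unitOK, Bool.and_eq_true, beq_iff_eq, bne_iff_ne] at h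
  obtain ⟨⟨⟨⟨⟨h1, h2⟩, h3⟩, h4⟩, h5⟩, h6⟩ := h
  rw [add_mul, mul_add, mul_add, h2, Matrix.single_mul_single_same,
    Matrix.single_mul_single_of_ne _ _ _ _ (h2 ▸ h6), Matrix.single_mul_single_of_ne _ _ _ _ h4,
    Matrix.single_mul_single_of_ne _ _ _ _ h5, h1, h3, mul_one, add_zero, add_zero, add_zero]

/-- A matrix commuting with all root elements is scalar. -/
theorem scalar_of_roots {M : Matrix (Fin 8) (Fin 8) K}
    (h : ∀ r < 24, Commute (1 + rootN r 1) M) : M ∈ Set.range (Matrix.scalar (Fin 8)) := by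
  have hN : ∀ r < 24, Commute (rootN r 1) M := fun r hr => by
    have := (h r hr).sub_left (Commute.one_left M)
    rwa [add_sub_cancel_left] at this
  have hoff : ∀ i j : Fin 8, i ≠ j → i.val % 4 ≠ j.val % 4 → Commute (Matrix.single i j 1) M := by
    intro i j hij hp
    have := (unit_table i j hij).1 hp
    simp only [List.any_eq_true, List.mem_range, Bool.or_eq_true] at this
    obtain ⟨r, hr, r', hr', ((e | e) | e) | e⟩ := this <;> rw [← unit_mul (K := K) e]
    · exact (hN r hr).mul_left (hN r' hr')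
    · rw [← rootN_swap]; exact (hN r hr).mul_left (hN r' hr')
    · rw [← rootN_swap]; exact (hN r hr).mul_left (hN r' hr')
    · rw [← rootN_swap, ← rootN_swap]; exact (hN r hr).mul_left (hN r' hr')
  refine Matrix.mem_range_scalar_of_commute_single fun i j hij => ?_
  by_cases hp : i.val % 4 = j.val % 4
  · obtain ⟨k, hk1, hk2⟩ := (unit_table i j hij).2
    have e := (hoff i k (fun e => hk1 (by rw [e])) hk1).mul_left (hoff k j (fun e => hk2 (by rw [e])) hk2)
    rwa [Matrix.single_mul_single_same, mul_one] at e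
  · exact hoff i j hij hp

/-- The representation of D₄ in eight dimensions. -/
theorem exists_rep (K : Type*) [Field K] [CharP K 2] :
    ∃ ρ : ↥(chevD4.group K) →* GL (Fin 8) K, Function.Injective ρ ∧
      ∀ r < 24, ∀ t, ((ρ (Chev.Aut.xS D4.ok r t) : GL (Fin 8) K) : Matrix (Fin 8) (Fin 8) K) = 1 + rootN r t := by
  obtain ⟨e, he⟩ := AutPOmega.exists_model_iso (Cfsg.quadFormPlus 4 K) rfl
  set O := Cfsg.Omega K (Cfsg.quadFormPlus 4 K) with hO
  let j : O →* GL (Fin 8) K :=
    toEight.toMonoidHom.comp ((Cfsg.isometryGroup K (Cfsg.quadFormPlus 4 K)).subtype.comp (Subgroup.subtype _))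
  have hj : Function.Injective j := fun a b h => by
    have := toEight.injective h
    exact Subtype.ext (Subtype.ext this)
  have hroot : ∀ r < 24, ∀ t, ∃ s : O, (j s : Matrix (Fin 8) (Fin 8) K) = 1 + rootN r t ∧
      e (Chev.Aut.xS D4.ok r t) = QuotientGroup.mk s := by
    intro r hr t
    obtain ⟨s, hs, hs'⟩ := he r (table_nroots.symm ▸ hr) t
    refine ⟨s, ?_, hs'⟩
    show Matrix.reindexAlgEquiv K K idx8 _ = _
    rw [← mX_eq hr]
    exact congrArg (Matrix.reindexAlgEquiv K K idx8)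
      ((congrArg Units.val hs).trans (coe_uX all_D4 mem_L8 (table_nroots.symm ▸ hr) t))
  have hcen : Subgroup.center O = ⊥ := by
    refine (Subgroup.eq_bot_iff_forall _).2 fun y hy => ?_
    obtain ⟨c, hc⟩ := scalar_of_roots (M := (j y : Matrix (Fin 8) (Fin 8) K)) fun r hr => by
      obtain ⟨s, hs, -⟩ := hroot r hr 1
      rw [← hs]
      exact ((show Commute s y from Subgroup.mem_center_iff.1 hy s).map j).units_val
    have hy8 : (((y : Cfsg.isometryGroup K (Cfsg.quadFormPlus 4 K)) : GL I8 K) : Matrix I8 I8 K) =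
        Matrix.scalar I8 c := by
      refine (Matrix.reindexAlgEquiv K K idx8).injective (hc.symm.trans ?_)
      ext i k
      simp [Matrix.scalar_apply, Matrix.diagonal_apply]
    have hq := iso_of_mem8 y.1.2 (Pi.single (.inl 0) 1 + Pi.single (.inr 0) 1)
    rw [hy8] at hq
    simp [Cfsg.quadFormPlus, Matrix.scalar_apply, Matrix.mulVec_diagonal, Fin.sum_univ_four] at hq
    have hc1 : c = 1 := CharTwo.sq_injective (show c ^ 2 = 1 ^ 2 by rw [one_pow, sq]; exact hq)
    refine Subtype.ext (Subtype.ext (Units.ext ?_))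
    rw [hy8, hc1, map_one]
    rfl
  let q : O ≃* Cfsg.POmega K (Cfsg.quadFormPlus 4 K) :=
    QuotientGroup.quotientBot.symm.trans (QuotientGroup.quotientMulEquivOfEq hcen.symm)
  refine ⟨j.comp (e.trans q.symm).toMonoidHom, hj.comp (e.trans q.symm).injective, fun r hr t => ?_⟩
  obtain ⟨s, hs, hs'⟩ := hroot r hr t
  rw [MonoidHom.comp_apply, MulEquiv.coe_toMonoidHom, MulEquiv.trans_apply, hs',
    show q.symm (QuotientGroup.mk s) = s from (MulEquiv.symm_apply_eq q).2 rfl, hs]

end Cfsg.Agent.TrialityTwo
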