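/-
The cube of the augmentation of a positive unipotent element in eight dimensions.
-/
import Cfsg.Agent.Lib.TrialityTwo.Rep

set_option autoImplicit false
set_option linter.unusedVariables false
set_option linter.unusedSimpArgs false
set_option linter.style.longLine false
set_option maxHeartbeats 4000000

namespace Cfsg.Agent.TrialityTwo

variable {K : Type*} [Field K]

theorem mul_rootN_apply (A : Matrix (Fin 8) (Fin 8) K) (r : ℕ) (t : K) (i j : Fin 8) :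
    (A * (1 + rootN r t)) i j = A i j + ((if j = (pos r).2.1 then A i (pos r).1 * t else 0) +
      (if j = (pos r).2.2.2 then A i (pos r).2.2.1 * t else 0)) := by
  rw [rootN, mul_add, mul_add, mul_one, Matrix.add_apply, Matrix.add_apply]
  congr 2 <;> split_ifs with h <;> first
    | (subst h; exact Matrix.mul_single_apply_same _ _ _ _ _)
    | exact Matrix.mul_single_apply_of_ne _ _ _ _ _ h _

def stage1 (a : K) : Matrix (Fin 8) (Fin 8) K := Matrix.of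
  ![![1, 0, 0, 0, 0, 0, 0, 0],
    ![0, 1, a, 0, 0, 0, 0, 0],
    ![0, 0, 1, 0, 0, 0, 0, 0],
    ![0, 0, 0, 1, 0, 0, 0, 0],
    ![0, 0, 0, 0, 1, 0, 0, 0],
    ![0, 0, 0, 0, 0, 1, 0, 0],
    ![0, 0, 0, 0, 0, a, 1, 0],
    ![0, 0, 0, 0, 0, 0, 0, 1]]

theorem stage1_eq (a : K) :
    (1 : Matrix (Fin 8) (Fin 8) K) * (1 + rootN 14 a) = stage1 a := by
  ext i j
  rw [mul_rootN_apply, show pos 14 = (1, 2, 6, 5) from rfl]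
  fin_cases i <;> fin_cases j <;> simp [stage1, Matrix.one_apply] <;> ring

def stage2 (a b1 : K) : Matrix (Fin 8) (Fin 8) K := Matrix.of
  ![![1, b1, 0, 0, 0, 0, 0, 0],
    ![0, 1, a, 0, 0, 0, 0, 0],
    ![0, 0, 1, 0, 0, 0, 0, 0],
    ![0, 0, 0, 1, 0, 0, 0, 0],
    ![0, 0, 0, 0, 1, 0, 0, 0],
    ![0, 0, 0, 0, b1, 1, 0, 0],
    ![0, 0, 0, 0, a * b1, a, 1, 0],
    ![0, 0, 0, 0, 0, 0, 0, 1]]

theorem stage2_eq (a b1 : K) :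
    stage1 a * (1 + rootN 18 b1) = stage2 a b1 := by
  ext i j
  rw [mul_rootN_apply, show pos 18 = (0, 1, 5, 4) from rfl]
  fin_cases i <;> fin_cases j <;> simp [stage2, stage1] <;> ring

def stage3 (a b1 b2 : K) : Matrix (Fin 8) (Fin 8) K := Matrix.of
  ![![1, b1, 0, 0, 0, 0, 0, 0],
    ![0, 1, a, a * b2, 0, 0, 0, 0],
    ![0, 0, 1, b2, 0, 0, 0, 0],
    ![0, 0, 0, 1, 0, 0, 0, 0],
    ![0, 0, 0, 0, 1, 0, 0, 0],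
    ![0, 0, 0, 0, b1, 1, 0, 0],
    ![0, 0, 0, 0, a * b1, a, 1, 0],
    ![0, 0, 0, 0, 0, 0, b2, 1]]

theorem stage3_eq (a b1 b2 : K) :
    stage2 a b1 * (1 + rootN 13 b2) = stage3 a b1 b2 := by
  ext i j
  rw [mul_rootN_apply, show pos 13 = (2, 3, 7, 6) from rfl]
  fin_cases i <;> fin_cases j <;> simp [stage3, stage2] <;> ring

def stage4 (a b1 b2 b3 : K) : Matrix (Fin 8) (Fin 8) K := Matrix.of
  ![![1, b1, 0, 0, 0, 0, 0, 0],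
    ![0, 1, a, a * b2, 0, 0, a * b2 * b3, a * b3],
    ![0, 0, 1, b2, 0, 0, b2 * b3, b3],
    ![0, 0, 0, 1, 0, 0, b3, 0],
    ![0, 0, 0, 0, 1, 0, 0, 0],
    ![0, 0, 0, 0, b1, 1, 0, 0],
    ![0, 0, 0, 0, a * b1, a, 1, 0],
    ![0, 0, 0, 0, 0, 0, b2, 1]]

theorem stage4_eq (a b1 b2 b3 : K) :
    stage3 a b1 b2 * (1 + rootN 12 b3) = stage4 a b1 b2 b3 := by
  ext i j
  rw [mul_rootN_apply, show pos 12 = (2, 7, 3, 6) from rfl]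
  fin_cases i <;> fin_cases j <;> simp [stage4, stage3] <;> ring

def stage5 (a b1 b2 b3 c1 : K) : Matrix (Fin 8) (Fin 8) K := Matrix.of
  ![![1, b1, c1, 0, 0, 0, 0, 0],
    ![0, 1, a, a * b2, a * b2 * b3 * c1, 0, a * b2 * b3, a * b3],
    ![0, 0, 1, b2, b2 * b3 * c1, 0, b2 * b3, b3],
    ![0, 0, 0, 1, b3 * c1, 0, b3, 0],
    ![0, 0, 0, 0, 1, 0, 0, 0],
    ![0, 0, 0, 0, b1, 1, 0, 0],
    ![0, 0, 0, 0, a * b1 + c1, a, 1, 0],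
    ![0, 0, 0, 0, b2 * c1, 0, b2, 1]]

theorem stage5_eq (a b1 b2 b3 c1 : K) :
    stage4 a b1 b2 b3 * (1 + rootN 19 c1) = stage5 a b1 b2 b3 c1 := by
  ext i j
  rw [mul_rootN_apply, show pos 19 = (0, 2, 6, 4) from rfl]
  fin_cases i <;> fin_cases j <;> simp [stage5, stage4] <;> ring

def stage6 (a b1 b2 b3 c1 c2 : K) : Matrix (Fin 8) (Fin 8) K := Matrix.of
  ![![1, b1, c1, b1 * c2, 0, 0, 0, 0],
    ![0, 1, a, a * b2 + c2, a * b2 * b3 * c1, a * b3 * c2, a * b2 * b3, a * b3],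
    ![0, 0, 1, b2, b2 * b3 * c1, b3 * c2, b2 * b3, b3],
    ![0, 0, 0, 1, b3 * c1, 0, b3, 0],
    ![0, 0, 0, 0, 1, 0, 0, 0],
    ![0, 0, 0, 0, b1, 1, 0, 0],
    ![0, 0, 0, 0, a * b1 + c1, a, 1, 0],
    ![0, 0, 0, 0, b2 * c1, c2, b2, 1]]

theorem stage6_eq (a b1 b2 b3 c1 c2 : K) :
    stage5 a b1 b2 b3 c1 * (1 + rootN 16 c2) = stage6 a b1 b2 b3 c1 c2 := by
  ext i j
  rw [mul_rootN_apply, show pos 16 = (1, 3, 7, 5) from rfl]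
  fin_cases i <;> fin_cases j <;> simp [stage6, stage5] <;> ring

def stage7 (a b1 b2 b3 c1 c2 c3 : K) : Matrix (Fin 8) (Fin 8) K := Matrix.of
  ![![1, b1, c1, b1 * c2, 0, b1 * c2 * c3, 0, b1 * c3],
    ![0, 1, a, a * b2 + c2, a * b2 * b3 * c1, a * b2 * c3 + a * b3 * c2 + c2 * c3, a * b2 * b3, a * b3 + c3],
    ![0, 0, 1, b2, b2 * b3 * c1, b2 * c3 + b3 * c2, b2 * b3, b3],
    ![0, 0, 0, 1, b3 * c1, c3, b3, 0],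
    ![0, 0, 0, 0, 1, 0, 0, 0],
    ![0, 0, 0, 0, b1, 1, 0, 0],
    ![0, 0, 0, 0, a * b1 + c1, a, 1, 0],
    ![0, 0, 0, 0, b2 * c1, c2, b2, 1]]

theorem stage7_eq (a b1 b2 b3 c1 c2 c3 : K) :
    stage6 a b1 b2 b3 c1 c2 * (1 + rootN 15 c3) = stage7 a b1 b2 b3 c1 c2 c3 := by
  ext i j
  rw [mul_rootN_apply, show pos 15 = (1, 7, 3, 5) from rfl]
  fin_cases i <;> fin_cases j <;> simp [stage7, stage6] <;> ring

def stage8 (a b1 b2 b3 c1 c2 c3 d1 : K) : Matrix (Fin 8) (Fin 8) K := Matrix.of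
  ![![1, b1, c1, b1 * c2, 0, b1 * c2 * c3 + c1 * d1, b1 * d1, b1 * c3],
    ![0, 1, a, a * b2 + c2, a * b2 * b3 * c1, a * b2 * c3 + a * b3 * c2 + a * d1 + c2 * c3, a * b2 * b3 + d1, a * b3 + c3],
    ![0, 0, 1, b2, b2 * b3 * c1, b2 * c3 + b3 * c2 + d1, b2 * b3, b3],
    ![0, 0, 0, 1, b3 * c1, c3, b3, 0],
    ![0, 0, 0, 0, 1, 0, 0, 0],
    ![0, 0, 0, 0, b1, 1, 0, 0],
    ![0, 0, 0, 0, a * b1 + c1, a, 1, 0],
    ![0, 0, 0, 0, b2 * c1, c2, b2, 1]]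

theorem stage8_eq (a b1 b2 b3 c1 c2 c3 d1 : K) :
    stage7 a b1 b2 b3 c1 c2 c3 * (1 + rootN 17 d1) = stage8 a b1 b2 b3 c1 c2 c3 d1 := by
  ext i j
  rw [mul_rootN_apply, show pos 17 = (1, 6, 2, 5) from rfl]
  fin_cases i <;> fin_cases j <;> simp [stage8, stage7] <;> ring

def stage9 (a b1 b2 b3 c1 c2 c3 d1 d2 : K) : Matrix (Fin 8) (Fin 8) K := Matrix.of
  ![![1, b1, c1, b1 * c2, b1 * c2 * d2, b1 * c2 * c3 + c1 * d1, b1 * d1, b1 * c3 + d2],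
    ![0, 1, a, a * b2 + c2, a * b2 * b3 * c1 + a * b2 * d2 + c2 * d2, a * b2 * c3 + a * b3 * c2 + a * d1 + c2 * c3, a * b2 * b3 + d1, a * b3 + c3],
    ![0, 0, 1, b2, b2 * b3 * c1 + b2 * d2, b2 * c3 + b3 * c2 + d1, b2 * b3, b3],
    ![0, 0, 0, 1, b3 * c1 + d2, c3, b3, 0],
    ![0, 0, 0, 0, 1, 0, 0, 0],
    ![0, 0, 0, 0, b1, 1, 0, 0],
    ![0, 0, 0, 0, a * b1 + c1, a, 1, 0],
    ![0, 0, 0, 0, b2 * c1, c2, b2, 1]]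

theorem stage9_eq (a b1 b2 b3 c1 c2 c3 d1 d2 : K) :
    stage8 a b1 b2 b3 c1 c2 c3 d1 * (1 + rootN 20 d2) = stage9 a b1 b2 b3 c1 c2 c3 d1 d2 := by
  ext i j
  rw [mul_rootN_apply, show pos 20 = (0, 7, 3, 4) from rfl]
  fin_cases i <;> fin_cases j <;> simp [stage9, stage8] <;> ring

def stage10 (a b1 b2 b3 c1 c2 c3 d1 d2 d3 : K) : Matrix (Fin 8) (Fin 8) K := Matrix.of
  ![![1, b1, c1, b1 * c2 + d3, b1 * c2 * d2 + b1 * c3 * d3 + d2 * d3, b1 * c2 * c3 + c1 * d1, b1 * d1, b1 * c3 + d2],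
    ![0, 1, a, a * b2 + c2, a * b2 * b3 * c1 + a * b2 * d2 + a * b3 * d3 + c2 * d2 + c3 * d3, a * b2 * c3 + a * b3 * c2 + a * d1 + c2 * c3, a * b2 * b3 + d1, a * b3 + c3],
    ![0, 0, 1, b2, b2 * b3 * c1 + b2 * d2 + b3 * d3, b2 * c3 + b3 * c2 + d1, b2 * b3, b3],
    ![0, 0, 0, 1, b3 * c1 + d2, c3, b3, 0],
    ![0, 0, 0, 0, 1, 0, 0, 0],
    ![0, 0, 0, 0, b1, 1, 0, 0],
    ![0, 0, 0, 0, a * b1 + c1, a, 1, 0],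
    ![0, 0, 0, 0, b2 * c1 + d3, c2, b2, 1]]

theorem stage10_eq (a b1 b2 b3 c1 c2 c3 d1 d2 d3 : K) :
    stage9 a b1 b2 b3 c1 c2 c3 d1 d2 * (1 + rootN 21 d3) = stage10 a b1 b2 b3 c1 c2 c3 d1 d2 d3 := by
  ext i j
  rw [mul_rootN_apply, show pos 21 = (0, 3, 7, 4) from rfl]
  fin_cases i <;> fin_cases j <;> simp [stage10, stage9] <;> ring

def stage11 (a b1 b2 b3 c1 c2 c3 d1 d2 d3 e : K) : Matrix (Fin 8) (Fin 8) K := Matrix.of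
  ![![1, b1, c1, b1 * c2 + d3, b1 * c2 * d2 + b1 * c3 * d3 + c1 * e + d2 * d3, b1 * c2 * c3 + c1 * d1, b1 * d1 + e, b1 * c3 + d2],
    ![0, 1, a, a * b2 + c2, a * b2 * b3 * c1 + a * b2 * d2 + a * b3 * d3 + a * e + c2 * d2 + c3 * d3, a * b2 * c3 + a * b3 * c2 + a * d1 + c2 * c3, a * b2 * b3 + d1, a * b3 + c3],
    ![0, 0, 1, b2, b2 * b3 * c1 + b2 * d2 + b3 * d3 + e, b2 * c3 + b3 * c2 + d1, b2 * b3, b3],
    ![0, 0, 0, 1, b3 * c1 + d2, c3, b3, 0],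
    ![0, 0, 0, 0, 1, 0, 0, 0],
    ![0, 0, 0, 0, b1, 1, 0, 0],
    ![0, 0, 0, 0, a * b1 + c1, a, 1, 0],
    ![0, 0, 0, 0, b2 * c1 + d3, c2, b2, 1]]

theorem stage11_eq (a b1 b2 b3 c1 c2 c3 d1 d2 d3 e : K) :
    stage10 a b1 b2 b3 c1 c2 c3 d1 d2 d3 * (1 + rootN 22 e) = stage11 a b1 b2 b3 c1 c2 c3 d1 d2 d3 e := by
  ext i j
  rw [mul_rootN_apply, show pos 22 = (0, 6, 2, 4) from rfl]
  fin_cases i <;> fin_cases j <;> simp [stage11, stage10] <;> ring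

def stage12 (a b1 b2 b3 c1 c2 c3 d1 d2 d3 e f : K) : Matrix (Fin 8) (Fin 8) K := Matrix.of
  ![![1, b1, c1, b1 * c2 + d3, b1 * c2 * d2 + b1 * c3 * d3 + b1 * f + c1 * e + d2 * d3, b1 * c2 * c3 + c1 * d1 + f, b1 * d1 + e, b1 * c3 + d2],
    ![0, 1, a, a * b2 + c2, a * b2 * b3 * c1 + a * b2 * d2 + a * b3 * d3 + a * e + c2 * d2 + c3 * d3 + f, a * b2 * c3 + a * b3 * c2 + a * d1 + c2 * c3, a * b2 * b3 + d1, a * b3 + c3],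
    ![0, 0, 1, b2, b2 * b3 * c1 + b2 * d2 + b3 * d3 + e, b2 * c3 + b3 * c2 + d1, b2 * b3, b3],
    ![0, 0, 0, 1, b3 * c1 + d2, c3, b3, 0],
    ![0, 0, 0, 0, 1, 0, 0, 0],
    ![0, 0, 0, 0, b1, 1, 0, 0],
    ![0, 0, 0, 0, a * b1 + c1, a, 1, 0],
    ![0, 0, 0, 0, b2 * c1 + d3, c2, b2, 1]]

theorem stage12_eq (a b1 b2 b3 c1 c2 c3 d1 d2 d3 e f : K) :
    stage11 a b1 b2 b3 c1 c2 c3 d1 d2 d3 e * (1 + rootN 23 f) = stage12 a b1 b2 b3 c1 c2 c3 d1 d2 d3 e f := by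
  ext i j
  rw [mul_rootN_apply, show pos 23 = (0, 5, 1, 4) from rfl]
  fin_cases i <;> fin_cases j <;> simp [stage12, stage11] <;> ring

/-- The augmentation. -/
def nilU (a b1 b2 b3 c1 c2 c3 d1 d2 d3 e f : K) : Matrix (Fin 8) (Fin 8) K := Matrix.of
  ![![0, b1, c1, b1 * c2 + d3, b1 * c2 * d2 + b1 * c3 * d3 + b1 * f + c1 * e + d2 * d3, b1 * c2 * c3 + c1 * d1 + f, b1 * d1 + e, b1 * c3 + d2],
    ![0, 0, a, a * b2 + c2, a * b2 * b3 * c1 + a * b2 * d2 + a * b3 * d3 + a * e + c2 * d2 + c3 * d3 + f, a * b2 * c3 + a * b3 * c2 + a * d1 + c2 * c3, a * b2 * b3 + d1, a * b3 + c3],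
    ![0, 0, 0, b2, b2 * b3 * c1 + b2 * d2 + b3 * d3 + e, b2 * c3 + b3 * c2 + d1, b2 * b3, b3],
    ![0, 0, 0, 0, b3 * c1 + d2, c3, b3, 0],
    ![0, 0, 0, 0, 0, 0, 0, 0],
    ![0, 0, 0, 0, b1, 0, 0, 0],
    ![0, 0, 0, 0, a * b1 + c1, a, 0, 0],
    ![0, 0, 0, 0, b2 * c1 + d3, c2, b2, 0]]

theorem stage12_nil (a b1 b2 b3 c1 c2 c3 d1 d2 d3 e f : K) : stage12 a b1 b2 b3 c1 c2 c3 d1 d2 d3 e f = 1 + nilU a b1 b2 b3 c1 c2 c3 d1 d2 d3 e f := by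
  ext i j
  fin_cases i <;> fin_cases j <;> simp [stage12, nilU]

def nilTwo (a b1 b2 b3 c1 c2 c3 d1 d2 d3 e f : K) : Matrix (Fin 8) (Fin 8) K := Matrix.of
  ![![0, 0, a * b1, a * b1 * b2 + b1 * c2 + b2 * c1, a * b1 * b1 * d1 + a * b1 * b2 * b3 * c1 + a * b1 * b2 * d2 + a * b1 * b3 * d3 + 2 * a * b1 * e + b1 * b1 * c2 * c3 + b1 * b2 * c1 * c3 + b1 * b3 * c1 * c2 + 2 * b1 * c1 * d1 + 2 * b1 * c2 * d2 + 2 * b1 * c3 * d3 + 2 * b1 * f + b2 * b3 * c1 * c1 + 2 * b2 * c1 * d2 + 2 * b3 * c1 * d3 + 2 * c1 * e + 2 * d2 * d3, a * b1 * b2 * c3 + a * b1 * b3 * c2 + 2 * a * b1 * d1 + a * e + 3 * b1 * c2 * c3 + b2 * c1 * c3 + b3 * c1 * c2 + c1 * d1 + c2 * d2 + c3 * d3, a * b1 * b2 * b3 + b1 * b2 * c3 + b1 * b3 * c2 + b1 * d1 + b2 * b3 * c1 + b2 * d2 + b3 * d3, a * b1 * b3 + b1 * c3 + b3 * c1],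
    ![0, 0, 0, a * b2, a * a * b1 * b2 * b3 + a * b1 * b2 * c3 + a * b1 * b3 * c2 + 2 * a * b1 * d1 + 4 * a * b2 * b3 * c1 + 2 * a * b2 * d2 + 2 * a * b3 * d3 + a * e + b1 * c2 * c3 + b2 * c1 * c3 + b3 * c1 * c2 + c1 * d1 + c2 * d2 + c3 * d3, a * a * b2 * b3 + 2 * a * b2 * c3 + 2 * a * b3 * c2 + 2 * a * d1 + 2 * c2 * c3, 3 * a * b2 * b3 + b2 * c3 + b3 * c2, a * b3],
    ![0, 0, 0, 0, a * b1 * b2 * b3 + b1 * b2 * c3 + b1 * b3 * c2 + b1 * d1 + 3 * b2 * b3 * c1 + b2 * d2 + b3 * d3, a * b2 * b3 + b2 * c3 + b3 * c2, 2 * b2 * b3, 0],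
    ![0, 0, 0, 0, a * b1 * b3 + b1 * c3 + b3 * c1, a * b3, 0, 0],
    ![0, 0, 0, 0, 0, 0, 0, 0],
    ![0, 0, 0, 0, 0, 0, 0, 0],
    ![0, 0, 0, 0, a * b1, 0, 0, 0],
    ![0, 0, 0, 0, a * b1 * b2 + b1 * c2 + b2 * c1, a * b2, 0, 0]]

theorem nilTwo_eq (a b1 b2 b3 c1 c2 c3 d1 d2 d3 e f : K) : nilU a b1 b2 b3 c1 c2 c3 d1 d2 d3 e f * nilU a b1 b2 b3 c1 c2 c3 d1 d2 d3 e f = nilTwo a b1 b2 b3 c1 c2 c3 d1 d2 d3 e f := by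
  ext i j
  rw [Matrix.mul_apply, Fin.sum_univ_eight]
  fin_cases i <;> fin_cases j <;> simp [nilU, nilTwo] <;> ring

def nilThree (a b1 b2 b3 c1 c2 c3 d1 d2 d3 e f : K) : Matrix (Fin 8) (Fin 8) K := Matrix.of
  ![![0, 0, 0, a * b1 * b2, a * a * b1 * b1 * b2 * b3 + 2 * a * b1 * b1 * b2 * c3 + 2 * a * b1 * b1 * b3 * c2 + 3 * a * b1 * b1 * d1 + 5 * a * b1 * b2 * b3 * c1 + 3 * a * b1 * b2 * d2 + 3 * a * b1 * b3 * d3 + 2 * a * b1 * e + 3 * b1 * b1 * c2 * c3 + 3 * b1 * b2 * c1 * c3 + 3 * b1 * b3 * c1 * c2 + 2 * b1 * c1 * d1 + 2 * b1 * c2 * d2 + 2 * b1 * c3 * d3 + 3 * b2 * b3 * c1 * c1 + 2 * b2 * c1 * d2 + 2 * b3 * c1 * d3, a * a * b1 * b2 * b3 + 3 * a * b1 * b2 * c3 + 3 * a * b1 * b3 * c2 + 2 * a * b1 * d1 + a * b2 * b3 * c1 + a * b2 * d2 + a * b3 * d3 + 2 * b1 * c2 * c3 + b2 * c1 * c3 + b3 * c1 * c2, 3 * a * b1 * b2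 * b3 + b1 * b2 * c3 + b1 * b3 * c2 + 2 * b2 * b3 * c1, a * b1 * b3],
    ![0, 0, 0, 0, 4 * a * a * b1 * b2 * b3 + 3 * a * b1 * b2 * c3 + 3 * a * b1 * b3 * c2 + 2 * a * b1 * d1 + 5 * a * b2 * b3 * c1 + a * b2 * d2 + a * b3 * d3 + 2 * b1 * c2 * c3 + b2 * c1 * c3 + b3 * c1 * c2, 3 * a * a * b2 * b3 + 2 * a * b2 * c3 + 2 * a * b3 * c2, 2 * a * b2 * b3, 0],
    ![0, 0, 0, 0, 3 * a * b1 * b2 * b3 + b1 * b2 * c3 + b1 * b3 * c2 + 2 * b2 * b3 * c1, 2 * a * b2 * b3, 0, 0],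
    ![0, 0, 0, 0, a * b1 * b3, 0, 0, 0],
    ![0, 0, 0, 0, 0, 0, 0, 0],
    ![0, 0, 0, 0, 0, 0, 0, 0],
    ![0, 0, 0, 0, 0, 0, 0, 0],
    ![0, 0, 0, 0, a * b1 * b2, 0, 0, 0]]

theorem nilThree_eq (a b1 b2 b3 c1 c2 c3 d1 d2 d3 e f : K) : nilTwo a b1 b2 b3 c1 c2 c3 d1 d2 d3 e f * nilU a b1 b2 b3 c1 c2 c3 d1 d2 d3 e f = nilThree a b1 b2 b3 c1 c2 c3 d1 d2 d3 e f := by
  ext i j
  rw [Matrix.mul_apply, Fin.sum_univ_eight]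
  fin_cases i <;> fin_cases j <;> simp [nilU, nilTwo, nilThree] <;> ring

/-- The positive unipotent product. -/
theorem prod_root (a b1 b2 b3 c1 c2 c3 d1 d2 d3 e f : K) :
    (1 : Matrix (Fin 8) (Fin 8) K) * (1 + rootN 14 a) * (1 + rootN 18 b1) * (1 + rootN 13 b2) * (1 + rootN 12 b3) * (1 + rootN 19 c1) * (1 + rootN 16 c2) * (1 + rootN 15 c3) * (1 + rootN 17 d1) * (1 + rootN 20 d2) * (1 + rootN 21 d3) * (1 + rootN 22 e) * (1 + rootN 23 f) = 1 + nilU a b1 b2 b3 c1 c2 c3 d1 d2 d3 e f := by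
  rw [stage1_eq, stage2_eq, stage3_eq, stage4_eq, stage5_eq, stage6_eq, stage7_eq, stage8_eq, stage9_eq, stage10_eq, stage11_eq, stage12_eq, stage12_nil]

theorem cube_root (a b1 b2 b3 c1 c2 c3 d1 d2 d3 e f : K) : nilU a b1 b2 b3 c1 c2 c3 d1 d2 d3 e f ^ 3 = nilThree a b1 b2 b3 c1 c2 c3 d1 d2 d3 e f := by
  rw [pow_succ, pow_two, nilTwo_eq, nilThree_eq]

end Cfsg.Agent.TrialityTwo
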