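/-
³D₄(2) as a group of 8×8 matrices: generators and the Sylow 2-subgroup.
-/
import Cfsg.Agent.Lib.TrialityTwo.Unip
import Cfsg.Agent.Lib.TrialityTwo.Alg
import Cfsg.Agent.Lib.TrialityTwo.Data
import Cfsg.Agent.Lib.Chev.Invol2.D4Main

set_option autoImplicit false
set_option linter.unusedSectionVars false
set_option maxHeartbeats 1000000

namespace Cfsg.Agent.TrialityTwo

open Cfsg.Agent.Chev Cfsg.Lie

variable {K : Type*} [Field K] [CharP K 2] [Fintype K]

/-- The twisted group. -/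
abbrev Tw (K : Type*) [Field K] : Subgroup (GL chevD4.Idx K) := twistedD4 K 2

/-- The eight-dimensional matrices of the twisted group. -/
structure Rep8 (K : Type*) [Field K] [Fintype K] where
  toHom : ↥(Tw K) →* GL (Fin 8) K
  inj : Function.Injective toHom
  root : ∀ (g : ↥(Tw K)) (L : List (ℕ × K)), (∀ x ∈ L, x.1 < 24) →
    ((g : GL chevD4.Idx K) = (L.map fun x => D4.ok.xG x.1 x.2).prod) →
    ((toHom g : GL (Fin 8) K) : Matrix (Fin 8) (Fin 8) K) = (L.map fun x => 1 + rootN x.1 x.2).prod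

theorem card_two (hK : Fintype.card K = 8) : IsPrimePow 2 ∧ Fintype.card K = 2 ^ 3 :=
  ⟨Nat.prime_two.isPrimePow, by rw [hK]; norm_num⟩

theorem exists_rep8 (hK : Fintype.card K = 8) : Nonempty (Rep8 K) := by
  obtain ⟨φ, G, hφ, hG, hO⟩ := TwD4.setup (card_two hK).1 (card_two hK).2
  obtain ⟨ρ, hρ, hroot⟩ := exists_rep K
  have hle : Tw K ≤ chevD4.group K := fun g hg => by
    have : g ∈ (TwD4.T φ).fixed := by
      rw [← G.eq_fixed ckComm_D4, hG]
      exact hg
    exact ((Twist.mem_fixed _).1 this).1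
  refine ⟨⟨ρ.comp (Subgroup.inclusion hle), hρ.comp (Subgroup.inclusion_injective hle), fun g L hL e => ?_⟩⟩
  have e' : Subgroup.inclusion hle g = (L.map fun x => Chev.Aut.xS D4.ok x.1 x.2).prod := by
    refine Subtype.ext ?_
    rw [Subgroup.val_list_prod, List.map_map]
    exact e
  rw [MonoidHom.comp_apply, e', map_list_prod, List.map_map, ← Units.coeHom_apply, map_list_prod, List.map_map]
  exact congrArg List.prod (List.map_congr_left fun x hx => hroot x.1 (hL x hx) x.2)

variable (R : Rep8 K) (α : K)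

/-- The matrix of an element. -/
noncomputable def Rep8.M : ↥(Tw K) →* Matrix (Fin 8) (Fin 8) K := (Units.coeHom _).comp R.toHom

theorem Rep8.M_inj : Function.Injective R.M := fun _ _ h => R.inj (Units.ext h)

theorem Rep8.M_root (g : ↥(Tw K)) (L : List (ℕ × K)) (hL : ∀ x ∈ L, x.1 < 24)
    (e : (g : GL chevD4.Idx K) = (L.map fun x => D4.ok.xG x.1 x.2).prod) :
    R.M g = (L.map fun x => 1 + rootN x.1 x.2).prod := R.root g L hL e

/-- Code of a root element. -/
def rootC (r c : ℕ) : Mat := mk fun i j =>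
  ca (if i = j then 1 else 0) (ca (if i = (pos r).1.val ∧ j = (pos r).2.1.val then c else 0)
    (if i = (pos r).2.2.1.val ∧ j = (pos r).2.2.2.val then c else 0))

theorem ev_rootC (r c : ℕ) : ev α (rootC r c) = 1 + rootN r (el α c) := by
  rw [rootC, ev_mk]
  ext i j
  have hconv : ∀ x y : Fin 8, x.val = y.val ↔ y = x := fun x y => by rw [Fin.val_inj, eq_comm]
  rw [el_ca, el_ca, rootN]
  simp only [Matrix.add_apply, Matrix.one_apply, Matrix.single, Matrix.of_apply, hconv]
  have hji : (j = i) = (i = j) := propext eq_comm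
  simp only [hji]
  congr 1
  · split_ifs <;> simp [el]
  congr 1 <;> split_ifs <;> simp [el]

/-- The word of a generator, with its parameter codes. -/
def genW (i : ℕ) : List (ℕ × ℕ) :=
  if i = 0 then [(14, 1)] else if i = 1 then [(9, 1)] else
  if i < 9 then [(18, i - 1), (13, cm (i - 1) (i - 1)), (12, cm (cm (i - 1) (i - 1)) (cm (i - 1) (i - 1)))]
  else [(5, i - 8), (10, cm (i - 8) (i - 8)), (11, cm (cm (i - 8) (i - 8)) (cm (i - 8) (i - 8)))]

def wordC : List (ℕ × ℕ) → Mat
  | [] => oneC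
  | x :: L => mulC (rootC x.1 x.2) (wordC L)

theorem gens_table : ((List.range 16).all fun i => wordC (genW i) == gensC.getD i []) = true := by decide +kernel

variable {α}

theorem ev_wordC (hα : α ^ 3 = α + 1) (L : List (ℕ × ℕ)) :
    ev α (wordC L) = (L.map fun x => 1 + rootN x.1 (el α x.2)).prod := by
  induction L with
  | nil => exact ev_oneC
  | cons x L ih => rw [wordC, ev_mulC hα, ev_rootC, ih, List.map_cons, List.prod_cons]

theorem triple_mem (hK : Fintype.card K = 8) {a b c : ℕ}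
    (h : (a, b, c) ∈ [(d4p1, d4p3, d4p4), (d4m1, d4m3, d4m4)]) (t : K) :
    ∃ g : ↥(Tw K), (g : GL chevD4.Idx K) =
      D4.ok.xG a t * D4.ok.xG b (t ^ 2) * D4.ok.xG c (t ^ (2 ^ 2)) := by
  obtain ⟨φ, G, hφ, -, -⟩ := TwD4.setup (card_two hK).1 (card_two hK).2
  refine ⟨⟨_, TwD4.gen3 φ hφ (rs := (a, b, c)) h t⟩, ?_⟩
  show D4.ok.xG a t * D4.ok.xG b (φ t) * D4.ok.xG c (φ (φ t)) = _
  rw [hφ, hφ, ← pow_mul, ← pow_two]

theorem triple_M (hK : Fintype.card K = 8) (hα : α ^ 3 = α + 1) {a b c : ℕ} (ha : a < 24) (hb : b < 24)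
    (hc : c < 24) (h : (a, b, c) ∈ [(d4p1, d4p3, d4p4), (d4m1, d4m3, d4m4)]) (m : ℕ) :
    ∃ g : ↥(Tw K), R.M g =
      ev α (wordC [(a, m), (b, cm m m), (c, cm (cm m m) (cm m m))]) := by
  obtain ⟨g, hg⟩ := triple_mem hK h (el α m)
  refine ⟨g, (R.M_root g [(a, el α m), (b, el α m ^ 2), (c, el α m ^ (2 ^ 2))] ?_ ?_).trans ?_⟩
  · intro x hx
    simp only [List.mem_cons, List.not_mem_nil, or_false] at hx
    rcases hx with rfl | rfl | rfl <;> assumption
  · rw [hg, List.map_cons, List.map_cons, List.map_cons, List.map_nil, List.prod_cons, List.prod_cons,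
      List.prod_cons, List.prod_nil, mul_one, mul_assoc]
  · rw [ev_wordC hα]
    simp only [List.map_cons, List.map_nil, el_cm hα, pow_two, ← mul_assoc]
    norm_num [pow_succ, mul_assoc]

theorem single_M (hα : α ^ 3 = α + 1) {r : ℕ} (hr : r < 24) (h : r ∈ [d4p2, d4m2]) :
    ∃ g : ↥(Tw K), R.M g = ev α (wordC [(r, 1)]) :=
  ⟨⟨_, TwD4.gen1 (q := 2) h (one_pow 2)⟩, (R.M_root _ [(r, 1)] (by simpa using hr) (by simp)).trans
    (by rw [ev_wordC hα]; simp [el])⟩

theorem gen_mem (hα : α ^ 3 = α + 1) (hK : Fintype.card K = 8) {i : ℕ} (hi : i < 16) :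
    ∃ g : ↥(Tw K), R.M g = ev α (gensC.getD i []) := by
  have ht := List.all_eq_true.1 gens_table i (List.mem_range.2 hi)
  rw [beq_iff_eq] at ht
  rw [← ht, genW]
  split_ifs
  · exact single_M R hα (by norm_num) (by decide)
  · exact single_M R hα (by norm_num) (by decide)
  · exact triple_M R hK hα (by norm_num) (by norm_num) (by norm_num) (by decide) _
  · exact triple_M R hK hα (by norm_num) (by norm_num) (by norm_num) (by decide) _

/-- The augmentation of a two-element: nilpotent, and a cube of rank at most one vanishes. -/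
theorem two_element (hK : Fintype.card K = 8) (u : ↥(Tw K)) {k : ℕ} (hu : orderOf u = 2 ^ k) :
    (1 + R.M u) ^ 7 = 0 ∧ (R1 ((1 + R.M u) ^ 3) → (1 + R.M u) ^ 3 = 0) := by
  classical
  haveI : Fact (Nat.Prime 2) := ⟨Nat.prime_two⟩
  obtain ⟨hq, hK'⟩ := card_two hK
  obtain ⟨φ, G, hφ, hG, hO⟩ := TwD4.setup hq hK'
  set U : Subgroup ↥(Tw K) := (chevD4.posUnipotent K ⊓ (TwD4.T φ).fixed).subgroupOf (Tw K) with hUdef
  have hle : chevD4.posUnipotent K ⊓ (TwD4.T φ).fixed ≤ Tw K := (G.pos_fixed_le ckComm_D4).trans hG.le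
  have hUc : Nat.card U = 2 ^ 12 := by
    rw [hUdef, Nat.card_congr (Subgroup.subgroupOfEquivOfLe hle).toEquiv, TwD4.card_pos hφ hK' hq G hO]
  have hidx : ¬ 2 ∣ U.index := by
    have h := U.card_mul_index
    rw [hUc, TwD4.order_eq hφ hK' hq G hG hO] at h
    norm_num at h
    omega
  have hp : IsPGroup 2 (Subgroup.zpowers u) := IsPGroup.of_card (n := k) (by rw [Nat.card_zpowers, hu])
  obtain ⟨T, hT⟩ := hp.exists_le_sylow
  obtain ⟨x, hx⟩ := MulAction.exists_smul_eq ↥(Tw K) T ((IsPGroup.of_card hUc).toSylow hidx)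
  have hxU : x * u * x⁻¹ ∈ U := by
    have h1 : x * u * x⁻¹ ∈ ((x • T : Sylow 2 ↥(Tw K)) : Subgroup ↥(Tw K)) := by
      rw [Sylow.coe_subgroup_smul, Subgroup.mem_pointwise_smul_iff_inv_smul_mem]
      simpa [mul_assoc] using hT (Subgroup.mem_zpowers u)
    rw [hx] at h1
    exact h1
  obtain ⟨hpos, hfix⟩ := Subgroup.mem_subgroupOf.1 hxU
  obtain ⟨v, hv⟩ := D4Inv.el_closed hpos
  rw [← hv] at hfix
  have e := D4Inv.el_inj _ _ ((D4Inv.sigma_el (φ := φ) v).symm.trans ((Twist.mem_fixed _).1 hfix).2)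
  obtain ⟨a, b1, b2, b3, c1, c2, c3, d1, d2, d3, e', f⟩ := v
  simp only [D4Inv.V.mk.injEq] at e
  obtain ⟨ea, e1, e2, e3, e4, e5, e6, -, -, -, -, -⟩ := e
  have hM : R.M (x * u * x⁻¹) = 1 + nilU a b1 b2 b3 c1 c2 c3 d1 d2 d3 e' f := by
    refine (R.M_root _ [(14, a), (18, b1), (13, b2), (12, b3), (19, c1), (16, c2), (15, c3), (17, d1), (20, d2),
      (21, d3), (22, e'), (23, f)] (by simp) (hv.symm.trans (D4Inv.el_list _))).trans ?_
    rw [← prod_root, one_mul]
    simp only [List.map_cons, List.map_nil, List.prod_cons, List.prod_nil, mul_one, mul_assoc]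
  set N := nilU a b1 b2 b3 c1 c2 c3 d1 d2 d3 e' f
  have hB : Below 1 N := by
    intro i j h
    revert h
    fin_cases i <;> fin_cases j <;> simp [N, nilU, ht8]
  have hconj : ∀ n, (1 + R.M u) ^ n = R.M x⁻¹ * N ^ n * R.M x := by
    intro n
    have h1 : R.M x * R.M x⁻¹ = 1 := by rw [← map_mul, mul_inv_cancel, map_one]
    have h2 : R.M x⁻¹ * R.M x = 1 := by rw [← map_mul, inv_mul_cancel, map_one]
    have hN : R.M x⁻¹ * N * R.M x = 1 + R.M u := by
      have : R.M u = R.M x⁻¹ * (1 + N) * R.M x := by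
        rw [← hM, ← map_mul, ← map_mul]
        congr 1
        group
      rw [this, mul_add, add_mul, mul_one, h2, ← add_assoc, CharTwo.add_self_eq_zero, zero_add]
    induction n with
    | zero => rw [pow_zero, pow_zero, mul_one, h2]
    | succ n ih =>
      rw [pow_succ, ih, ← hN, pow_succ]
      simp only [mul_assoc]
      rw [← mul_assoc (R.M x) (R.M x⁻¹), h1, one_mul]
  constructor
  · rw [hconj, (hB.pow 7).eq_zero (by norm_num), mul_zero, zero_mul]
  intro hr
  have hr' : R1 (N ^ 3) := by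
    have := hr.mul_mul (R.M x) (R.M x⁻¹)
    rw [hconj] at this
    simp only [← mul_assoc] at this
    rw [← map_mul, mul_inv_cancel, map_one, one_mul, mul_assoc, ← map_mul, mul_inv_cancel, map_one, mul_one] at this
    exact this
  rw [hconj, show N ^ 3 = 0 from ?_, mul_zero, zero_mul]
  have h2 : (2 : K) = 0 := CharTwo.two_eq_zero
  have m1 := hr'.minor 0 3 3 4
  have m2 := hr'.minor 0 6 2 4
  rw [cube_root] at m1 m2 ⊢
  simp [nilThree] at m1 m2
  have hφ0 : φ 0 = 0 := map_zero φ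
  by_cases hb : b1 = 0
  · have hb2 : b2 = 0 := by rw [← e2, hb, map_zero]
    have hb3 : b3 = 0 := by rw [← e3, hb2, map_zero]
    ext i j
    fin_cases i <;> fin_cases j <;> simp [nilThree, hb, hb2, hb3]
  have hb2 : b2 ≠ 0 := by rw [← e2]; exact (map_ne_zero φ).2 hb
  have hb3 : b3 ≠ 0 := by rw [← e3]; exact (map_ne_zero φ).2 hb2
  have ha : a = 0 := by
    simpa [hb, hb2, hb3] using m1
  subst ha
  have hX : b2 * c3 + b3 * c2 = 0 := by
    have : b1 * (b2 * c3 + b3 * c2) = 0 := by linear_combination m2 - b2 * b3 * c1 * h2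
    exact (mul_eq_zero.1 this).resolve_left hb
  have hY : b3 * c1 + b1 * c3 = 0 := by
    have := congrArg φ hX
    rw [map_zero, map_add, map_mul, map_mul, e3, e1, e6, e4] at this
    linear_combination this
  have hZ : b1 * c2 + b2 * c1 = 0 := by
    have := congrArg φ hY
    rw [map_zero, map_add, map_mul, map_mul, e1, e2, e5, e4] at this
    linear_combination this
  ext i j
  fin_cases i <;> fin_cases j <;> simp [nilThree] <;> grind

end Cfsg.Agent.TrialityTwo
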