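/-
Elements of prime-power odd order of ³D₄(2) in eight dimensions.
-/
import Cfsg.Agent.Lib.TrialityTwo.Model
import Cfsg.Agent.Lib.TrialityTwo.CheckThree
import Cfsg.Agent.Lib.TrialityTwo.CheckSeven

set_option autoImplicit false
set_option linter.unusedSectionVars false
set_option maxHeartbeats 1000000

namespace Cfsg.Agent.TrialityTwo

open Cfsg.Agent.Chev Cfsg.Lie

variable {K : Type*} [Field K] [CharP K 2] [Fintype K]
variable (R : Rep8 K) {α : K}

theorem card_tw (hK : Fintype.card K = 8) : Nat.card ↥(Tw K) = 2 ^ 12 * 3 ^ 4 * 7 ^ 2 * 13 := by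
  obtain ⟨φ, G, hφ, hG, hO⟩ := TwD4.setup (card_two hK).1 (card_two hK).2
  exact (TwD4.order_eq hφ (card_two hK).2 (card_two hK).1 G hG hO).trans (by norm_num)

theorem chain_mem (hα : α ^ 3 = α + 1) (hK : Fintype.card K = 8) (L : List (ℕ × Mat)) (prev : Mat) (g : ↥(Tw K))
    (hg : R.M g = ev α prev) (h : chainOK prev L = true) : ∃ g' : ↥(Tw K), R.M g' = ev α (lastM prev L) := by
  induction L generalizing prev g with
  | nil => exact ⟨g, hg⟩
  | cons x L ih =>
    obtain ⟨i, M⟩ := x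
    simp only [chainOK, Bool.and_eq_true, decide_eq_true_eq, beq_iff_eq] at h
    obtain ⟨⟨hi, hM⟩, hL⟩ := h
    obtain ⟨y, hy⟩ := gen_mem R hα hK hi
    obtain ⟨g', hg'⟩ := ih M (g * y) (by rw [map_mul, hg, hy, ← ev_mulC hα, hM]) hL
    refine ⟨g', ?_⟩
    rw [hg']
    congr 1
    rcases L with _ | ⟨z, L⟩
    · rfl
    · simp [lastM, List.getLast?_cons_cons, List.getLast?_eq_some_getLast]

theorem ev_inj (hα : α ^ 3 = α + 1) {A B : Mat} (hA : canon A = true) (hB : canon B = true)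
    (h : ev α A = ev α B) : A = B := by
  simp only [canon, beq_iff_eq] at hA hB
  rw [← hA, ← hB]
  simp only [mk]
  refine List.map_congr_left fun i hi => List.map_congr_left fun j hj => ?_
  have := congrFun (congrFun h ⟨i, List.mem_range.1 hi⟩) ⟨j, List.mem_range.1 hj⟩
  simp only [ev] at this
  rw [el_mod, el_mod (α := α) (ent B i j)] at this
  exact el_inj hα (Nat.mod_lt _ (by omega)) (Nat.mod_lt _ (by omega)) this

/-- A checked list is a group of that order, hence a Sylow subgroup meeting every conjugacy class. -/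
theorem sylow_list (hα : α ^ 3 = α + 1) (hK : Fintype.card K = 8) {p n : ℕ} (hp : p.Prime)
    (gens : List (List (ℕ × Mat))) (els : List Mat) (par : List (ℕ × ℕ)) (nxt : List (List ℕ))
    (h : groupOK gens els par nxt = true) (hlen : els.length = p ^ n) (hpn : ¬ p ^ (n + 1) ∣ Nat.card ↥(Tw K))
    (g : ↥(Tw K)) {a : ℕ} (hg : g ^ (p ^ a) = 1) :
    ∃ (c : ↥(Tw K)) (i : ℕ), i < els.length ∧ R.M (c * g * c⁻¹) = ev α (els.getD i []) := by
  classical
  haveI : Fact p.Prime := ⟨hp⟩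
  simp only [groupOK, Bool.and_eq_true, List.all_eq_true, List.mem_range, beq_iff_eq, decide_eq_true_eq] at h
  obtain ⟨⟨⟨⟨⟨⟨hch, h0⟩, hcan⟩, hnd⟩, hpl⟩, hpar⟩, hnxt⟩ := h
  have hone : R.M 1 = ev α oneC := by rw [map_one, ev_oneC]
  have hgen : ∀ k, k < gens.length → ∃ y : ↥(Tw K), R.M y = ev α (lastM oneC (gens.getD k [])) := fun k hk =>
    chain_mem R hα hK _ _ 1 hone (hch _ (by rw [List.getD_eq_getElem _ _ hk]; exact List.getElem_mem hk))
  choose y hy using hgen
  let S : Set ↥(Tw K) := Set.range fun k : Fin gens.length => y k.val k.isLt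
  have hsub : ∀ x ∈ Subgroup.closure S, ∃ i, i < els.length ∧ R.M x = ev α (els.getD i []) := by
    have hmem : Subgroup.closure S ≤ Subgroup.closure S := le_rfl
    intro x hx
    rw [← Subgroup.mem_toSubmonoid, Subgroup.closure_toSubmonoid_of_finite] at hx
    induction hx using Submonoid.closure_induction_right with
    | one => exact ⟨0, by rw [hlen]; exact pow_pos hp.pos n, by rw [hone, h0]⟩
    | mul_right x hx z hz ih =>
      obtain ⟨k, rfl⟩ := hz
      obtain ⟨i, hi, hxi⟩ := ih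
      obtain ⟨hj, e⟩ := hnxt i hi k.val k.isLt
      exact ⟨_, hj, by rw [map_mul, hxi, hy, ← ev_mulC hα, e]⟩
  have hsup : ∀ i, i < els.length → ∃ x ∈ Subgroup.closure S, R.M x = ev α (els.getD i []) := by
    intro i
    induction i using Nat.strong_induction_on with
    | _ i ih =>
      intro hi
      rcases i with _ | i
      · exact ⟨1, one_mem _, by rw [hone, h0]⟩
      · obtain ⟨⟨h1, h2⟩, e⟩ := hpar i (by omega)
        obtain ⟨x, hx, hxe⟩ := ih _ h1 (by omega)
        exact ⟨x * y _ h2, mul_mem hx (Subgroup.subset_closure ⟨⟨_, h2⟩, rfl⟩),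
          by rw [map_mul, hxe, hy, ← ev_mulC hα, e]⟩
  choose idx hidx hidxe using hsub
  choose xs hxs hxse using hsup
  have hcard : Nat.card (Subgroup.closure S) = p ^ n := by
    rw [← hlen, ← Fintype.card_fin els.length, ← Nat.card_eq_fintype_card]
    refine Nat.card_eq_of_bijective (fun x : Subgroup.closure S => (⟨idx x.1 x.2, hidx x.1 x.2⟩ : Fin els.length))
      ⟨fun x x' e => ?_, fun i => ?_⟩
    · have e' : idx x.1 x.2 = idx x'.1 x'.2 := congrArg Fin.val e
      exact Subtype.ext (R.M_inj (by rw [hidxe x.1 x.2, e', ← hidxe x'.1 x'.2]))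
    · refine ⟨⟨xs i i.isLt, hxs _ _⟩, Fin.ext ?_⟩
      have e := (hidxe (xs i i.isLt) (hxs _ _)).symm.trans (hxse i i.isLt)
      have hc : ∀ j, j < els.length → canon (els.getD j []) = true := fun j hj =>
        hcan _ (by rw [List.getD_eq_getElem _ _ hj]; exact List.getElem_mem hj)
      have := ev_inj hα (hc _ (hidx _ _)) (hc _ i.isLt) e
      rw [List.getD_eq_getElem _ _ (hidx _ _), List.getD_eq_getElem _ _ i.isLt] at this
      exact (List.Nodup.getElem_inj_iff hnd).1 this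
  have hidxP : ¬ p ∣ (Subgroup.closure S).index := fun hd => hpn (by
    rw [← (Subgroup.closure S).card_mul_index, hcard, pow_succ]
    exact mul_dvd_mul_left _ hd)
  have hp' : IsPGroup p (Subgroup.zpowers g) := by
    obtain ⟨b, -, hb⟩ := (Nat.dvd_prime_pow hp).1 (orderOf_dvd_of_pow_eq_one hg)
    exact IsPGroup.of_card (n := b) (by rw [Nat.card_zpowers, hb])
  obtain ⟨T, hT⟩ := hp'.exists_le_sylow
  obtain ⟨x, hx⟩ := MulAction.exists_smul_eq ↥(Tw K) T ((IsPGroup.of_card hcard).toSylow hidxP)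
  have hxU : x * g * x⁻¹ ∈ Subgroup.closure S := by
    have h1 : x * g * x⁻¹ ∈ ((x • T : Sylow p ↥(Tw K)) : Subgroup ↥(Tw K)) := by
      rw [Sylow.coe_subgroup_smul, Subgroup.mem_pointwise_smul_iff_inv_smul_mem]
      simpa [mul_assoc] using hT (Subgroup.mem_zpowers g)
    rw [hx] at h1
    exact h1
  exact ⟨x, idx _ hxU, hidx _ _, hidxe _ _⟩

/-- The powers listed for an element. -/
theorem pow_list (hα : α ^ 3 = α + 1) {els : List Mat} {i : ℕ} {pw : List ℕ} (h : powOK els i pw = true)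
    (hpos : 0 < pw.length) (h0 : els.getD 0 [] = oneC) :
    ev α (els.getD i []) ^ pw.length = 1 ∧
      ev α (sumC (pw.map fun k => els.getD k [])) = ∑ j ∈ Finset.range pw.length, ev α (els.getD i []) ^ j := by
  simp only [powOK, Bool.and_eq_true, List.all_eq_true, List.mem_range, beq_iff_eq, decide_eq_true_eq] at h
  obtain ⟨⟨hf, hl⟩, hstep⟩ := h
  set x := ev α (els.getD i []) with hx
  have key : ∀ k, k < pw.length → ev α (els.getD (pw.getD k 0) []) = x ^ (k + 1) := by
    intro k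
    induction k with
    | zero => intro _; rw [hf, pow_one]
    | succ k ih => intro hk; rw [← (hstep k (by omega)).2, ev_mulC hα, ih (by omega), pow_succ _ (k + 1)]
  have hone : x ^ pw.length = 1 := by
    have := key (pw.length - 1) (by omega)
    rw [Nat.sub_add_cancel hpos] at this
    rw [← this, show pw.getD (pw.length - 1) 0 = 0 by
      rw [List.getD_eq_getElem _ _ (by omega)] at hl ⊢; exact hl, h0, ev_oneC]
  refine ⟨hone, ?_⟩
  have hlist : (pw.map fun k => els.getD k []).map (ev α) = (List.range pw.length).map fun k => x ^ (k + 1) :=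
    List.ext_getElem (by simp) fun k h1 h2 => by
      simp only [List.getElem_map, List.getElem_range]
      rw [← key k (by simpa using h2), List.getD_eq_getElem pw 0 (by simpa using h2)]
  rw [ev_sumC, hlist, ← List.sum_toFinset _ List.nodup_range, List.toFinset_range]
  simp only [pow_succ]
  rw [← Finset.sum_mul, mul_geom_self hone]

theorem finrank_code (hα : α ^ 3 = α + 1) {X Y : Mat} {r : ℕ} (h : colsZero X r = true) :
    Module.finrank K (rg (ev α (mulC X Y))) ≤ r := by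
  simp only [colsZero, List.all_eq_true, List.mem_range, Bool.or_eq_true, decide_eq_true_eq, beq_iff_eq] at h
  rw [ev_mulC hα]
  refine finrank_diag_le fun i j hj => ?_
  rcases h i.val i.isLt j.val j.isLt with h' | h'
  · omega
  · rw [ev, el_mod, h']
    rfl

/-- The facts about a matrix of order three or nine. -/
def ThreeFact (x : Matrix (Fin 8) (Fin 8) K) : Prop :=
  ¬ R1 (1 + x) ∧ ((x ^ 9 = 1 ∧ ∑ j ∈ Finset.range 9, x ^ j = 0) ∨ (x ^ 3 = 1 ∧
    (Module.finrank K (rg (∑ j ∈ Finset.range 3, x ^ j)) ≤ 3 ∨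
      (Module.finrank K (rg (∑ j ∈ Finset.range 3, x ^ j)) ≤ 4 ∧
        Module.finrank K (rg (1 + ∑ j ∈ Finset.range 3, x ^ j)) ≤ 4))))

theorem three_elements (hα : α ^ 3 = α + 1) {i : ℕ} (hi : i < 81) (h0 : i ≠ 0) :
    ThreeFact (ev α (elsThree.getD i [])) := by
  obtain ⟨i, rfl⟩ : ∃ j, i = j + 1 := ⟨i - 1, by omega⟩
  have h := three_cert
  simp only [List.all_eq_true, List.mem_range] at h
  have h := h i (by omega)
  have hz : elsThree.getD 0 [] = oneC := by
    have := three_group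
    simp only [groupOK, Bool.and_eq_true, beq_iff_eq] at this
    exact this.1.1.1.1.1.2
  generalize certThree.getD i ([], 0, [], [], [], [], (0, 0, 0, 0)) = c at h
  obtain ⟨pw, r, X, Y, X', Y', w⟩ := c
  simp only [certThreeOK, Bool.and_eq_true, Bool.or_eq_true, decide_eq_true_eq, beq_iff_eq] at h
  obtain ⟨⟨⟨hpw, hw⟩, hmin⟩, hcase⟩ := h
  refine ⟨?_, ?_⟩
  · rw [← ev_oneC, add_comm, ← ev_addC]
    exact not_R1 hα ⟨hw.1.1.1, hw.1.1.2, hw.1.2, hw.2⟩ hmin
  rcases hcase with ⟨hl, hs⟩ | ⟨⟨⟨⟨hl, hr⟩, hX⟩, hS⟩, hr'⟩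
  · obtain ⟨h1, h2⟩ := pow_list hα hpw (by omega) hz
    rw [hl] at h1 h2
    exact Or.inl ⟨h1, by rw [← h2, hs, ev_zeroC]⟩
  · obtain ⟨h1, h2⟩ := pow_list hα hpw (by omega) hz
    rw [hl] at h1 h2
    refine Or.inr ⟨h1, ?_⟩
    have hle : Module.finrank K (rg (∑ j ∈ Finset.range 3, ev α (elsThree.getD (i + 1) []) ^ j)) ≤ r := by
      rw [← h2, hS]; exact finrank_code hα hX
    rcases hr' with h3 | ⟨hX', hS'⟩
    · exact Or.inl (hle.trans h3)
    · refine Or.inr ⟨hle.trans hr, ?_⟩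
      rw [← h2, ← ev_oneC, ← ev_addC, hS']
      exact finrank_code hα hX'

/-- The facts about a matrix of order seven. -/
def SevenFact (x : Matrix (Fin 8) (Fin 8) K) : Prop :=
  x ^ 7 = 1 ∧ ((∑ j ∈ Finset.range 7, x ^ j = 0) ∨
    (Module.finrank K (rg (∑ j ∈ Finset.range 7, x ^ j)) ≤ 2 ∧
      ∃ (B Bi : Matrix (Fin 8) (Fin 8) K) (d : Fin 8 → K), B * Bi = 1 ∧ Bi * B = 1 ∧
        x * B = B * Matrix.diagonal d ∧ d 0 = 1 ∧ d 1 = 1 ∧
        (∀ i : Fin 8, 2 ≤ i.val → d i ≠ 1) ∧ ∀ i j : Fin 8, 2 ≤ i.val → 2 ≤ j.val → d i = d j → i = j))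

theorem seven_elements (hα : α ^ 3 = α + 1) {i : ℕ} (hi : i < 49) (h0 : i ≠ 0) :
    SevenFact (ev α (elsSeven.getD i [])) := by
  obtain ⟨i, rfl⟩ : ∃ j, i = j + 1 := ⟨i - 1, by omega⟩
  have h := seven_cert
  simp only [List.all_eq_true, List.mem_range] at h
  have h := h i (by omega)
  have hz : elsSeven.getD 0 [] = oneC := by
    have := seven_group
    simp only [groupOK, Bool.and_eq_true, beq_iff_eq] at this
    exact this.1.1.1.1.1.2
  generalize certSeven.getD i ([], 0, [], [], [], [], []) = c at h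
  obtain ⟨pw, r, X, Y, B, Bi, d⟩ := c
  simp only [certSevenOK, Bool.and_eq_true, Bool.or_eq_true, decide_eq_true_eq, beq_iff_eq, List.all_eq_true,
    Bool.not_eq_true', beq_eq_false_iff_ne] at h
  obtain ⟨⟨hpw, hl⟩, hcase⟩ := h
  obtain ⟨h1, h2⟩ := pow_list hα hpw (by omega) hz
  rw [hl] at h1 h2
  refine ⟨h1, ?_⟩
  rcases hcase with hs | hfull
  · exact Or.inl (by rw [← h2, hs, ev_zeroC])
  obtain ⟨⟨⟨⟨⟨⟨⟨⟨⟨⟨⟨hr, hX⟩, hS⟩, hB1⟩, hB2⟩, hxB⟩, hdl⟩, hd0⟩, hd1⟩, hdlt⟩, hnd⟩, hne⟩ := hfull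
  refine Or.inr ⟨?_, ev α B, ev α Bi, fun j => el α (d.getD j 0), ?_, ?_, ?_, ?_, ?_, fun j hj e => ?_,
    fun j k hj hk e => ?_⟩
  · rw [← h2, hS]; exact (finrank_code hα hX).trans hr
  · rw [← ev_mulC hα, hB1, ev_oneC]
  · rw [← ev_mulC hα, hB2, ev_oneC]
  · rw [← ev_mulC hα, hxB, ev_mulC hα, ev_diagC]
  · show el α (d.getD 0 0) = 1; rw [hd0]; rfl
  · show el α (d.getD 1 0) = 1; rw [hd1]; rfl
  all_goals
    have hget : ∀ j : Fin 8, (hj : 2 ≤ j.val) → ∃ hh : j.val - 2 < (d.drop 2).length,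
        d.getD j.val 0 = (d.drop 2)[j.val - 2] := by
      intro j hj
      have := j.isLt
      refine ⟨by rw [List.length_drop]; omega, ?_⟩
      rw [List.getElem_drop, List.getD_eq_getElem _ _ (by omega)]
      congr 1
      omega
    have hlt : ∀ j : Fin 8, d.getD j.val 0 < 8 := fun j => by
      rw [List.getD_eq_getElem _ _ (by rw [hdl]; exact j.isLt)]
      exact hdlt _ (List.getElem_mem _)
  · obtain ⟨hh, e'⟩ := hget j hj
    have := el_inj hα (hlt j) (by omega : 1 < 8) (e.trans rfl)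
    rw [e'] at this
    exact (hne _ (List.getElem_mem hh)).1 this
  · obtain ⟨hh, e'⟩ := hget j hj
    obtain ⟨hh', e''⟩ := hget k hk
    have := el_inj hα (hlt j) (hlt k) e
    rw [e', e''] at this
    have := (List.Nodup.getElem_inj_iff hnd).1 this
    exact Fin.ext (by omega)

/-- A witness of a given order. -/
theorem witness_spec (hα : α ^ 3 = α + 1) (hK : Fintype.card K = 8) {n : ℕ} (hn : 1 < n)
    {c : List (ℕ × Mat) × List Mat} (h : witnessOK n c = true) :
    ∃ g : ↥(Tw K), orderOf g = n ∧ ∑ j ∈ Finset.range n, R.M g ^ j = ev α (sumC c.2) := by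
  simp only [witnessOK, Bool.and_eq_true, List.all_eq_true, List.mem_range, beq_iff_eq, Bool.not_eq_true',
    beq_eq_false_iff_ne] at h
  obtain ⟨⟨⟨⟨⟨hch, hl⟩, hf⟩, hlast⟩, hstep⟩, hne⟩ := h
  obtain ⟨g, hg⟩ := chain_mem R hα hK c.1 oneC 1 (by rw [map_one, ev_oneC]) hch
  have key : ∀ k, k < n → R.M (g ^ (k + 1)) = ev α (c.2.getD k []) := by
    intro k
    induction k with
    | zero => intro _; rw [pow_one, hg, hf]
    | succ k ih => intro hk; rw [pow_succ, map_mul, ih (by omega), hg, ← ev_mulC hα, hstep k (by omega)]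
  have hone : g ^ n = 1 := R.M_inj (by
    have := key (n - 1) (by omega)
    rw [Nat.sub_add_cancel (by omega)] at this
    rw [this, hlast, ev_oneC, map_one])
  have hcanon : canon oneC = true := by decide +kernel
  refine ⟨g, (orderOf_eq_iff (by omega)).2 ⟨hone, fun m hm hm0 e => ?_⟩, ?_⟩
  · obtain ⟨m, rfl⟩ : ∃ k, m = k + 1 := ⟨m - 1, by omega⟩
    obtain ⟨hc, hc1⟩ := hne m (by omega)
    refine hc1 (ev_inj hα hc hcanon ?_)
    rw [← key m (by omega), e, map_one, ev_oneC]
  · have hlist : c.2.map (ev α) = (List.range n).map fun k => R.M g ^ (k + 1) :=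
      List.ext_getElem (by simp [hl]) fun k h1 h2 => by
        simp only [List.getElem_map, List.getElem_range]
        rw [← map_pow, key k (by simpa using h2), List.getD_eq_getElem]
    rw [ev_sumC, hlist, ← List.sum_toFinset _ List.nodup_range, List.toFinset_range]
    simp only [pow_succ]
    rw [← Finset.sum_mul, mul_geom_self (by rw [← map_pow, hone, map_one])]

end Cfsg.Agent.TrialityTwo
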