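/-
The sums of powers in eight dimensions over ³D₄(2) respect the element orders.
-/
import Cfsg.Agent.Lib.TrialityTwo.Sylow

set_option autoImplicit false
set_option linter.unusedSectionVars false
set_option maxHeartbeats 1000000

namespace Cfsg.Agent.TrialityTwo

open Cfsg.Agent.Chev Cfsg.Lie
open Matrix

variable {K : Type*} [Field K] [CharP K 2] [Fintype K] (R : Rep8 K) {α : K}

theorem cube_one (hK : Fintype.card K = 8) (c : K) (h : c ^ 3 = 1) : c = 1 := by
  have h0 : c ≠ 0 := by rintro rfl; simp at h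
  have h7 := FiniteField.pow_card_sub_one_eq_one c h0
  rw [hK, show (8 - 1 : ℕ) = 3 + 3 + 1 by rfl, pow_add, pow_add, h] at h7
  simpa using h7

theorem conj_pow {a b z : Matrix (Fin 8) (Fin 8) K} (hab : a * b = 1) (hba : b * a = 1) (j : ℕ) :
    (b * z * a) ^ j = b * z ^ j * a := by
  induction j with
  | zero => rw [pow_zero, pow_zero, mul_one, hba]
  | succ j ih =>
    rw [pow_succ, ih, pow_succ]
    simp only [mul_assoc]
    rw [← mul_assoc a b, hab, one_mul]

theorem conj_sum {a b z : Matrix (Fin 8) (Fin 8) K} (hab : a * b = 1) (hba : b * a = 1) (n : ℕ) :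
    ∑ j ∈ Finset.range n, (b * z * a) ^ j = b * (∑ j ∈ Finset.range n, z ^ j) * a := by
  rw [Finset.mul_sum, Finset.sum_mul]
  exact Finset.sum_congr rfl fun j _ => conj_pow hab hba j

theorem finrank_conj_le (a b z : Matrix (Fin 8) (Fin 8) K) :
    Module.finrank K (rg (b * z * a)) ≤ Module.finrank K (rg z) :=
  ((Submodule.finrank_mono (rg_mul_le (b * z) a)).trans
    (show Module.finrank K (rg (b * z)) ≤ _ by rw [rg_mul]; exact Submodule.finrank_map_le _ _))

theorem ThreeFact.conj {a b z : Matrix (Fin 8) (Fin 8) K} (hab : a * b = 1) (hba : b * a = 1)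
    (h : ThreeFact z) : ThreeFact (b * z * a) := by
  have h1 : (1 : Matrix (Fin 8) (Fin 8) K) = b * 1 * a := by rw [mul_one, hba]
  refine ⟨fun hr => h.1 ?_, ?_⟩
  · have := hr.mul_mul a b
    rwa [mul_add, add_mul, mul_one, hab, ← mul_assoc a, ← mul_assoc a, hab, one_mul, mul_assoc z, hab,
      mul_one] at this
  rcases h.2 with ⟨e, e'⟩ | ⟨e, e'⟩
  · exact Or.inl ⟨by rw [conj_pow hab hba, e, mul_one, hba], by rw [conj_sum hab hba, e', mul_zero, zero_mul]⟩
  · refine Or.inr ⟨by rw [conj_pow hab hba, e, mul_one, hba], ?_⟩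
    rw [conj_sum hab hba]
    rcases e' with e' | ⟨e', e''⟩
    · exact Or.inl ((finrank_conj_le _ _ _).trans e')
    · refine Or.inr ⟨(finrank_conj_le _ _ _).trans e', ?_⟩
      rw [h1, ← add_mul, ← mul_add]
      exact (finrank_conj_le _ _ _).trans e''

theorem SevenFact.conj {a b z : Matrix (Fin 8) (Fin 8) K} (hab : a * b = 1) (hba : b * a = 1)
    (h : SevenFact z) : SevenFact (b * z * a) := by
  refine ⟨by rw [conj_pow hab hba, h.1, mul_one, hba], ?_⟩
  rw [conj_sum hab hba]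
  rcases h.2 with e | ⟨e, B, Bi, d, e1, e2, e3, e4⟩
  · exact Or.inl (by rw [e, mul_zero, zero_mul])
  · refine Or.inr ⟨(finrank_conj_le _ _ _).trans e, b * B, Bi * a, d, ?_, ?_, ?_, e4⟩
    · rw [mul_assoc b, ← mul_assoc B, e1, one_mul, hba]
    · rw [mul_assoc Bi, ← mul_assoc a, hab, one_mul, e2]
    · rw [mul_assoc (b * z), ← mul_assoc a, hab, one_mul, mul_assoc b z, e3, mul_assoc]

theorem getD_zero_three : elsThree.getD 0 [] = oneC := by
  have := three_group
  simp only [groupOK, Bool.and_eq_true, beq_iff_eq] at this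
  exact this.1.1.1.1.1.2

theorem getD_zero_seven : elsSeven.getD 0 [] = oneC := by
  have := seven_group
  simp only [groupOK, Bool.and_eq_true, beq_iff_eq] at this
  exact this.1.1.1.1.1.2

theorem three_fact (hα : α ^ 3 = α + 1) (hK : Fintype.card K = 8) (g : ↥(Tw K)) {a : ℕ} (hg : g ^ (3 ^ a) = 1)
    (h1 : g ≠ 1) : ThreeFact (R.M g) := by
  obtain ⟨c, i, hi, e⟩ := sylow_list R hα hK (p := 3) (n := 4) Nat.prime_three _ _ _ _ three_group
    (by rw [sizes.1]; norm_num) (by rw [card_tw hK]; norm_num) g hg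
  rw [sizes.1] at hi
  have h0 : i ≠ 0 := by
    rintro rfl
    rw [getD_zero_three, ev_oneC, ← map_one R.M] at e
    exact h1 (conj_eq_one_iff.1 (R.M_inj e))
  have hh := (three_elements hα hi h0).conj (a := R.M c) (b := R.M c⁻¹)
    (by rw [← map_mul, mul_inv_cancel, map_one]) (by rw [← map_mul, inv_mul_cancel, map_one])
  rw [← e, ← map_mul, ← map_mul, show c⁻¹ * (c * g * c⁻¹) * c = g by group] at hh
  exact hh

theorem seven_fact (hα : α ^ 3 = α + 1) (hK : Fintype.card K = 8) (g : ↥(Tw K)) {a : ℕ} (hg : g ^ (7 ^ a) = 1)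
    (h1 : g ≠ 1) : SevenFact (R.M g) := by
  obtain ⟨c, i, hi, e⟩ := sylow_list R hα hK (p := 7) (n := 2) (by norm_num) _ _ _ _ seven_group
    (by rw [sizes.2.1]; norm_num) (by rw [card_tw hK]; norm_num) g hg
  rw [sizes.2.1] at hi
  have h0 : i ≠ 0 := by
    rintro rfl
    rw [getD_zero_seven, ev_oneC, ← map_one R.M] at e
    exact h1 (conj_eq_one_iff.1 (R.M_inj e))
  have hh := (seven_elements hα hi h0).conj (a := R.M c) (b := R.M c⁻¹)
    (by rw [← map_mul, mul_inv_cancel, map_one]) (by rw [← map_mul, inv_mul_cancel, map_one])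
  rw [← e, ← map_mul, ← map_mul, show c⁻¹ * (c * g * c⁻¹) * c = g by group] at hh
  exact hh

theorem fix_pow {y P : Matrix (Fin 8) (Fin 8) K} (h : y * P = P) (j : ℕ) : y ^ j * P = P := by
  induction j with
  | zero => rw [pow_zero, one_mul]
  | succ j ih => rw [pow_succ, mul_assoc, h, ih]

theorem kill {y P : Matrix (Fin 8) (Fin 8) K} (h : y * P = P) {o : ℕ} (ho : Odd o)
    (hs : ∑ i ∈ Finset.range o, y ^ i = 0) : P = 0 := by
  have h1 : (∑ i ∈ Finset.range o, y ^ i) * P = o • P := by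
    rw [Finset.sum_mul, Finset.sum_congr rfl fun i _ => fix_pow h i, Finset.sum_const, Finset.card_range]
  rw [hs, zero_mul] at h1
  obtain ⟨c, rfl⟩ := ho
  rw [add_nsmul, Nat.mul_comm, mul_nsmul, two_nsmul, one_nsmul] at h1
  simpa [CharTwo.add_self_eq_zero] using h1.symm

theorem thirteen_fixed (hα : α ^ 3 = α + 1) (hK : Fintype.card K = 8) {y : ↥(Tw K)} (hy : orderOf y = 13)
    {P : Matrix (Fin 8) (Fin 8) K} (hP : R.M y * P = P) : P = 0 := by
  classical
  have h13 := thirteen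
  simp only [Bool.and_eq_true, beq_iff_eq] at h13
  obtain ⟨h, hh, hsum⟩ := witness_spec R hα hK (n := 13) (by norm_num) h13.1
  rw [h13.2, ev_zeroC] at hsum
  haveI : Fact (Nat.Prime 13) := ⟨by norm_num⟩
  have hidx : ¬ 13 ∣ (Subgroup.zpowers h).index := fun hd => by
    have := mul_dvd_mul_left 13 hd
    rw [show 13 * (Subgroup.zpowers h).index = Nat.card (Subgroup.zpowers h) * (Subgroup.zpowers h).index by
      rw [Nat.card_zpowers, hh], Subgroup.card_mul_index, card_tw hK] at this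
    norm_num at this
  obtain ⟨T, hT⟩ := (IsPGroup.of_card (p := 13) (n := 1)
    (show Nat.card (Subgroup.zpowers y) = 13 ^ 1 by rw [Nat.card_zpowers, hy, pow_one])).exists_le_sylow
  obtain ⟨c, hc⟩ := MulAction.exists_smul_eq ↥(Tw K) T ((IsPGroup.of_card (p := 13) (n := 1)
    (show Nat.card (Subgroup.zpowers h) = 13 ^ 1 by rw [Nat.card_zpowers, hh, pow_one])).toSylow hidx)
  have hcU : c * y * c⁻¹ ∈ Subgroup.zpowers h := by
    have h1 : c * y * c⁻¹ ∈ ((c • T : Sylow 13 ↥(Tw K)) : Subgroup ↥(Tw K)) := by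
      rw [Sylow.coe_subgroup_smul, Subgroup.mem_pointwise_smul_iff_inv_smul_mem]
      simpa [mul_assoc] using hT (Subgroup.mem_zpowers y)
    rw [hc] at h1
    exact h1
  have hne : c * y * c⁻¹ ≠ 1 := fun e => by
    rw [conj_eq_one_iff.1 e, orderOf_one] at hy
    omega
  have hmem : h ∈ Submonoid.powers (c * y * c⁻¹) := by
    rw [mem_powers_iff_mem_zpowers]
    exact mem_zpowers_of_prime_card (p := 13)
      (G := ↥(Subgroup.zpowers h)) (g := ⟨_, hcU⟩) (g' := ⟨h, Subgroup.mem_zpowers h⟩)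
      (by rw [Nat.card_zpowers, hh]) (fun e => hne (congrArg Subtype.val e)) |> fun hz => by
        obtain ⟨z, hz⟩ := hz
        exact ⟨z, congrArg Subtype.val hz⟩
  obtain ⟨j, hj⟩ := hmem
  have hQ : R.M h * (R.M c * P) = R.M c * P := by
    rw [← hj, map_pow]
    refine fix_pow ?_ j
    rw [← mul_assoc, ← map_mul, show c * y * c⁻¹ * c = c * y by group, map_mul, mul_assoc, hP]
  have h0 := kill hQ (o := 13) (by decide) hsum
  have := congrArg (R.M c⁻¹ * ·) h0
  simpa [← mul_assoc, ← map_mul] using this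

/-- Commuting elements of order seven and three with a common fixed vector. -/
theorem seven_three (hK : Fintype.card K = 8) {s t : Matrix (Fin 8) (Fin 8) K}
    {B Bi : Matrix (Fin 8) (Fin 8) K} {d : Fin 8 → K} (hB : B * Bi = 1) (hB' : Bi * B = 1)
    (hs : s * B = B * diagonal d) (hd2 : ∀ i : Fin 8, 2 ≤ i.val → d i ≠ 1)
    (hinj : ∀ i j : Fin 8, 2 ≤ i.val → 2 ≤ j.val → d i = d j → i = j) (hd0 : d 0 = 1) (hd1 : d 1 = 1)
    (hst : Commute s t) (ht : t ^ 3 = 1) {w : Fin 8 → K} (hw : w ≠ 0) (hsw : s *ᵥ w = w) (htw : t *ᵥ w = w) :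
    R1 (1 + t) := by
  set T := Bi * t * B with hT
  have hD : Bi * s * B = diagonal d := by rw [mul_assoc, hs, ← mul_assoc, hB', one_mul]
  have hcomm : Commute (diagonal d) T := by
    have key : ∀ x y : Matrix (Fin 8) (Fin 8) K, Bi * x * B * (Bi * y * B) = Bi * (x * y) * B := fun x y => by
      simp only [mul_assoc]
      rw [← mul_assoc B Bi, hB, one_mul]
    rw [← hD, Commute, SemiconjBy, key, key, hst.eq]
  have hoff : ∀ i j, d i ≠ d j → T i j = 0 := fun i j hij => by
    have := congrFun (congrFun hcomm.eq i) j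
    rw [diagonal_mul, mul_diagonal] at this
    have h2 : (d i - d j) * T i j = 0 := by linear_combination this
    exact (mul_eq_zero.1 h2).resolve_left (sub_ne_zero.2 hij)
  have hlow : ∀ i : Fin 8, i.val < 2 → d i = 1 := fun i hi => by
    rcases (show i = 0 ∨ i = 1 by
      rcases (show i.val = 0 ∨ i.val = 1 by omega) with e | e
      · exact Or.inl (Fin.ext e)
      · exact Or.inr (Fin.ext e)) with rfl | rfl <;> assumption
  have hsep : ∀ i j : Fin 8, 2 ≤ i.val → i ≠ j → d i ≠ d j := fun i j hi hij e => by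
    rcases Nat.lt_or_ge j.val 2 with hj | hj
    · exact hd2 i hi (e.trans (hlow j hj))
    · exact hij (hinj i j hi hj e)
  have hdiag : ∀ i : Fin 8, 2 ≤ i.val → T i i = 1 := fun i hi => by
    refine cube_one hK _ ?_
    have h3 : T ^ 3 = 1 := by rw [hT, conj_pow hB hB', ht, mul_one, hB']
    have hz : ∀ k, k ≠ i → T i k = 0 := fun k hk => hoff i k (hsep i k hi (Ne.symm hk))
    have := congrFun (congrFun h3 i) i
    rw [pow_succ', mul_apply, Finset.sum_eq_single i (fun k _ hk => by rw [hz k hk, zero_mul]) (by simp),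
      pow_two, mul_apply, Finset.sum_eq_single i (fun k _ hk => by rw [hz k hk, zero_mul]) (by simp),
      Matrix.one_apply_eq] at this
    linear_combination this
  have hA : ∀ i j : Fin 8, (2 ≤ i.val ∨ 2 ≤ j.val) → (1 + T) i j = 0 := fun i j h => by
    rw [Matrix.add_apply]
    by_cases e : i = j
    · subst e
      rw [Matrix.one_apply_eq, hdiag i (by omega), CharTwo.add_self_eq_zero]
    · rw [Matrix.one_apply_ne e, zero_add]
      rcases h with h | h
      · exact hoff i j (hsep i j h e)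
      · exact hoff i j fun e' => hsep j i h (Ne.symm e) e'.symm
  have hv : Bi *ᵥ w ≠ 0 := fun e => hw (by
    rw [← Matrix.one_mulVec w, ← hB, ← Matrix.mulVec_mulVec, e, Matrix.mulVec_zero])
  set v := Bi *ᵥ w with hvd
  have hfix : ∀ x, x *ᵥ w = w → (Bi * x * B) *ᵥ v = v := fun x hx => by
    rw [hvd, ← Matrix.mulVec_mulVec, Matrix.mulVec_mulVec _ B Bi, hB, Matrix.one_mulVec, ← Matrix.mulVec_mulVec, hx]
  have hv2 : ∀ i : Fin 8, 2 ≤ i.val → v i = 0 := fun i hi => by
    have := congrFun (hfix s hsw) i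
    rw [hD, Matrix.mulVec_diagonal] at this
    have h2 : (d i - 1) * v i = 0 := by linear_combination this
    exact (mul_eq_zero.1 h2).resolve_left (sub_ne_zero.2 (hd2 i hi))
  have hzero : ∀ i, (1 + T) i 0 * v 0 + (1 + T) i 1 * v 1 = 0 := fun i => by
    have h0 : (1 + T) *ᵥ v = 0 := by
      rw [Matrix.add_mulVec, Matrix.one_mulVec, hT, hfix t htw]
      exact funext fun i => CharTwo.add_self_eq_zero (v i)
    have h2 := congrFun h0 i
    simp only [Matrix.mulVec, dotProduct, Fin.sum_univ_eight, Pi.zero_apply] at h2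
    rw [hv2 2 (by decide), hv2 3 (by decide), hv2 4 (by decide), hv2 5 (by decide), hv2 6 (by decide),
      hv2 7 (by decide)] at h2
    linear_combination h2
  have hT1 : R1 (1 + T) := by
    by_cases h0 : v 0 = 0
    · have h1 : v 1 ≠ 0 := fun h1 => hv (funext fun i => by
        by_cases hi : 2 ≤ i.val
        · exact hv2 i hi
        · rcases (show i = 0 ∨ i = 1 by
            rcases (show i.val = 0 ∨ i.val = 1 by omega) with e | e
            · exact Or.inl (Fin.ext e)
            · exact Or.inr (Fin.ext e)) with rfl | rfl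
          · exact h0
          · exact h1)
      refine ⟨fun i => (1 + T) i 0, fun j => if j = 0 then 1 else 0, ?_⟩
      ext i j
      rw [vecMulVec_apply]
      by_cases hj : j = 0
      · simp [hj]
      · rw [if_neg hj, mul_zero]
        by_cases hj1 : j = 1
        · subst hj1
          have := hzero i
          rw [h0, mul_zero, zero_add] at this
          exact (mul_eq_zero.1 this).resolve_right h1
        · refine hA i j (Or.inr ?_)
          have hne : j.val ≠ 0 ∧ j.val ≠ 1 := ⟨fun e => hj (Fin.ext e), fun e => hj1 (Fin.ext e)⟩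
          omega
    · refine ⟨fun i => (1 + T) i 1, fun j => if j = 0 then -(v 1) / v 0 else if j = 1 then 1 else 0, ?_⟩
      ext i j
      rw [vecMulVec_apply]
      by_cases hj : j = 0
      · subst hj
        rw [if_pos rfl]
        have := hzero i
        field_simp
        linear_combination this
      · rw [if_neg hj]
        by_cases hj1 : j = 1
        · simp [hj1]
        · rw [if_neg hj1, mul_zero]
          refine hA i j (Or.inr ?_)
          have hne : j.val ≠ 0 ∧ j.val ≠ 1 := ⟨fun e => hj (Fin.ext e), fun e => hj1 (Fin.ext e)⟩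
          omega
  have := hT1.mul_mul B Bi
  rwa [hT, mul_add, add_mul, mul_one, hB, ← mul_assoc B, ← mul_assoc B, hB, one_mul, mul_assoc t, hB,
    mul_one] at this

include R in
theorem exists_witness (hα : α ^ 3 = α + 1) (hK : Fintype.card K = 8) {n : ℕ}
    (hn : n ∈ [2, 4, 6, 8, 12, 14, 18, 28]) : n ∈ Set.range (orderOf : ↥(Tw K) → ℕ) := by
  have h := witness_all
  simp only [List.all_eq_true, List.mem_range] at h
  obtain ⟨i, hi, rfl⟩ := List.getElem_of_mem hn
  have hi8 : i < 8 := by simpa using hi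
  have hi' := h i hi8
  rw [List.getD_eq_getElem _ _ hi] at hi'
  have h1 : 1 < [2, 4, 6, 8, 12, 14, 18, 28][i] := by
    revert i
    decide +kernel
  obtain ⟨g, hg, -⟩ := witness_spec R hα hK h1 hi'
  exact ⟨g, hg⟩

/-- The order of an element doubles only within the spectrum. -/
theorem double_mem (hα : α ^ 3 = α + 1) (hK : Fintype.card K = 8) (g : ↥(Tw K))
    (hS : ∑ i ∈ Finset.range (orderOf g), R.M g ^ i ≠ 0) :
    2 * orderOf g ∈ Set.range (orderOf : ↥(Tw K) → ℕ) := by
  classical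
  obtain ⟨k, m, hm, hn⟩ := Nat.exists_eq_two_pow_mul_odd (orderOf_pos g).ne'
  rw [Nat.mul_comm] at hn
  have hcop : Nat.Coprime (2 ^ k) m := Nat.Coprime.pow_left k (Nat.coprime_two_left.2 hm)
  obtain ⟨e₀, he1, he2⟩ := Nat.chineseRemainder hcop 1 0
  have hmq : 0 < m * 2 ^ k := Nat.mul_pos hm.pos (by positivity)
  set e := e₀ + m * 2 ^ k with hed
  have hme : m ∣ e := dvd_add (Nat.modEq_zero_iff_dvd.1 he2) (dvd_mul_right _ _)
  obtain ⟨c, hc⟩ : ∃ c, e = 1 + c * 2 ^ k := by
    have h1 : 1 ≡ e [MOD 2 ^ k] := (he1.symm.trans (Nat.modEq_iff_dvd' (Nat.le_add_right _ _) |>.2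
      (by rw [Nat.add_sub_cancel_left]; exact dvd_mul_left _ _)))
    obtain ⟨c, hc⟩ := (Nat.modEq_iff_dvd' (by omega)).1 h1
    exact ⟨c, by rw [Nat.mul_comm c]; omega⟩
  have hg1 : g ^ (m * 2 ^ k) = 1 := by rw [← hn, pow_orderOf_eq_one]
  rw [hn, geom_decomp (R.M g) m k e c (by rw [← map_pow, hg1, map_one]) hc, ← map_pow, ← map_pow] at hS
  set x := g ^ 2 ^ k with hxd
  set u := g ^ e with hud
  set P := ∑ b ∈ Finset.range m, R.M x ^ b with hPd
  have hxm : orderOf x = m := by
    rw [hxd, orderOf_pow' _ (by positivity), hn, Nat.gcd_eq_right (dvd_mul_left _ _), Nat.mul_div_cancel _ (by positivity)]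
  have hxM : R.M x ^ m = 1 := by rw [← map_pow, ← hxm, pow_orderOf_eq_one, map_one]
  have hP : P ≠ 0 := fun h => hS (by rw [h, zero_mul])
  have hxP : R.M x * P = P := by
    rw [(Commute.sum_right _ _ _ fun b _ => (Commute.refl (R.M x)).pow_right b : Commute (R.M x) P).eq]
    exact mul_geom_self hxM
  have hfix : ∀ j, R.M (x ^ j) * P = P := fun j => by rw [map_pow]; exact fix_pow hxP j
  have hu : ∃ j, orderOf u = 2 ^ j := by
    have : u ^ 2 ^ k = 1 := by
      rw [hud, ← pow_mul]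
      obtain ⟨r, hr⟩ := hme
      rw [hr, show m * r * 2 ^ k = m * 2 ^ k * r by ring, pow_mul, hg1, one_pow]
    obtain ⟨j, -, hj⟩ := (Nat.dvd_prime_pow Nat.prime_two).1 (orderOf_dvd_of_pow_eq_one this)
    exact ⟨j, hj⟩
  obtain ⟨j, hj⟩ := hu
  obtain ⟨hN7, hR1⟩ := two_element R hK u hj
  set N := 1 + R.M u with hNd
  have hN8 : N ^ 8 = 0 := by rw [pow_succ, hN7, zero_mul]
  have hgu : Commute (R.M x) (R.M u) := (Commute.pow_pow (Commute.refl g) _ _).map R.M
  have hxN : Commute (R.M x) N := (Commute.one_right _).add_right hgu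
  have hNP : Commute N P := Commute.sum_right _ _ _ fun b _ => hxN.symm.pow_right b
  have hk : k ≤ 2 := by
    by_contra hk
    refine hS ?_
    have : 7 ≤ 2 ^ k - 1 := by
      have := Nat.pow_le_pow_right (show 2 > 0 by omega) (show 3 ≤ k by omega)
      omega
    rw [show 2 ^ k - 1 = 7 + (2 ^ k - 1 - 7) by omega, pow_add, hN7, zero_mul, mul_zero]
  have hm13 : ¬ 13 ∣ m := fun h => hP (by
    refine thirteen_fixed R hα hK (y := x ^ (m / 13)) ?_ (hfix _)
    rw [← hxm, orderOf_pow_orderOf_div (orderOf_pos x).ne' (hxm ▸ h)])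
  have hdvd : m ∣ 3 ^ 4 * 7 ^ 2 := by
    have h1 : orderOf g ∣ 2 ^ 12 * 3 ^ 4 * 7 ^ 2 * 13 := card_tw (K := K) hK ▸ orderOf_dvd_natCard g
    rw [hn] at h1
    have h2 : m ∣ 2 ^ 12 * (13 * (3 ^ 4 * 7 ^ 2)) := by
      have := (dvd_mul_right m (2 ^ k)).trans h1
      rwa [show ∀ A B C D : ℕ, A * B * C * D = A * (D * (B * C)) from fun A B C D => by ring] at this
    have h3 := Nat.Coprime.dvd_of_dvd_mul_left (Nat.Coprime.pow_right 12 (Nat.coprime_two_right.2 hm)) h2
    exact Nat.Coprime.dvd_of_dvd_mul_left (Nat.Coprime.symm ((Nat.Prime.coprime_iff_not_dvd (by norm_num)).2 hm13)) h3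
  obtain ⟨m3, m7, h3, h7, hm37⟩ := exists_dvd_and_dvd_of_dvd_mul hdvd
  obtain ⟨a, -, rfl⟩ := (Nat.dvd_prime_pow Nat.prime_three).1 h3
  obtain ⟨b, -, rfl⟩ := (Nat.dvd_prime_pow (by norm_num : Nat.Prime 7)).1 h7
  have hx7 : (x ^ 3 ^ a) ^ 7 ^ b = 1 := by rw [← pow_mul, ← hm37, ← hxm, pow_orderOf_eq_one]
  have hx3 : (x ^ 7 ^ b) ^ 3 ^ a = 1 := by rw [← pow_mul, Nat.mul_comm, ← hm37, ← hxm, pow_orderOf_eq_one]
  have h3' : (x ^ 7 ^ b) ^ 3 = 1 := by
    by_cases h1 : x ^ 7 ^ b = 1
    · rw [h1, one_pow]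
    rcases (three_fact R hα hK _ hx3 h1).2 with ⟨-, h9⟩ | ⟨h, -⟩
    · exact absurd (kill (hfix _) (by decide) h9) hP
    · exact R.M_inj (by rw [map_pow, h, map_one])
  have h7' : (x ^ 3 ^ a) ^ 7 = 1 := by
    by_cases h1 : x ^ 3 ^ a = 1
    · rw [h1, one_pow]
    exact R.M_inj (by rw [map_pow, (seven_fact R hα hK _ hx7 h1).1, map_one])
  have hm21 : m ∣ 21 := by
    have d1 : m ∣ 7 ^ b * 3 := hxm ▸ orderOf_dvd_of_pow_eq_one (by rw [pow_mul, h3'])
    have d2 : m ∣ 3 ^ a * 7 := hxm ▸ orderOf_dvd_of_pow_eq_one (by rw [pow_mul, h7'])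
    have hg : m ∣ Nat.gcd (7 ^ b * 3) (3 ^ a * 7) := Nat.dvd_gcd d1 d2
    refine hg.trans ?_
    have : a ≤ 4 ∧ b ≤ 2 := ⟨(Nat.pow_dvd_pow_iff_le_right (by norm_num)).1 h3,
      (Nat.pow_dvd_pow_iff_le_right (by norm_num)).1 h7⟩
    obtain ⟨ha4, hb2⟩ := this
    interval_cases a <;> interval_cases b <;> decide +kernel
  have hm21' : m ≠ 21 := by
    rintro rfl
    have hy7 : x ^ 3 ≠ 1 := fun h => by have := orderOf_dvd_of_pow_eq_one h; rw [hxm] at this; norm_num at this
    have hy3 : x ^ 7 ≠ 1 := fun h => by have := orderOf_dvd_of_pow_eq_one h; rw [hxm] at this; norm_num at this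
    have e21 : x ^ 21 = 1 := by rw [← hxm, pow_orderOf_eq_one]
    have t3 : (x ^ 7) ^ 3 = 1 := by rw [← pow_mul, e21]
    have t7 : (x ^ 3) ^ 7 = 1 := by rw [← pow_mul, e21]
    obtain ⟨-, hs | ⟨-, B, Bi, d, e1, e2, e3, e4, e5, e6, e7⟩⟩ := seven_fact R hα hK (x ^ 3) (a := 1) t7 hy7
    · exact hP (kill (hfix 3) (by decide) hs)
    obtain ⟨i₀, j₀, hij⟩ : ∃ i j, P i j ≠ 0 := by
      by_contra h
      push Not at h
      exact hP (Matrix.ext h)
    have hw : (fun i => P i j₀) ≠ 0 := fun h => hij (congrFun h i₀)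
    have hcol : ∀ M : Matrix (Fin 8) (Fin 8) K, M * P = P → M *ᵥ (fun i => P i j₀) = fun i => P i j₀ :=
      fun M h => funext fun i => (congrFun (congrFun h i) j₀)
    exact (three_fact R hα hK (x ^ 7) (a := 1) t3 hy3).1 (seven_three hK e1 e2 e3 e6 e7 e4 e5
      ((Commute.pow_pow (Commute.refl x) 3 7).map R.M) (by rw [← map_pow, t3, map_one]) hw
      (hcol _ (hfix 3)) (hcol _ (hfix 7)))
  have hmcase : m = 1 ∨ m = 3 ∨ m = 7 := by
    have := Nat.le_of_dvd (by norm_num) hm21
    interval_cases m <;> omega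
  have hsimple : ¬ (k = 2 ∧ m = 7) ∧ ¬ (k = 2 ∧ m = 3) := by
    refine ⟨?_, ?_⟩
    · rintro ⟨rfl, rfl⟩
      have hne : x ≠ 1 := fun h => by rw [h, orderOf_one] at hxm; omega
      rcases (seven_fact R hα hK x (a := 1) (by rw [pow_one, ← hxm, pow_orderOf_eq_one]) hne).2 with hs | ⟨hr, -⟩
      · exact hP hs
      · refine hS ?_
        have := pow_mul_eq_zero hN8 hNP hr
        rw [← (hNP.pow_left _).eq, show 2 ^ 2 - 1 = 1 + 2 by rfl, pow_add, mul_assoc, this, mul_zero]
    · rintro ⟨rfl, rfl⟩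
      have hne : x ≠ 1 := fun h => by rw [h, orderOf_one] at hxm; omega
      have e3 : (1 : Matrix (Fin 8) (Fin 8) K) + R.M x + R.M x ^ 2 = P := by
        simp [hPd, Finset.sum_range_succ]
      refine hS ?_
      rw [← (hNP.pow_left _).eq, show 2 ^ 2 - 1 = 3 by rfl]
      rcases (three_fact R hα hK x (a := 1) (by rw [pow_one, ← hxm, pow_orderOf_eq_one]) hne).2 with
        ⟨-, h9⟩ | ⟨-, hr | ⟨hr, hr'⟩⟩
      · exact absurd (kill hxP (by decide) h9) hP
      · exact pow_mul_eq_zero hN8 hNP hr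
      · have hPP : P * P = P := geom_idem hm hxM
        have hQ := cube_moved_zero (cube_one hK) (s := R.M x) (N := N) (Q := 1 + P) (by rw [e3])
          (by rw [e3]; exact hPP) hxM hxN hN8 hr'
        rw [mul_add, mul_one] at hQ
        have hcube : N ^ 3 = N ^ 3 * P := by
          rw [← sub_eq_zero, CharTwo.sub_eq_add]; exact hQ
        have hle := finrank_pow_le hN8 hNP hr 3
        rw [← hcube, hR1 (hcube ▸ R1_of_finrank hle)]
  rw [hn]
  refine exists_witness R hα hK ?_
  rcases hmcase with rfl | rfl | rfl <;> interval_cases k <;> first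
    | exact absurd ⟨rfl, rfl⟩ hsimple.1
    | exact absurd ⟨rfl, rfl⟩ hsimple.2
    | decide

end Cfsg.Agent.TrialityTwo
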